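import Mathlib

/-!
Weights of abelian groups of operators normalised by a fixed-point-free group.
-/

set_option autoImplicit false

namespace Cfsg.Agent.Lib.Solvable.FPF

open Module

variable {k : Type*} [Field k] {W : Type*} [AddCommGroup W] [Module k W]

/-- Vectors of pairwise distinct weights with sum zero are zero. -/
theorem eq_zero_of_sum_eq_zero {ι Z : Type*} (f : Z → End k W) (s : Finset ι) (w : ι → W)
    (χ : ι → Z → k) (hw : ∀ i ∈ s, ∀ z, f z (w i) = χ i z • w i)
    (hd : ∀ i ∈ s, ∀ j ∈ s, χ i = χ j → i = j) (hsum : ∑ i ∈ s, w i = 0) : ∀ i ∈ s, w i = 0 := by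
  classical
  induction s using Finset.strongInduction generalizing w with
  | H s ih =>
  intro i hi
  by_cases hj : ∃ j ∈ s, j ≠ i
  · obtain ⟨j, hj, hji⟩ := hj
    obtain ⟨z, hz⟩ := Function.ne_iff.mp fun e => hji (hd j hj i hi e)
    have h1 : ∑ l ∈ s.erase j, (χ l z - χ j z) • w l = 0 := by
      rw [Finset.sum_erase_eq_sub hj, sub_self, zero_smul, sub_zero]
      calc ∑ l ∈ s, (χ l z - χ j z) • w l = ∑ l ∈ s, (f z (w l) - χ j z • w l) := by
            refine Finset.sum_congr rfl fun l hl => ?_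
            rw [sub_smul, hw l hl z]
        _ = f z (∑ l ∈ s, w l) - χ j z • ∑ l ∈ s, w l := by
            rw [Finset.sum_sub_distrib, map_sum, Finset.smul_sum]
        _ = 0 := by rw [hsum, map_zero, smul_zero, sub_zero]
    have h2 := ih (s.erase j) (Finset.erase_ssubset hj) (fun l => (χ l z - χ j z) • w l)
      (fun l hl y => by
        rw [map_smul, hw l (Finset.mem_of_mem_erase hl) y, smul_comm])
      (fun a ha b hb => hd a (Finset.mem_of_mem_erase ha) b (Finset.mem_of_mem_erase hb)) h1 i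
      (Finset.mem_erase.mpr ⟨hji.symm, hi⟩)
    exact (smul_eq_zero.mp h2).resolve_left (sub_ne_zero.mpr (Ne.symm hz))
  · push Not at hj
    rw [Finset.sum_eq_single i (fun l hl hne => absurd (hj l hl) hne) (fun h => absurd hi h)] at hsum
    exact hsum

/-- A nontrivial operator of order prime to the characteristic has a nontrivial eigenvalue. -/
theorem exists_eigenvalue_ne_one [IsAlgClosed k] [FiniteDimensional k W] (f : End k W) {n : ℕ}
    (hn : (n : k) ≠ 0) (hf : f ^ n = 1) (h1 : f ≠ 1) :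
    ∃ μ : k, μ ≠ 1 ∧ ∃ w : W, w ≠ 0 ∧ f w = μ • w := by
  set g : End k W := ∑ i ∈ Finset.range n, f ^ i with hg
  have hgf : g * (f - 1) = 0 := by rw [hg, geom_sum_mul, hf, sub_self]
  have hfg : f * g = g := by
    have h2 : (f - 1) * g = 0 := by rw [hg, mul_geom_sum, hf, sub_self]
    rwa [sub_mul, one_mul, sub_eq_zero] at h2
  have hker : LinearMap.ker g ≠ ⊥ := by
    intro h
    refine h1 (sub_eq_zero.mp (LinearMap.ext fun x => ?_))
    have : (f - 1) x ∈ LinearMap.ker g := congrArg (fun e : End k W => e x) hgf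
    rw [h, Submodule.mem_bot] at this
    exact this
  haveI := Submodule.nontrivial_iff_ne_bot.mpr hker
  have hinv : ∀ x ∈ LinearMap.ker g, f x ∈ LinearMap.ker g := fun x hx => by
    rw [LinearMap.mem_ker] at hx ⊢
    have hc : g * f = f * g := by
      rw [hg, Finset.sum_mul, Finset.mul_sum]
      exact Finset.sum_congr rfl fun i _ => (pow_succ f i).symm.trans (pow_succ' f i)
    calc g (f x) = (g * f) x := rfl
      _ = f (g x) := by rw [hc]; rfl
      _ = 0 := by rw [hx, map_zero]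
  obtain ⟨μ, hμ⟩ := End.exists_eigenvalue (f.restrict hinv)
  obtain ⟨⟨w, hwm⟩, hw⟩ := hμ.exists_hasEigenvector
  have hfw : f w = μ • w := congrArg Subtype.val (End.mem_eigenspace_iff.mp hw.1)
  have hw0 : w ≠ 0 := fun e => hw.2 (Subtype.ext e)
  refine ⟨μ, fun e => ?_, w, hw0, hfw⟩
  subst e
  rw [one_smul] at hfw
  rw [LinearMap.mem_ker, hg, LinearMap.sum_apply] at hwm
  have hpow : ∀ i : ℕ, (f ^ i) w = w := by
    intro i
    induction i with
    | zero => rfl
    | succ i ih => rw [pow_succ, End.mul_apply, hfw, ih]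
  simp only [hpow, Finset.sum_const, Finset.card_range, ← Nat.cast_smul_eq_nsmul k] at hwm
  exact hw0 ((smul_eq_zero.mp hwm).resolve_left hn)

/-- Commuting operators have a common eigenvector in every nonzero invariant subspace. -/
theorem exists_common_eigenvector [IsAlgClosed k] [FiniteDimensional k W] {Z : Type*}
    (f : Z → End k W) (hc : ∀ a b, Commute (f a) (f b)) :
    ∀ (n : ℕ) (U : Submodule k W), finrank k U = n → U ≠ ⊥ → (∀ z, ∀ x ∈ U, f z x ∈ U) →
      ∃ (χ : Z → k) (w : W), w ∈ U ∧ w ≠ 0 ∧ ∀ z, f z w = χ z • w := by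
  intro n
  induction n using Nat.strongRecOn with
  | ind n ih =>
  intro U hU hne hinv
  haveI := Submodule.nontrivial_iff_ne_bot.mpr hne
  have hev : ∀ z, ∃ μ : k, ∃ x ∈ U, x ≠ 0 ∧ f z x = μ • x := fun z => by
    obtain ⟨μ, hμ⟩ := End.exists_eigenvalue ((f z).restrict (hinv z))
    obtain ⟨⟨x, hx⟩, hxv⟩ := hμ.exists_hasEigenvector
    exact ⟨μ, x, hx, fun e => hxv.2 (Subtype.ext e),
      congrArg Subtype.val (End.mem_eigenspace_iff.mp hxv.1)⟩
  choose μ x hxU hx0 hx using hev
  by_cases hall : ∀ z, U ≤ End.eigenspace (f z) (μ z)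
  · obtain ⟨w, hw, hw0⟩ := (Submodule.ne_bot_iff U).mp hne
    exact ⟨μ, w, hw, hw0, fun z => End.mem_eigenspace_iff.mp (hall z hw)⟩
  · push Not at hall
    obtain ⟨z, hz⟩ := hall
    have hlt : U ⊓ End.eigenspace (f z) (μ z) < U :=
      lt_of_le_of_ne inf_le_left fun e => hz (e ▸ inf_le_right)
    obtain ⟨χ, w, hw, hw0, hwz⟩ := ih _ (hU ▸ Submodule.finrank_lt_finrank_of_lt hlt)
      (U ⊓ End.eigenspace (f z) (μ z)) rfl
      ((Submodule.ne_bot_iff _).mpr ⟨x z, ⟨hxU z, End.mem_eigenspace_iff.mpr (hx z)⟩, hx0 z⟩)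
      (fun a y hy => ⟨hinv a y hy.1, by
        rw [SetLike.mem_coe, End.mem_eigenspace_iff]
        calc f z (f a y) = (f z * f a) y := rfl
          _ = f a (f z y) := by rw [(hc z a).eq]; rfl
          _ = μ z • f a y := by rw [End.mem_eigenspace_iff.mp hy.2, map_smul]⟩)
    exact ⟨χ, w, hw.1, hw0, hwz⟩

section Weights

variable [IsAlgClosed k] [FiniteDimensional k W] {Γ : Type*} [Group Γ] [Finite Γ]
  (ρ : Γ →* End k W)

/-- An element of a set of commuting operators acting nontrivially has a nontrivial weight. -/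
theorem exists_weight' (Z : Subgroup Γ) (hc : ∀ a ∈ Z, ∀ b ∈ Z, Commute (ρ a) (ρ b))
    {z : Γ} (hz : z ∈ Z) {n : ℕ} (hn : (n : k) ≠ 0) (hpow : ρ z ^ n = 1) (hz1 : ρ z ≠ 1) :
    ∃ (χ : Z → k) (w : W), w ≠ 0 ∧ (∀ y : Z, ρ y w = χ y • w) ∧ χ ⟨z, hz⟩ ≠ 1 := by
  obtain ⟨μ, hμ, w₀, hw₀, hzw⟩ := exists_eigenvalue_ne_one (ρ z) hn hpow hz1
  obtain ⟨χ, w, hw, hw0, hwz⟩ := exists_common_eigenvector (fun y : Z => ρ y)
    (fun a b => hc a a.2 b b.2) _ (End.eigenspace (ρ z) μ) rfl
    ((Submodule.ne_bot_iff _).mpr ⟨w₀, End.mem_eigenspace_iff.mpr hzw, hw₀⟩)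
    (fun y x hx => by
      rw [End.mem_eigenspace_iff] at hx ⊢
      calc ρ z (ρ (y : Γ) x) = (ρ z * ρ (y : Γ)) x := rfl
        _ = ρ (y : Γ) (ρ z x) := by rw [(hc z hz y y.2).eq]; rfl
        _ = μ • ρ (y : Γ) x := by rw [hx, map_smul])
  refine ⟨χ, w, hw0, hwz, fun e => hμ ?_⟩
  have h1 := hwz ⟨z, hz⟩
  rw [e] at h1
  exact (smul_left_injective k hw0) ((End.mem_eigenspace_iff.mp hw).symm.trans h1)

/-- An element of an abelian subgroup acting nontrivially has a nontrivial weight. -/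
theorem exists_weight (Z : Subgroup Γ) (hc : ∀ a ∈ Z, ∀ b ∈ Z, Commute a b)
    (hn : (Nat.card Z : k) ≠ 0) {z : Γ} (hz : z ∈ Z) (hz1 : ρ z ≠ 1) :
    ∃ (χ : Z → k) (w : W), w ≠ 0 ∧ (∀ y : Z, ρ y w = χ y • w) ∧ χ ⟨z, hz⟩ ≠ 1 :=
  exists_weight' ρ Z (fun a ha b hb => (hc a ha b hb).map ρ) hz hn
    (by rw [← map_pow, ← Subgroup.coe_mk Z z hz, ← SubmonoidClass.coe_pow, pow_card_eq_one',
      OneMemClass.coe_one, map_one]) hz1

/-- No orbit of weights is regular: some nontrivial element fixes the weight. -/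
theorem exists_fix_weight (A Z : Subgroup Γ) [Fintype A]
    (hsum : ∑ a : A, ρ a = 0) (hAZ : A ≤ Subgroup.normalizer (Z : Set Γ))
    (χ : Z → k) (w : W) (hw0 : w ≠ 0) (hw : ∀ y : Z, ρ y w = χ y • w) :
    ∃ a ∈ A, a ≠ 1 ∧ ∀ y : Z, ∀ h : a * y * a⁻¹ ∈ Z, χ ⟨a * y * a⁻¹, h⟩ = χ y := by
  classical
  by_contra hno
  push Not at hno
  have hmem : ∀ a : A, ∀ y : Z, (a : Γ)⁻¹ * y * a ∈ Z := fun a y => by
    simpa using (Subgroup.mem_normalizer_iff.mp (inv_mem (hAZ a.2)) y).mp y.2
  let χa : A → Z → k := fun a y => χ ⟨(a : Γ)⁻¹ * y * a, hmem a y⟩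
  have h := eq_zero_of_sum_eq_zero (fun y : Z => ρ y) Finset.univ (fun a : A => ρ a w) χa
    (fun a _ y => by
      have : (y : Γ) * a = a * ((a : Γ)⁻¹ * y * a) := by group
      calc ρ (y : Γ) (ρ (a : Γ) w) = ρ ((y : Γ) * a) w := by rw [map_mul]; rfl
        _ = ρ (a : Γ) (ρ ((a : Γ)⁻¹ * y * a) w) := by rw [this, map_mul]; rfl
        _ = χa a y • ρ (a : Γ) w := by
            rw [hw ⟨_, hmem a y⟩, map_smul])
    (fun a _ b _ hab => by
      by_contra hne
      obtain ⟨y, hy, hne'⟩ := hno ((b : Γ)⁻¹ * a) (mul_mem (inv_mem b.2) a.2)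
        (fun e => hne (Subtype.ext (inv_mul_eq_one.mp e).symm))
      apply hne'
      have hy' : (a : Γ) * y * (a : Γ)⁻¹ ∈ Z :=
        (Subgroup.mem_normalizer_iff.mp (hAZ a.2) y).mp y.2
      have h1 := congrFun hab ⟨_, hy'⟩
      simp only [χa] at h1
      convert h1.symm using 2 <;> exact Subtype.ext (by group))
    (by
      have := congrArg (fun e : End k W => e w) hsum
      simpa [LinearMap.sum_apply] using this)
    1 (Finset.mem_univ _)
  exact hw0 (by simpa using h)

end Weights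

/-- Base change of the automorphisms of an elementary abelian group to an algebraically closed field. -/
theorem exists_representation {V : Type*} [CommGroup V] [Finite V] {s : ℕ} [Fact s.Prime]
    (hV : ∀ v : V, v ^ s = 1) :
    ∃ ρ : MulAut V →* End (AlgebraicClosure (ZMod s))
        (Fin (Nat.log s (Nat.card V)) → AlgebraicClosure (ZMod s)),
      Function.Injective ρ ∧
        ∀ {n m : ℕ} (f : Fin n → MulAut V) (g : Fin m → MulAut V),
          (∀ v : V, ∏ a, f a v = ∏ a, g a v) → ∑ a, ρ (f a) = ∑ a, ρ (g a) := by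
  classical
  haveI : Module (ZMod s) (Additive V) :=
    AddCommGroup.zmodModule fun v => Additive.toMul.injective (hV v.toMul)
  haveI : Module.Finite (ZMod s) (Additive V) := Module.Finite.of_finite
  have hd : finrank (ZMod s) (Additive V) = Nat.log s (Nat.card V) := by
    rw [← Nat.card_congr (Additive.toMul (α := V)), Module.natCard_eq_pow_finrank (K := ZMod s),
      Nat.card_zmod, Nat.log_pow (Fact.out : s.Prime).one_lt]
  let b : Basis (Fin (Nat.log s (Nat.card V))) (ZMod s) (Additive V) :=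
    (Module.finBasis (ZMod s) (Additive V)).reindex (finCongr hd)
  let K := AlgebraicClosure (ZMod s)
  let m : MulAut V →* End (ZMod s) (Additive V) :=
    { toFun := fun a => (MonoidHom.toAdditive (a : V →* V)).toZModLinearMap s
      map_one' := LinearMap.ext fun _ => rfl
      map_mul' := fun _ _ => LinearMap.ext fun _ => rfl }
  let e := (LinearMap.toMatrixAlgEquiv b).toRingEquiv.toRingHom
  let F : End (ZMod s) (Additive V) →+* End K (Fin (Nat.log s (Nat.card V)) → K) :=
    ((Matrix.toLinAlgEquiv' (R := K)).toRingEquiv.toRingHom.comp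
      (RingHom.mapMatrix (algebraMap (ZMod s) K))).comp e
  have hF : Function.Injective F :=
    ((Matrix.toLinAlgEquiv' (R := K)).injective.comp
      (Matrix.map_injective (algebraMap (ZMod s) K).injective)).comp
      (LinearMap.toMatrixAlgEquiv b).injective
  refine ⟨(F : End (ZMod s) (Additive V) →* _).comp m, hF.comp fun a c hac => MulEquiv.ext fun v => ?_,
    fun f g hT => ?_⟩
  · exact Additive.ofMul.injective (congrArg (fun g : End (ZMod s) (Additive V) => g (Additive.ofMul v)) hac)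
  · show ∑ a, F (m (f a)) = ∑ a, F (m (g a))
    rw [← map_sum F, ← map_sum F, show ∑ a, m (f a) = ∑ a, m (g a) from LinearMap.ext fun v => ?_]
    rw [LinearMap.sum_apply, LinearMap.sum_apply]
    exact Additive.toMul.injective (by rw [toMul_sum, toMul_sum]; exact hT v.toMul)

end Cfsg.Agent.Lib.Solvable.FPF
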