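import Mathlib
import Cfsg.Agent.Lib.Cores

/-!
Elementary facts about fixed-point-free automorphisms.
-/

set_option autoImplicit false

namespace Cfsg.Agent.Lib.Solvable.FPF

open Cfsg.Agent.Lib

variable {G : Type*} [Group G] [Finite G]

theorem mem_of_inv_mul_mem {σ : MulAut G} (hfpf : ∀ g, σ g = g → g = 1) {N : Subgroup G}
    (hN : ∀ n ∈ N, σ n ∈ N) {g : G} (hg : g⁻¹ * σ g ∈ N) : g ∈ N := by
  have hinj : Function.Injective (fun n : N => (⟨(n : G)⁻¹ * σ n, mul_mem (inv_mem n.2) (hN n n.2)⟩ : N)) := by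
    intro a b hab
    have h1 : (a : G)⁻¹ * σ a = (b : G)⁻¹ * σ b := congrArg Subtype.val hab
    apply Subtype.ext
    refine mul_inv_eq_one.mp (hfpf _ ?_)
    calc σ ((a : G) * (b : G)⁻¹) = (a : G) * ((a : G)⁻¹ * σ a) * (σ b)⁻¹ := by
          rw [map_mul, map_inv]; group
      _ = (a : G) * ((b : G)⁻¹ * σ b) * (σ b)⁻¹ := by rw [h1]
      _ = _ := by group
  obtain ⟨n, hn⟩ := Finite.surjective_of_injective hinj ⟨_, hg⟩
  have h1 : (n : G)⁻¹ * σ n = g⁻¹ * σ g := congrArg Subtype.val hn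
  have h2 : g * (n : G)⁻¹ = 1 := hfpf _ (by
    calc σ (g * (n : G)⁻¹) = g * (g⁻¹ * σ g) * (σ n)⁻¹ := by rw [map_mul, map_inv]; group
      _ = g * ((n : G)⁻¹ * σ n) * (σ n)⁻¹ := by rw [h1]
      _ = _ := by group)
  rw [mul_inv_eq_one] at h2
  rw [h2]; exact n.2

theorem map_eq_of_mem {σ : MulAut G} {N : Subgroup G} (hN : ∀ n ∈ N, σ n ∈ N) :
    N.map σ.toMonoidHom = N :=
  Subgroup.eq_of_le_of_card_ge (by rintro _ ⟨x, hx, rfl⟩; exact hN x hx)
    (Subgroup.card_map_of_injective σ.injective).ge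

theorem apply_mem_of_characteristic (σ : MulAut G) (K : Subgroup G) [hK : K.Characteristic]
    {x : G} (hx : x ∈ K) : σ x ∈ K :=
  (Subgroup.characteristic_iff_map_le.mp hK σ) ⟨x, hx, rfl⟩

/-- The induced automorphism of a quotient by an invariant normal subgroup. -/
noncomputable def quotAut (σ : MulAut G) (N : Subgroup G) [N.Normal] (hN : ∀ n ∈ N, σ n ∈ N) :
    MulAut (G ⧸ N) :=
  QuotientGroup.congr N N σ (map_eq_of_mem hN)

theorem quotAut_mk (σ : MulAut G) (N : Subgroup G) [N.Normal] (hN : ∀ n ∈ N, σ n ∈ N) (g : G) :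
    quotAut σ N hN (g : G ⧸ N) = ((σ g : G) : G ⧸ N) := rfl

theorem quotAut_pow_mk (σ : MulAut G) (N : Subgroup G) [N.Normal] (hN : ∀ n ∈ N, σ n ∈ N) (k : ℕ)
    (g : G) : (quotAut σ N hN ^ k) (g : G ⧸ N) = (((σ ^ k) g : G) : G ⧸ N) := by
  induction k generalizing g with
  | zero => rfl
  | succ k ih => rw [pow_succ, pow_succ, MulAut.mul_apply, MulAut.mul_apply, quotAut_mk, ih]

theorem quotAut_fpf (σ : MulAut G) (hfpf : ∀ g, σ g = g → g = 1) (N : Subgroup G) [N.Normal]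
    (hN : ∀ n ∈ N, σ n ∈ N) : ∀ x, quotAut σ N hN x = x → x = 1 := by
  intro x hx
  induction x using QuotientGroup.induction_on with
  | H g =>
    rw [quotAut_mk] at hx
    rw [QuotientGroup.eq_one_iff]
    exact mem_of_inv_mul_mem hfpf hN (QuotientGroup.eq.mp hx.symm)

/-- A fixed-point-free automorphism group which is a `p`-group: the order of the group is `1` modulo `p`. -/
theorem card_mod_prime {p k : ℕ} [Fact p.Prime] (σ : MulAut G) (hσ : σ ^ p ^ k = 1)
    (hfpf : ∀ g, σ g = g → g = 1) : ¬ p ∣ Nat.card G := by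
  intro hd
  have hA : IsPGroup p (Subgroup.zpowers σ) := by
    rintro ⟨a, i, rfl⟩
    exact ⟨k, Subtype.ext (by
      show (σ ^ i) ^ p ^ k = 1
      rw [← zpow_natCast, ← zpow_mul, mul_comm, zpow_mul, zpow_natCast, hσ, one_zpow])⟩
  have h1 := hA.card_modEq_card_fixedPoints (α := G)
  have hfix : MulAction.fixedPoints (Subgroup.zpowers σ) G = {1} := by
    ext g
    simp only [MulAction.mem_fixedPoints, Set.mem_singleton_iff]
    refine ⟨fun h => hfpf g (h ⟨σ, Subgroup.mem_zpowers σ⟩), fun h a => ?_⟩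
    subst h
    exact map_one (a : MulAut G)
  rw [hfix, Nat.card_coe_set_eq, Set.ncard_singleton] at h1
  exact (Fact.out : p.Prime).one_lt.ne' (Nat.dvd_one.mp ((h1.dvd_iff dvd_rfl).mp hd))

end Cfsg.Agent.Lib.Solvable.FPF
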