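import Cfsg.Agent.Lib.Solvable.FPF.Basic

/-!
A nontrivial characteristic elementary abelian subgroup of a solvable group.
-/

set_option autoImplicit false

namespace Cfsg.Agent.Lib.Solvable.FPF

open Cfsg.Agent.Lib

theorem exists_elementary_char {G : Type*} [Group G] [Finite G] [Nontrivial G]
    (hsol : Group.IsSolvable G) :
    ∃ (s : ℕ) (V : Subgroup G), s.Prime ∧ V.Characteristic ∧ V ≠ ⊥ ∧
      (∀ a ∈ V, ∀ b ∈ V, Commute a b) ∧ (∀ v ∈ V, v ^ s = 1) ∧ V ≤ Cfsg.fittingSubgroup G := by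
  obtain ⟨s, hs, hs0⟩ : ∃ s : ℕ, s.Prime ∧ Cfsg.pCore s G ≠ ⊥ := by
    by_contra h
    push Not at h
    exact Cores.fittingSubgroup_ne_bot_of_isSolvable hsol
      (le_bot_iff.mp (Cores.fittingSubgroup_le_of_pCore_le fun p hp => (h p hp).le))
  haveI := Fact.mk hs
  have hsp := Cores.pCore_isPGroup s G
  let Z₁ := (Subgroup.center (Cfsg.pCore s G)).map (Cfsg.pCore s G).subtype
  have hZ₁ : ∀ x ∈ Z₁, ∀ y ∈ Z₁, Commute x y := by
    rintro _ ⟨a, ha, rfl⟩ _ ⟨b, hb, rfl⟩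
    exact (congrArg Subtype.val (Subgroup.mem_center_iff.mp hb a))
  let V : Subgroup G :=
    { carrier := {x | x ∈ Z₁ ∧ x ^ s = 1}
      one_mem' := ⟨one_mem _, one_pow _⟩
      mul_mem' := fun {a b} ha hb => ⟨mul_mem ha.1 hb.1, by
        rw [(hZ₁ a ha.1 b hb.1).mul_pow, ha.2, hb.2, mul_one]⟩
      inv_mem' := fun {a} ha => ⟨inv_mem ha.1, by rw [inv_pow, ha.2, inv_one]⟩ }
  refine ⟨s, V, hs, Cores.characteristic_of_map_le fun φ => ?_, ?_,
    fun a ha b hb => hZ₁ a ha.1 b hb.1, fun v hv => hv.2,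
    (show V ≤ Cfsg.pCore s G from fun x hx => Subgroup.map_subtype_le _ hx.1).trans
      (Cores.pCore_le_fittingSubgroup s)⟩
  · rintro _ ⟨x, hx, rfl⟩
    refine ⟨?_, ?_⟩
    · obtain ⟨⟨a, ha⟩, hac, rfl⟩ := hx.1
      exact ⟨⟨φ a, apply_mem_of_characteristic φ _ ha⟩, Subgroup.mem_center_iff.mpr fun y => Subtype.ext (by
        have h1 := congrArg Subtype.val (Subgroup.mem_center_iff.mp hac
          ⟨φ.symm y, apply_mem_of_characteristic (φ.symm : MulAut G) _ y.2⟩)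
        have h2 := congrArg φ h1
        simpa using h2), rfl⟩
    · show φ x ^ s = 1
      rw [← map_pow, hx.2, map_one]
  · haveI := (Subgroup.nontrivial_iff_ne_bot _).mpr hs0
    haveI := hsp.center_nontrivial
    have hd : s ∣ Nat.card (Subgroup.center (Cfsg.pCore s G)) :=
      ((hsp.to_subgroup _).card_eq_or_dvd).resolve_left fun h =>
        (Finite.one_lt_card (α := Subgroup.center (Cfsg.pCore s G))).ne' h
    obtain ⟨x, hx⟩ := exists_prime_orderOf_dvd_card' s hd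
    intro e
    have hxs : x ^ s = 1 := orderOf_dvd_iff_pow_eq_one.mp hx.dvd
    have h1 : ((x : Cfsg.pCore s G) : G) ∈ V := ⟨⟨x, x.2, rfl⟩, by
      rw [← SubmonoidClass.coe_pow, ← SubmonoidClass.coe_pow, hxs]; rfl⟩
    rw [e, Subgroup.mem_bot] at h1
    have : x = 1 := Subtype.ext (Subtype.ext h1)
    rw [this, orderOf_one] at hx
    exact hs.ne_one hx.symm

end Cfsg.Agent.Lib.Solvable.FPF
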