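import Cfsg.Agent.Lib.Solvable.FPF.Module
import Cfsg.Agent.Lib.Coprime.Action

/-!
A fixed-point-free Frobenius group `⟨c⟩⟨a⟩` of order `pq` acting on a chain `V`, `D`, `R` with `D`
abelian: `R` centralizes the image of `D`.
-/

set_option autoImplicit false

open Pointwise

namespace Cfsg.Agent.Lib.Solvable.FPF

open Module Cfsg.Agent.Lib

variable {k : Type*} [Field k] {W : Type*} [AddCommGroup W] [Module k W] {Γ : Type*} [Group Γ]

/-- `χ` is a weight of `D`. -/
def IsWeight (ρ : Γ →* End k W) (D : Subgroup Γ) (χ : Γ → k) : Prop :=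
  ∃ v : W, v ≠ 0 ∧ ∀ x ∈ D, ρ x v = χ x • v

/-- The stabilizer of a weight. -/
def weightStab (D : Subgroup Γ) (χ : Γ → k) : Subgroup Γ where
  carrier := {g | g ∈ Subgroup.normalizer (D : Set Γ) ∧ ∀ x ∈ D, χ (g * x * g⁻¹) = χ x}
  one_mem' := ⟨one_mem _, fun x _ => by simp⟩
  mul_mem' := fun {g₁ g₂} h₁ h₂ => ⟨mul_mem h₁.1 h₂.1, fun x hx => by
    rw [show g₁ * g₂ * x * (g₁ * g₂)⁻¹ = g₁ * (g₂ * x * g₂⁻¹) * g₁⁻¹ by group,
      h₁.2 _ ((Subgroup.mem_normalizer_iff.mp h₂.1 x).mp hx), h₂.2 x hx]⟩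
  inv_mem' := fun {g} h => ⟨inv_mem h.1, fun x hx => by
    have h1 : g⁻¹ * x * g ∈ D := (Subgroup.mem_normalizer_iff''.mp h.1 x).mp hx
    rw [inv_inv, ← h.2 _ h1]
    congr 1
    group⟩

theorem mem_weightStab {D : Subgroup Γ} {χ : Γ → k} {g : Γ} :
    g ∈ weightStab D χ ↔ g ∈ Subgroup.normalizer (D : Set Γ) ∧ ∀ x ∈ D, χ (g * x * g⁻¹) = χ x :=
  Iff.rfl

variable {ρ : Γ →* End k W} {D : Subgroup Γ} {χ : Γ → k}

theorem IsWeight.translate (h : IsWeight ρ D χ) {g : Γ}
    (hg : g ∈ Subgroup.normalizer (D : Set Γ)) : IsWeight ρ D (fun x => χ (g * x * g⁻¹)) := by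
  obtain ⟨v, hv0, hv⟩ := h
  refine ⟨ρ g⁻¹ v, fun e => hv0 ?_, fun x hx => ?_⟩
  · have h1 := congrArg (ρ g) e
    rw [map_zero, ← End.mul_apply, ← map_mul, mul_inv_cancel, map_one] at h1
    exact h1
  · rw [← End.mul_apply, ← map_mul, show x * g⁻¹ = g⁻¹ * (g * x * g⁻¹) by group, map_mul,
      End.mul_apply, hv _ ((Subgroup.mem_normalizer_iff.mp hg x).mp hx), map_smul]

theorem IsWeight.map_mul' (h : IsWeight ρ D χ) {a b : Γ} (ha : a ∈ D) (hb : b ∈ D) :
    χ (a * b) = χ a * χ b := by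
  obtain ⟨v, hv0, hv⟩ := h
  refine smul_left_injective k hv0 (show χ (a * b) • v = (χ a * χ b) • v from ?_)
  rw [← hv _ (mul_mem ha hb), map_mul, End.mul_apply, hv b hb, map_smul, hv a ha, smul_smul, mul_comm]

theorem IsWeight.eq_of_map_eq (h : IsWeight ρ D χ) {a b : Γ} (ha : a ∈ D) (hb : b ∈ D)
    (e : ρ a = ρ b) : χ a = χ b := by
  obtain ⟨v, hv0, hv⟩ := h
  exact smul_left_injective k hv0 (show χ a • v = χ b • v by rw [← hv a ha, ← hv b hb, e])

theorem IsWeight.map_one' (h : IsWeight ρ D χ) : χ 1 = 1 := by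
  obtain ⟨v, hv0, hv⟩ := h
  refine smul_left_injective k hv0 (show χ 1 • v = (1 : k) • v from ?_)
  rw [← hv 1 (one_mem _), map_one, one_smul]; rfl

theorem IsWeight.map_pow' (h : IsWeight ρ D χ) {a : Γ} (ha : a ∈ D) (m : ℕ) :
    χ (a ^ m) = χ a ^ m := by
  induction m with
  | zero => rw [pow_zero, pow_zero, h.map_one']
  | succ m ih => rw [pow_succ, pow_succ, h.map_mul' (pow_mem ha m) ha, ih]

/-- The norm map attached to an element of the stabilizer or the normalizer. -/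
theorem IsWeight.norm_eq_prod (h : IsWeight ρ D χ) {g z : Γ}
    (hg : g ∈ Subgroup.normalizer (D : Set Γ)) (hz : z ∈ D) (m : ℕ) :
    (z * g) ^ m * (g ^ m)⁻¹ ∈ D ∧
      χ ((z * g) ^ m * (g ^ m)⁻¹) = ∏ i ∈ Finset.range m, χ (g ^ i * z * (g ^ i)⁻¹) := by
  induction m with
  | zero => simp [h.map_one']
  | succ m ih =>
    have hstep : (z * g) ^ (m + 1) * (g ^ (m + 1))⁻¹ =
        ((z * g) ^ m * (g ^ m)⁻¹) * (g ^ m * z * (g ^ m)⁻¹) := by
      rw [pow_succ, pow_succ]; group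
    have h2 : g ^ m * z * (g ^ m)⁻¹ ∈ D :=
      (Subgroup.mem_normalizer_iff.mp (pow_mem hg m) z).mp hz
    rw [hstep, Finset.prod_range_succ]
    exact ⟨mul_mem ih.1 h2, by rw [h.map_mul' ih.1 h2, ih.2]⟩

variable [IsAlgClosed k] [FiniteDimensional k W] [Finite Γ]

/-- The abelian core. -/
theorem frobenius_abelian_core (ρ : Γ →* End k W) (A : Subgroup Γ) [Fintype A] {c : Γ} {p n : ℕ}
    (hcA : c ∈ A) (hn : n.Prime) (hcn : c ^ n = 1) (hc1 : c ≠ 1) (hp : p.Prime) (hpn : p ≠ n)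
    (hAT : A ≤ Subgroup.normalizer (Subgroup.zpowers c : Set Γ))
    (hout : ∀ a ∈ A, a ∉ Subgroup.zpowers c →
      a ^ p = 1 ∧ Subgroup.zpowers c ⊔ Subgroup.zpowers a = A)
    (hsum : ∑ a : A, ρ a = 0) {q r : ℕ} (hq : q.Prime) (hr : r.Prime) (hrq : r ≠ q)
    (hqp : q ≠ p) (hqn : q ≠ n)
    (hqk : (q : k) ≠ 0) (D R : Subgroup Γ) (hAD : A ≤ Subgroup.normalizer (D : Set Γ))
    (hAR : A ≤ Subgroup.normalizer (R : Set Γ)) (hRD : R ≤ Subgroup.normalizer (D : Set Γ))
    (hDq : ∀ x ∈ D, ∃ i : ℕ, ρ x ^ q ^ i = 1) (hDc : ∀ x ∈ D, ∀ y ∈ D, Commute (ρ x) (ρ y))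
    (hR : IsPGroup r R) (hAsolv : Group.IsSolvable A)
    (hcopD : (Nat.card A).Coprime (Nat.card D)) (hcopR : (Nat.card A).Coprime (Nat.card R))
    (hDA : ∀ x ∈ D, (∀ a ∈ A, a * x = x * a) → ρ x = 1)
    (hRA : ∀ x ∈ R, (∀ a ∈ A, a * x = x * a) → x = 1)
    (hDfix : ∀ x ∈ D, c * x = x * c →
      ∑ i ∈ Finset.range n, ρ (x * c ^ i) = ∑ i ∈ Finset.range n, ρ (c ^ i))
    (hRfix : ∀ x ∈ D, ∀ y ∈ R, c * x = x * c → c * y = y * c → Commute (ρ x) (ρ y)) :
    ∀ x ∈ D, ∀ y ∈ R, Commute (ρ x) (ρ y) := by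
  classical
  haveI := Fact.mk hn
  haveI := Fact.mk hp
  haveI := Fact.mk hq
  haveI := Fact.mk hr
  set T := Subgroup.zpowers c with hT
  have hTA : T ≤ A := Subgroup.zpowers_le.mpr hcA
  have hTsolv : Group.IsSolvable T := Coprime.isSolvable_zpowers c
  have hord : orderOf c = n := orderOf_eq_prime hcn hc1
  have hTgen : ∀ a ∈ T, a ≠ 1 → c ∈ Subgroup.zpowers a := by
    intro a ha ha1
    have : Subgroup.zpowers a = T := by
      refine Coprime.eq_of_le_of_card_le (Subgroup.zpowers_le.mpr ha) ?_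
      obtain ⟨i, rfl⟩ := (isOfFinOrder_of_finite c).mem_powers_iff_mem_zpowers.mpr ha
      rw [hT, Nat.card_zpowers, Nat.card_zpowers, hord]
      rw [orderOf_eq_prime (show (c ^ i) ^ n = 1 by rw [← pow_mul, mul_comm, pow_mul, hcn, one_pow]) ha1]
    exact this ▸ Subgroup.mem_zpowers c
  have hTfix : ∀ {g : Γ}, c * g = g * c → ∀ t ∈ T, t * g = g * t := by
    intro g hg t ht
    obtain ⟨i, rfl⟩ := (isOfFinOrder_of_finite c).mem_powers_iff_mem_zpowers.mpr ht
    exact (Commute.pow_left hg i).eq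
  have hroot : ∀ {x y : k} {m : ℕ} (jx jy : ℕ), x ^ q ^ jx = 1 → y ^ q ^ jy = 1 →
      m.Coprime q → x ^ m = y ^ m → x = y := by
    intro x y m jx jy hx hy hm hxy
    have hy0 : y ≠ 0 := fun e => by
      rw [e, zero_pow (pow_ne_zero _ hq.ne_zero)] at hy; exact zero_ne_one hy
    suffices x / y = 1 by rwa [div_eq_one_iff_eq hy0] at this
    rw [← orderOf_eq_one_iff]
    exact Nat.eq_one_of_dvd_coprimes (Nat.Coprime.pow_right (jx + jy) hm)
      (orderOf_dvd_of_pow_eq_one (show (x / y) ^ m = 1 by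
        rw [div_pow, hxy, div_self (pow_ne_zero _ hy0)]))
      (orderOf_dvd_of_pow_eq_one (show (x / y) ^ q ^ (jx + jy) = 1 by
        rw [div_pow, pow_add, pow_mul, hx, one_pow, mul_comm, pow_mul, hy, one_pow, div_one]))
  have hχq : ∀ {χ : Γ → k}, IsWeight ρ D χ → ∀ x ∈ D, ∃ j : ℕ, χ x ^ q ^ j = 1 := by
    intro χ h x hx
    obtain ⟨j, hj⟩ := hDq x hx
    refine ⟨j, ?_⟩
    rw [← h.map_pow' hx, ← h.map_one']
    exact h.eq_of_map_eq (pow_mem hx _) (one_mem _) (by rw [map_pow, hj, map_one])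
  -- fixed cosets of the kernel
  set η := ρ.toHomUnits with hη
  have hηρ : ∀ {a b : Γ}, η a = η b ↔ ρ a = ρ b := fun {a b} => Units.ext_iff
  have hnk : ∀ g ∈ Subgroup.normalizer (D : Set Γ),
      g ∈ Subgroup.normalizer ((D ⊓ η.ker : Subgroup Γ) : Set Γ) := by
    intro g hg
    rw [Subgroup.mem_normalizer_iff]
    intro y
    simp only [Subgroup.mem_inf]
    exact and_congr (Subgroup.mem_normalizer_iff.mp hg y)
      ⟨fun h => Subgroup.Normal.conj_mem inferInstance y h g, fun h => by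
        simpa [mul_assoc] using Subgroup.Normal.conj_mem inferInstance _ h g⁻¹⟩
  have hlift : ∀ B : Subgroup Γ, B ≤ A → Group.IsSolvable B → ∀ x ∈ D,
      (∀ a ∈ B, ρ (a * x * a⁻¹) = ρ x) → ∃ y ∈ D, ρ y = ρ x ∧ ∀ a ∈ B, a * y = y * a := by
    intro B hB hBs x hx hfix
    obtain ⟨m, hm, hxm⟩ := Coprime.exists_mem_centralizer_of_fixed_coset (A := B) (N := D ⊓ η.ker)
      (k := x) (fun a ha => hnk a (hAD (hB ha)))
      ((hcopD.coprime_dvd_left (Subgroup.card_dvd_of_le hB)).coprime_dvd_right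
        (Subgroup.card_dvd_of_le inf_le_left)) (Or.inl hBs)
      (hnk x (Subgroup.le_normalizer hx)) (fun a ha => Subgroup.mem_inf.mpr
        ⟨mul_mem ((Subgroup.mem_normalizer_iff.mp (hAD (hB ha)) x).mp hx) (inv_mem hx), by
          rw [MonoidHom.mem_ker, ← map_one η, hηρ, map_mul, hfix a ha, ← map_mul, mul_inv_cancel]⟩)
    rw [Subgroup.mem_inf, MonoidHom.mem_ker, ← map_one η, hηρ, map_one] at hm
    exact ⟨x * m, mul_mem hx hm.1, by rw [map_mul, hm.2, mul_one],
      fun a ha => Subgroup.mem_centralizer_iff.mp hxm a ha⟩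
  -- norms are fixed modulo the kernel
  have hnormfix : ∀ g ∈ A, ∀ z ∈ D, g ^ n = 1 ∨ g ^ p = 1 → ∀ m : ℕ, g ^ m = 1 →
      (z * g) ^ m ∈ D ∧ ρ (g * (z * g) ^ m * g⁻¹) = ρ ((z * g) ^ m) := by
    intro g hg z hz _ m hm
    have hmem : (z * g) ^ m ∈ D := by
      have : ∀ j : ℕ, (z * g) ^ j * (g ^ j)⁻¹ ∈ D := by
        intro j
        induction j with
        | zero => simp
        | succ j ih =>
          rw [show (z * g) ^ (j + 1) * (g ^ (j + 1))⁻¹ =
              ((z * g) ^ j * (g ^ j)⁻¹) * (g ^ j * z * (g ^ j)⁻¹) by rw [pow_succ, pow_succ]; group]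
          exact mul_mem ih ((Subgroup.mem_normalizer_iff.mp (pow_mem (hAD hg) j) z).mp hz)
      simpa [hm] using this m
    refine ⟨hmem, ?_⟩
    have h1 : g * (z * g) ^ m * g⁻¹ = z⁻¹ * (z * g) ^ m * z := by
      rw [← conj_pow]
      conv_rhs => rw [show z⁻¹ * (z * g) ^ m * z = z⁻¹ * (z * g) ^ m * (z⁻¹)⁻¹ by rw [inv_inv], ← conj_pow]
      congr 1
      group
    rw [h1, map_mul, map_mul, (hDc _ (inv_mem hz) _ hmem).eq, mul_assoc, ← map_mul, inv_mul_cancel,
      map_one, mul_one]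
  -- a weight fixed by all of `A` is trivial
  have hA0 : ∀ {χ : Γ → k}, IsWeight ρ D χ → A ≤ weightStab D χ → ∀ x ∈ D, χ x = 1 := by
    intro χ h hA x hx
    by_cases hall : A ≤ T
    · obtain ⟨hy, hyfix⟩ := hnormfix c hcA x hx (Or.inl hcn) n hcn
      obtain ⟨y, hyD, hyρ, hyc⟩ := hlift T hTA hTsolv _ hy (by
        intro a ha
        obtain ⟨i, rfl⟩ := (isOfFinOrder_of_finite c).mem_powers_iff_mem_zpowers.mpr ha
        show ρ (c ^ i * (x * c) ^ n * (c ^ i)⁻¹) = _
        induction i with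
        | zero => simp
        | succ i ih =>
          rw [show c ^ (i + 1) * (x * c) ^ n * (c ^ (i + 1))⁻¹ =
              c * (c ^ i * (x * c) ^ n * (c ^ i)⁻¹) * c⁻¹ by rw [pow_succ']; group,
            map_mul, map_mul, ih (pow_mem (Subgroup.mem_zpowers c) i), ← map_mul, ← map_mul, hyfix])
      have h1 : χ ((x * c) ^ n) = 1 := by
        rw [← h.map_one']
        exact h.eq_of_map_eq hy (one_mem _)
          (by rw [← hyρ, hDA y hyD (fun a ha => hyc a (hall ha)), map_one])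
      have h2 := (h.norm_eq_prod (hAD hcA) hx n).2
      rw [hcn, inv_one, mul_one, h1, Finset.prod_eq_pow_card (b := χ x) (fun i _ =>
        (pow_mem (hA hcA) i).2 x hx), Finset.card_range] at h2
      obtain ⟨j, hj⟩ := hχq h x hx
      exact hroot j 0 hj (one_pow _) ((Nat.coprime_primes hn hq).mpr (Ne.symm hqn))
        (by rw [← h2, one_pow])
    obtain ⟨a, haA, haT⟩ := Set.not_subset.mp hall
    obtain ⟨hap, hgen⟩ := hout a haA haT
    obtain ⟨hy, hyfix⟩ := hnormfix c hcA x hx (Or.inl hcn) n hcn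
    obtain ⟨y, hyD, hyρ, hyc⟩ := hlift T hTA hTsolv _ hy (by
      intro a ha
      obtain ⟨i, rfl⟩ := (isOfFinOrder_of_finite c).mem_powers_iff_mem_zpowers.mpr ha
      show ρ (c ^ i * (x * c) ^ n * (c ^ i)⁻¹) = _
      induction i with
      | zero => simp
      | succ i ih =>
        rw [show c ^ (i + 1) * (x * c) ^ n * (c ^ (i + 1))⁻¹ =
            c * (c ^ i * (x * c) ^ n * (c ^ i)⁻¹) * c⁻¹ by rw [pow_succ']; group,
          map_mul, map_mul, ih (pow_mem (Subgroup.mem_zpowers c) i), ← map_mul, ← map_mul, hyfix])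
    obtain ⟨hz, hzfix⟩ := hnormfix a haA y hyD (Or.inr hap) p hap
    -- the new element is still centralized by `c`
    have hzc : c * (y * a) ^ p = (y * a) ^ p * c := by
      let C : Subgroup Γ := Subgroup.centralizer (T : Set Γ)
      have key : ∀ j : ℕ, (y * a) ^ j * (a ^ j)⁻¹ ∈ C := by
        intro j
        induction j with
        | zero => simp
        | succ j ih =>
          rw [show (y * a) ^ (j + 1) * (a ^ (j + 1))⁻¹ =
              ((y * a) ^ j * (a ^ j)⁻¹) * (a ^ j * y * (a ^ j)⁻¹) by rw [pow_succ, pow_succ]; group]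
          refine mul_mem ih (Subgroup.mem_centralizer_iff.mpr fun t ht => ?_)
          have ht' : (a ^ j)⁻¹ * t * a ^ j ∈ T :=
            (Subgroup.mem_normalizer_iff''.mp (pow_mem (hAT haA) j) t).mp ht
          have h3 := hyc _ ht'
          calc t * (a ^ j * y * (a ^ j)⁻¹) = a ^ j * (((a ^ j)⁻¹ * t * a ^ j) * y) * (a ^ j)⁻¹ := by group
            _ = a ^ j * (y * ((a ^ j)⁻¹ * t * a ^ j)) * (a ^ j)⁻¹ := by rw [h3]
            _ = a ^ j * y * (a ^ j)⁻¹ * t := by group
      have h3 := key p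
      rw [hap, inv_one, mul_one] at h3
      exact Subgroup.mem_centralizer_iff.mp h3 c (Subgroup.mem_zpowers c)
    let B : Subgroup Γ :=
      { carrier := {g | g ∈ A ∧ ρ (g * (y * a) ^ p * g⁻¹) = ρ ((y * a) ^ p)}
        one_mem' := ⟨one_mem _, by simp⟩
        mul_mem' := fun {g₁ g₂} h₁ h₂ => ⟨mul_mem h₁.1 h₂.1, by
          rw [show g₁ * g₂ * (y * a) ^ p * (g₁ * g₂)⁻¹ = g₁ * (g₂ * (y * a) ^ p * g₂⁻¹) * g₁⁻¹ by group,
            map_mul, map_mul, h₂.2, ← map_mul, ← map_mul, h₁.2]⟩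
        inv_mem' := fun {g} h => ⟨inv_mem h.1, by
          rw [inv_inv, map_mul, map_mul]; conv_lhs => rw [← h.2]
          rw [← map_mul, ← map_mul]; congr 1; group⟩ }
    have hAB : A ≤ B := by
      rw [← hgen]
      refine sup_le (Subgroup.zpowers_le.mpr ⟨hcA, ?_⟩) (Subgroup.zpowers_le.mpr ⟨haA, hzfix⟩)
      rw [hzc, mul_inv_cancel_right]
    obtain ⟨w, hwD, hwρ, hwc⟩ := hlift A le_rfl hAsolv _ hz (fun g hg => (hAB hg).2)
    have h1 : χ ((y * a) ^ p) = 1 := by
      rw [← h.map_one']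
      exact h.eq_of_map_eq hz (one_mem _) (by rw [← hwρ, hDA w hwD hwc, map_one])
    have h2 := (h.norm_eq_prod (hAD haA) hyD p).2
    rw [hap, inv_one, mul_one, h1, Finset.prod_eq_pow_card (b := χ y) (fun i _ =>
      (pow_mem (hA haA) i).2 y hyD), Finset.card_range] at h2
    obtain ⟨j, hj⟩ := hχq h y hyD
    have hy1 : χ y = 1 := hroot j 0 hj (one_pow _) ((Nat.coprime_primes hp hq).mpr (Ne.symm hqp))
      (by rw [← h2, one_pow])
    rw [h.eq_of_map_eq hyD hy hyρ] at hy1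
    have h4 := (h.norm_eq_prod (hAD hcA) hx n).2
    rw [hcn, inv_one, mul_one, hy1, Finset.prod_eq_pow_card (b := χ x) (fun i _ =>
      (pow_mem (hA hcA) i).2 x hx), Finset.card_range] at h4
    obtain ⟨j', hj'⟩ := hχq h x hx
    exact hroot j' 0 hj' (one_pow _) ((Nat.coprime_primes hn hq).mpr (Ne.symm hqn))
      (by rw [← h4, one_pow])
  -- some nontrivial element of `A` fixes each weight
  have hfixA : ∀ {χ : Γ → k}, IsWeight ρ D χ → ∃ a ∈ A, a ≠ 1 ∧ a ∈ weightStab D χ := by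
    rintro χ ⟨v, hv0, hv⟩
    obtain ⟨a, haA, ha1, hfix⟩ := exists_fix_weight ρ A D hsum hAD (fun y => χ y) v hv0
      (fun y => hv y y.2)
    exact ⟨a, haA, ha1, hAD haA, fun x hx =>
      hfix ⟨x, hx⟩ ((Subgroup.mem_normalizer_iff.mp (hAD haA) x).mp hx)⟩
  -- on fixed points of `c` a weight not fixed by `c` is trivial
  have hC1 : ∀ {χ : Γ → k}, IsWeight ρ D χ → c ∉ weightStab D χ → ∀ x ∈ D, c * x = x * c → χ x = 1 := by
    rintro χ ⟨v, hv0, hv⟩ hcF x hx hcx
    have h1 := congrArg (fun e : End k W => e v) (hDfix x hx hcx)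
    simp only [LinearMap.sum_apply] at h1
    have hsum' : ∑ m ∈ Finset.range n, (χ x - 1) • ρ (c ^ m) v = 0 := by
      simp only [sub_smul, one_smul, Finset.sum_sub_distrib]
      rw [sub_eq_zero, ← h1]
      refine Finset.sum_congr rfl fun m _ => ?_
      rw [← (Commute.pow_left hcx m).eq, map_mul, End.mul_apply, hv x hx, map_smul]
    have hcN : ∀ m : ℕ, c ^ m ∈ Subgroup.normalizer (D : Set Γ) := fun m => pow_mem (hAD hcA) m
    have h2 := eq_zero_of_sum_eq_zero (fun y : D => ρ y) (Finset.range n)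
      (fun m => (χ x - 1) • ρ (c ^ m) v) (fun m (y : D) => χ ((c ^ m)⁻¹ * y * c ^ m))
      (fun m _ y => by
        rw [map_smul, ← End.mul_apply, ← map_mul,
          show (y : Γ) * c ^ m = c ^ m * ((c ^ m)⁻¹ * y * c ^ m) by group, map_mul, End.mul_apply,
          hv _ ((Subgroup.mem_normalizer_iff''.mp (hcN m) _).mp y.2), map_smul, smul_comm])
      (fun m hm m' hm' he => by
        by_contra hne
        have hg : c ^ m' * (c ^ m)⁻¹ ∈ weightStab D χ := by
          refine ⟨mul_mem (hcN m') (inv_mem (hcN m)), fun y hy => ?_⟩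
          have hc' : Commute (c ^ m') (c ^ m)⁻¹ := ((Commute.refl c).pow_pow m' m).inv_right
          have hy'' : c ^ m' * y * (c ^ m')⁻¹ ∈ D := (Subgroup.mem_normalizer_iff.mp (hcN m') y).mp hy
          have e := congrFun he ⟨_, hy''⟩
          dsimp only at e
          rw [show (c ^ m')⁻¹ * (c ^ m' * y * (c ^ m')⁻¹) * c ^ m' = y by group] at e
          rw [← e]
          congr 1
          rw [hc'.eq]
          group
        refine hcF ?_
        have hg1 : c ^ m' * (c ^ m)⁻¹ ≠ 1 := by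
          rw [Ne, mul_inv_eq_one]
          intro e
          refine hne (pow_injOn_Iio_orderOf ?_ ?_ e.symm) <;> rw [Set.mem_Iio, hord]
          · exact Finset.mem_range.mp hm
          · exact Finset.mem_range.mp hm'
        exact (Subgroup.zpowers_le.mpr hg) (hTgen _
          (mul_mem (pow_mem (Subgroup.mem_zpowers c) _)
            (inv_mem (pow_mem (Subgroup.mem_zpowers c) _))) hg1))
      hsum' 0 (Finset.mem_range.mpr hn.pos)
    rw [pow_zero, map_one, End.one_apply] at h2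
    exact sub_eq_zero.mp ((smul_eq_zero.mp h2).resolve_right hv0)
  -- the fixed points of `c` in `R` fix every weight
  have hR0 : ∀ {χ : Γ → k}, IsWeight ρ D χ → ∀ y ∈ R, c * y = y * c → y ∈ weightStab D χ := by
    intro χ h y hy hcy
    refine ⟨hRD hy, fun x hx => ?_⟩
    by_cases hcF : c ∈ weightStab D χ
    · obtain ⟨hx', hx'fix⟩ := hnormfix c hcA x hx (Or.inl hcn) n hcn
      have hxy : y * x * y⁻¹ ∈ D := (Subgroup.mem_normalizer_iff.mp (hRD hy) x).mp hx
      obtain ⟨hy', -⟩ := hnormfix c hcA _ hxy (Or.inl hcn) n hcn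
      obtain ⟨x'', hx''D, hx''ρ, hx''c⟩ := hlift T hTA hTsolv _ hx' (by
        intro a ha
        obtain ⟨i, rfl⟩ := (isOfFinOrder_of_finite c).mem_powers_iff_mem_zpowers.mpr ha
        show ρ (c ^ i * (x * c) ^ n * (c ^ i)⁻¹) = _
        induction i with
        | zero => simp
        | succ i ih =>
          rw [show c ^ (i + 1) * (x * c) ^ n * (c ^ (i + 1))⁻¹ =
              c * (c ^ i * (x * c) ^ n * (c ^ i)⁻¹) * c⁻¹ by rw [pow_succ']; group,
            map_mul, map_mul, ih (pow_mem (Subgroup.mem_zpowers c) i), ← map_mul, ← map_mul, hx'fix])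
      have hcomm := hRfix x'' hx''D y hy (hx''c c (Subgroup.mem_zpowers c)) hcy
      rw [hx''ρ] at hcomm
      have heq : χ ((y * x * y⁻¹ * c) ^ n) = χ ((x * c) ^ n) := by
        refine h.eq_of_map_eq hy' hx' ?_
        have e : y * x * y⁻¹ * c = y * (x * c) * y⁻¹ := by
          rw [show y * (x * c) * y⁻¹ = (y * x * y⁻¹) * (y * c * y⁻¹) by group, ← hcy,
            mul_inv_cancel_right]
        rw [e, conj_pow, map_mul, map_mul, ← hcomm.eq, mul_assoc, ← map_mul, mul_inv_cancel, map_one,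
          mul_one]
      have e1 := (h.norm_eq_prod (hAD hcA) hx n).2
      have e2 := (h.norm_eq_prod (hAD hcA) hxy n).2
      rw [hcn, inv_one, mul_one, Finset.prod_eq_pow_card (b := χ x) (fun i _ =>
        (pow_mem hcF i).2 x hx), Finset.card_range] at e1
      rw [hcn, inv_one, mul_one, Finset.prod_eq_pow_card (b := χ (y * x * y⁻¹)) (fun i _ =>
        (pow_mem hcF i).2 _ hxy), Finset.card_range] at e2
      obtain ⟨j, hj⟩ := hχq h x hx
      obtain ⟨j', hj'⟩ := hχq h _ hxy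
      exact hroot j' j hj' hj ((Nat.coprime_primes hn hq).mpr (Ne.symm hqn)) (by rw [← e2, ← e1, heq])
    · obtain ⟨a, haA, ha1, haF⟩ := hfixA h
      have haT : a ∉ T := fun ht => hcF ((Subgroup.zpowers_le.mpr haF) (hTgen a ht ha1))
      obtain ⟨hap, hgen⟩ := hout a haA haT
      set R₀ := R ⊓ Subgroup.centralizer (T : Set Γ) with hR₀
      have hy₀ : y ∈ R₀ := Subgroup.mem_inf.mpr ⟨hy, Subgroup.mem_centralizer_iff.mpr (hTfix hcy)⟩
      have haR₀ : ∀ g ∈ R₀, a * g * a⁻¹ ∈ R₀ := by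
        intro g hg
        rw [Subgroup.mem_inf] at hg ⊢
        refine ⟨(Subgroup.mem_normalizer_iff.mp (hAR haA) g).mp hg.1,
          Subgroup.mem_centralizer_iff.mpr fun t ht => ?_⟩
        have ht' : a⁻¹ * t * a ∈ T := (Subgroup.mem_normalizer_iff''.mp (hAT haA) t).mp ht
        have h3 := Subgroup.mem_centralizer_iff.mp hg.2 _ ht'
        calc t * (a * g * a⁻¹) = a * ((a⁻¹ * t * a) * g) * a⁻¹ := by group
          _ = a * (g * (a⁻¹ * t * a)) * a⁻¹ := by rw [h3]
          _ = a * g * a⁻¹ * t := by group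
      have hsurj : Function.Surjective (fun g : R₀ => (⟨(g : Γ) * a * (g : Γ)⁻¹ * a⁻¹, by
          simpa [mul_assoc] using mul_mem g.2 (haR₀ _ (inv_mem g.2))⟩ : R₀)) := by
        refine Finite.surjective_of_injective fun g₁ g₂ e => ?_
        have h1 : (g₁ : Γ) * a * (g₁ : Γ)⁻¹ = (g₂ : Γ) * a * (g₂ : Γ)⁻¹ :=
          mul_right_cancel (congrArg Subtype.val e)
        set w := (g₂ : Γ)⁻¹ * g₁ with hw
        have hwR : w ∈ R₀ := mul_mem (inv_mem g₂.2) g₁.2
        have hwa : a * w = w * a := by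
          calc a * w = (g₂ : Γ)⁻¹ * ((g₂ : Γ) * a * (g₂ : Γ)⁻¹) * g₁ := by rw [hw]; group
            _ = (g₂ : Γ)⁻¹ * ((g₁ : Γ) * a * (g₁ : Γ)⁻¹) * g₁ := by rw [h1]
            _ = _ := by rw [hw]; group
        have hw1 : w = 1 := hRA w (Subgroup.mem_inf.mp hwR).1 fun b hb => by
          have hAw : A ≤ Subgroup.centralizer {w} := by
            rw [← hgen]
            refine sup_le (fun t ht => Subgroup.mem_centralizer_iff.mpr fun g hg => ?_)
              (Subgroup.zpowers_le.mpr (Subgroup.mem_centralizer_iff.mpr fun g hg => ?_))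
            · rw [Set.mem_singleton_iff.mp hg]
              exact (Subgroup.mem_centralizer_iff.mp (Subgroup.mem_inf.mp hwR).2 t ht).symm
            · rw [Set.mem_singleton_iff.mp hg]; exact hwa.symm
          exact (Subgroup.mem_centralizer_iff.mp (hAw hb) w rfl).symm
        exact Subtype.ext (inv_mul_eq_one.mp hw1).symm
      obtain ⟨⟨y₀, hy₀R⟩, hfy⟩ := hsurj ⟨y, hy₀⟩
      have hyv : y₀ * a * y₀⁻¹ * a⁻¹ = y := congrArg Subtype.val hfy
      rw [Subgroup.mem_inf] at hy₀R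
      have hy₀D := hRD hy₀R.1
      obtain ⟨a', ha'A, ha'1, ha'F⟩ := hfixA (h.translate hy₀D)
      have ha'χ : y₀ * a' * y₀⁻¹ ∈ weightStab D χ := by
        refine ⟨mul_mem (mul_mem hy₀D (hAD ha'A)) (inv_mem hy₀D), fun z hz => ?_⟩
        have h1 : y₀⁻¹ * z * y₀ ∈ D := (Subgroup.mem_normalizer_iff''.mp hy₀D z).mp hz
        have h2 := ha'F.2 _ h1
        dsimp only at h2
        rw [show y₀ * (a' * (y₀⁻¹ * z * y₀) * a'⁻¹) * y₀⁻¹ =
            y₀ * a' * y₀⁻¹ * z * (y₀ * a' * y₀⁻¹)⁻¹ by group,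
          show y₀ * (y₀⁻¹ * z * y₀) * y₀⁻¹ = z by group] at h2
        exact h2
      have ha'T : a' ∉ T := fun ht => by
        rw [← Subgroup.mem_centralizer_iff.mp hy₀R.2 a' ht, mul_inv_cancel_right] at ha'χ
        exact hcF ((Subgroup.zpowers_le.mpr ha'χ) (hTgen a' ht ha'1))
      obtain ⟨-, hgen'⟩ := hout a' ha'A ha'T
      obtain ⟨t, ht, m, hm, hatm⟩ := Coprime.exists_mul_of_mem_sup
        ((Subgroup.zpowers_le.mpr ha'A).trans hAT) (hgen'.symm ▸ haA)
      have hmF : y₀ * m * y₀⁻¹ ∈ weightStab D χ := by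
        obtain ⟨i, rfl⟩ := (isOfFinOrder_of_finite a').mem_powers_iff_mem_zpowers.mpr hm
        show y₀ * a' ^ i * y₀⁻¹ ∈ _
        rw [← conj_pow]
        exact pow_mem ha'χ i
      have hty : t * y = y * t := Subgroup.mem_centralizer_iff.mp (Subgroup.mem_inf.mp hy₀).2 t ht
      have hu : t⁻¹ * y ∈ weightStab D χ := by
        have e : y₀ * m * y₀⁻¹ * a⁻¹ = t⁻¹ * y := by
          rw [show m = t⁻¹ * a by rw [hatm, inv_mul_cancel_left], ← hyv,
            show y₀ * (t⁻¹ * a) * y₀⁻¹ * a⁻¹ = (y₀ * t⁻¹) * (a * y₀⁻¹ * a⁻¹) by group,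
            ← Subgroup.mem_centralizer_iff.mp hy₀R.2 t⁻¹ (inv_mem ht)]
          group
        rw [← e]
        exact mul_mem hmF (inv_mem haF)
      have htn : t ^ n = 1 := by
        obtain ⟨i, rfl⟩ := (isOfFinOrder_of_finite c).mem_powers_iff_mem_zpowers.mpr ht
        show (c ^ i) ^ n = 1
        rw [← pow_mul, mul_comm, pow_mul, hcn, one_pow]
      have hyn : y ^ n ∈ weightStab D χ := by
        have := pow_mem hu n
        rwa [((show Commute t y from hty).inv_left).mul_pow, inv_pow, htn, inv_one, one_mul] at this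
      obtain ⟨i, hi⟩ := exists_pow_eq_self_of_coprime (x := y) (n := n) (by
        refine Nat.Coprime.coprime_dvd_right (Subgroup.orderOf_dvd_natCard R hy) ?_
        refine hcopR.coprime_dvd_left ?_
        rw [← hord]
        exact Subgroup.orderOf_dvd_natCard A hcA)
      have : y ∈ weightStab D χ := hi ▸ pow_mem hyn i
      exact this.2 x hx
  -- a weight fixed by `c` is fixed by `R`
  have hcR : ∀ {χ : Γ → k}, IsWeight ρ D χ → c ∈ weightStab D χ →
      (∃ x ∈ D, χ x ≠ 1) → R ≤ weightStab D χ := by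
    intro χ h hcF hne
    set N := weightStab D χ ⊓ R with hN
    have hTF : T ≤ weightStab D χ := Subgroup.zpowers_le.mpr hcF
    have hTN : T ≤ Subgroup.normalizer (N : Set Γ) := by
      intro t ht
      rw [Subgroup.mem_normalizer_iff]
      intro g
      simp only [hN, Subgroup.mem_inf]
      exact and_congr (Subgroup.mem_normalizer_iff.mp (Subgroup.le_normalizer (hTF ht)) g)
        (Subgroup.mem_normalizer_iff.mp (hAR (hTA ht)) g)
    have hstep : ∀ y ∈ R, y * c * y⁻¹ ∈ weightStab D χ := by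
      intro y hy
      have hyD := hRD hy
      obtain ⟨a, haA, ha1, haF'⟩ := hfixA (h.translate hyD)
      have hgF : y * a * y⁻¹ ∈ weightStab D χ := by
        refine ⟨mul_mem (mul_mem hyD (hAD haA)) (inv_mem hyD), fun z hz => ?_⟩
        have h1 : y⁻¹ * z * y ∈ D := (Subgroup.mem_normalizer_iff''.mp hyD z).mp hz
        have h2 := haF'.2 _ h1
        dsimp only at h2
        rw [show y * (a * (y⁻¹ * z * y) * a⁻¹) * y⁻¹ = y * a * y⁻¹ * z * (y * a * y⁻¹)⁻¹ by group,
          show y * (y⁻¹ * z * y) * y⁻¹ = z by group] at h2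
        exact h2
      by_cases haT : a ∈ T
      · obtain ⟨i, hi⟩ := (isOfFinOrder_of_finite a).mem_powers_iff_mem_zpowers.mpr (hTgen a haT ha1)
        dsimp only at hi
        rw [← hi, ← conj_pow]
        exact pow_mem hgF i
      exfalso
      obtain ⟨-, hgen⟩ := hout a haA haT
      set g := y * a * y⁻¹ with hg
      set u := y * a * y⁻¹ * a⁻¹ with hu
      have huR : u ∈ R := by
        have h1 := (Subgroup.mem_normalizer_iff.mp (hAR haA) _).mp (inv_mem hy)
        simpa [hu, mul_assoc] using mul_mem hy h1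
      have hgu : g = u * a := by rw [hu, inv_mul_cancel_right]
      have hca : a * c * a⁻¹ ∈ T :=
        (Subgroup.mem_normalizer_iff.mp (hAT haA) c).mp (Subgroup.mem_zpowers c)
      have hgc : g * c * g⁻¹ ∈ N ⊔ T := by
        have e1 : g * c * g⁻¹ = u * (a * c * a⁻¹) * u⁻¹ * (a * c * a⁻¹)⁻¹ * (a * c * a⁻¹) := by
          rw [hgu]; group
        rw [e1]
        refine mul_mem (Subgroup.mem_sup_left (Subgroup.mem_inf.mpr ⟨?_, ?_⟩)) (Subgroup.mem_sup_right hca)
        · rw [show u * (a * c * a⁻¹) * u⁻¹ = g * c * g⁻¹ by rw [hgu]; group]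
          exact mul_mem (mul_mem (mul_mem hgF hcF) (inv_mem hgF)) (inv_mem (hTF hca))
        · have h1 := (Subgroup.mem_normalizer_iff.mp (hAR (hTA hca)) _).mp (inv_mem huR)
          simpa [mul_assoc] using mul_mem huR h1
      have hle : MulAut.conj g • T ≤ N ⊔ T := by
        intro x hx
        rw [Coprime.mem_conj_smul] at hx
        obtain ⟨i, hi⟩ := (isOfFinOrder_of_finite c).mem_powers_iff_mem_zpowers.mpr hx
        dsimp only at hi
        rw [show x = g * c ^ i * g⁻¹ by rw [hi]; group, ← conj_pow]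
        exact pow_mem hgc i
      obtain ⟨m, hm, hconj⟩ := Coprime.exists_conj_eq_of_le_sup hTN
        ((hcopR.coprime_dvd_left (Subgroup.card_dvd_of_le hTA)).coprime_dvd_right
          (Subgroup.card_dvd_of_le inf_le_right)).symm (Or.inr hTsolv) (Coprime.card_conj_smul g T) hle
      rw [hN, Subgroup.mem_inf] at hm
      set v := m⁻¹ * u with hv
      have hvR : v ∈ R := mul_mem (inv_mem hm.2) huR
      have hvT : MulAut.conj v • T = T := by
        have h1 : MulAut.conj (m⁻¹ * g) • T = T := by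
          rw [Coprime.conj_mul_smul, ← hconj, ← Coprime.conj_mul_smul, inv_mul_cancel,
            Coprime.conj_one_smul]
        rwa [hgu, ← mul_assoc, Coprime.conj_mul_smul, Coprime.conj_smul_eq_of_mem_normalizer (hAT haA)]
          at h1
      have hvc : c * v = v * c := by
        have h1 : v * c * v⁻¹ ∈ T :=
          (Subgroup.mem_normalizer_iff.mp (Coprime.mem_normalizer_of_conj_smul_eq hvT) c).mp
            (Subgroup.mem_zpowers c)
        have h2 : v * c * v⁻¹ * c⁻¹ ∈ R := by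
          have h3 := (Subgroup.mem_normalizer_iff.mp (hAR hcA) _).mp (inv_mem hvR)
          simpa [mul_assoc] using mul_mem hvR h3
        have h4 := Coprime.eq_one_of_mem_of_mem (hcopR.coprime_dvd_left (Subgroup.card_dvd_of_le hTA))
          (mul_mem h1 (inv_mem (Subgroup.mem_zpowers c))) h2
        exact (mul_inv_eq_iff_eq_mul.mp (mul_inv_eq_one.mp h4)).symm
      have hvF := hR0 h v hvR hvc
      have haF : a ∈ weightStab D χ := by
        have : a = v⁻¹ * (m⁻¹ * g) := by rw [hv, hgu]; group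
        rw [this]
        exact mul_mem (inv_mem hvF) (mul_mem (inv_mem hm.1) hgF)
      have hAF : A ≤ weightStab D χ :=
        hgen ▸ sup_le hTF (Subgroup.zpowers_le.mpr haF)
      obtain ⟨x, hx, hx1⟩ := hne
      exact hx1 (hA0 h hAF x hx)
    intro y hy
    have hcop' : (Nat.card T).Coprime (Nat.card R) :=
      hcopR.coprime_dvd_left (Subgroup.card_dvd_of_le hTA)
    rw [← Coprime.commutator_sup_centralizer_eq (hTA.trans hAR) hcop' (Or.inl hTsolv)] at hy
    refine (sup_le ?_ ?_ : ⁅R, T⁆ ⊔ R ⊓ Subgroup.centralizer (T : Set Γ) ≤ weightStab D χ) hy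
    · rw [Subgroup.commutator_le]
      intro g hg t ht
      obtain ⟨i, rfl⟩ := (isOfFinOrder_of_finite c).mem_powers_iff_mem_zpowers.mpr ht
      show g * c ^ i * g⁻¹ * (c ^ i)⁻¹ ∈ weightStab D χ
      refine mul_mem ?_ (inv_mem (pow_mem hcF i))
      rw [← conj_pow]
      exact pow_mem (hstep g hg) i
    · intro g hg
      rw [Subgroup.mem_inf] at hg
      exact hR0 h g hg.1 (Subgroup.mem_centralizer_iff.mp hg.2 c (Subgroup.mem_zpowers c))
  -- every weight is fixed by `R`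
  have hmain : ∀ {χ : Γ → k}, IsWeight ρ D χ → ∀ y ∈ R, ∀ x ∈ D, χ (y * x * y⁻¹) = χ x := by
    intro χ h
    by_cases hsome : ∃ g ∈ R, c ∈ weightStab D (fun x => χ (g * x * g⁻¹))
    · obtain ⟨g, hg, hcg⟩ := hsome
      intro y hy x hx
      have hgD := hRD hg
      by_cases htriv : ∀ z ∈ D, χ z = 1
      · rw [htriv x hx, htriv _ ((Subgroup.mem_normalizer_iff.mp (hRD hy) x).mp hx)]
      push Not at htriv
      obtain ⟨z, hz, hz1⟩ := htriv
      have hne : ∃ z ∈ D, (fun x => χ (g * x * g⁻¹)) z ≠ 1 :=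
        ⟨g⁻¹ * z * g, (Subgroup.mem_normalizer_iff''.mp hgD z).mp hz, by
          show χ (g * (g⁻¹ * z * g) * g⁻¹) ≠ 1
          rwa [show g * (g⁻¹ * z * g) * g⁻¹ = z by group]⟩
      have hRF := hcR (h.translate hgD) hcg hne
      have hstab : ∀ g' ∈ R, g' ∈ weightStab D χ := by
        intro g' hg'
        refine ⟨hRD hg', fun w hw => ?_⟩
        have h1 : g⁻¹ * w * g ∈ D := (Subgroup.mem_normalizer_iff''.mp hgD w).mp hw
        have h2 := (hRF (mul_mem (mul_mem (inv_mem hg) hg') hg)).2 _ h1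
        dsimp only at h2
        rw [show g * (g⁻¹ * g' * g * (g⁻¹ * w * g) * (g⁻¹ * g' * g)⁻¹) * g⁻¹ = g' * w * g'⁻¹ by group,
          show g * (g⁻¹ * w * g) * g⁻¹ = w by group] at h2
        exact h2
      exact (hstab y hy).2 x hx
    push Not at hsome
    -- now every translate is trivial on fixed points of `c`
    let S : Subgroup Γ :=
      { carrier := {g | g ∈ Subgroup.normalizer (D : Set Γ) ∧ ∀ x ∈ D, ρ (g * x * g⁻¹) = ρ x}
        one_mem' := ⟨one_mem _, fun x _ => by simp⟩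
        mul_mem' := fun {g₁ g₂} h₁ h₂ => ⟨mul_mem h₁.1 h₂.1, fun x hx => by
          rw [show g₁ * g₂ * x * (g₁ * g₂)⁻¹ = g₁ * (g₂ * x * g₂⁻¹) * g₁⁻¹ by group,
            h₁.2 _ ((Subgroup.mem_normalizer_iff.mp h₂.1 x).mp hx), h₂.2 x hx]⟩
        inv_mem' := fun {g} h => ⟨inv_mem h.1, fun x hx => by
          have h1 : g⁻¹ * x * g ∈ D := (Subgroup.mem_normalizer_iff''.mp h.1 x).mp hx
          rw [inv_inv, ← h.2 _ h1]
          congr 1
          group⟩ }
    set K := R ⊓ S with hK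
    have hSn : ∀ g ∈ Subgroup.normalizer (D : Set Γ), ∀ s ∈ S, g * s * g⁻¹ ∈ S := by
      intro g hg s hs
      refine ⟨mul_mem (mul_mem hg hs.1) (inv_mem hg), fun x hx => ?_⟩
      have h1 : g⁻¹ * x * g ∈ D := (Subgroup.mem_normalizer_iff''.mp hg x).mp hx
      rw [show g * s * g⁻¹ * x * (g * s * g⁻¹)⁻¹ = g * (s * (g⁻¹ * x * g) * s⁻¹) * g⁻¹ by group,
        map_mul, map_mul, hs.2 _ h1, ← map_mul, ← map_mul]
      congr 1
      group
    have hR0K : ∀ g ∈ R, c * g = g * c → g ∈ K := by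
      intro g hg hcg
      refine Subgroup.mem_inf.mpr ⟨hg, hRD hg, fun x hx => ?_⟩
      have hgx : g * x * g⁻¹ ∈ D := (Subgroup.mem_normalizer_iff.mp (hRD hg) x).mp hx
      by_contra hne
      have hmem : g * x * g⁻¹ * x⁻¹ ∈ D := mul_mem hgx (inv_mem hx)
      obtain ⟨i, hi⟩ := hDq _ hmem
      obtain ⟨χ', v, hv0, hv, hχ'⟩ := exists_weight' ρ D hDc hmem (n := q ^ i)
        (by rw [Nat.cast_pow]; exact pow_ne_zero _ hqk) hi (fun e => hne (by
          rw [← one_mul (ρ x), ← e, ← map_mul, inv_mul_cancel_right]))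
      let χe : Γ → k := fun z => if hz : z ∈ D then χ' ⟨z, hz⟩ else 0
      have hw : IsWeight ρ D χe := ⟨v, hv0, fun z hz => by
        simp only [χe, dif_pos hz]; exact hv ⟨z, hz⟩⟩
      apply hχ'
      have h1 := (hR0 hw g hg hcg).2 x hx
      have h2 : χe (g * x * g⁻¹ * x⁻¹) = 1 := by
        rw [hw.map_mul' hgx (inv_mem hx), h1, ← hw.map_mul' hx (inv_mem hx), mul_inv_cancel,
          hw.map_one']
      simpa [χe, hmem] using h2
    let K' := K.subgroupOf R
    haveI hK'n : K'.Normal := ⟨fun s hs g => by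
      rw [Subgroup.mem_subgroupOf, hK, Subgroup.mem_inf] at hs ⊢
      exact ⟨mul_mem (mul_mem g.2 s.2) (inv_mem g.2), hSn _ (hRD g.2) _ hs.2⟩⟩
    have hval : ∀ (z : Γ), z ∈ D → ∀ g : R,
        χ ((g : Γ) * z * (g : Γ)⁻¹) =
          χ (((g : R ⧸ K').out : Γ) * z * (((g : R ⧸ K').out : Γ))⁻¹) := by
      intro z hz g
      obtain ⟨⟨s, hs⟩, hout⟩ := QuotientGroup.mk_out_eq_mul K' g
      rw [Subgroup.mem_subgroupOf, hK, Subgroup.mem_inf] at hs
      have hsD : (s : Γ) * z * (s : Γ)⁻¹ ∈ D := (Subgroup.mem_normalizer_iff.mp hs.2.1 z).mp hz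
      rw [hout, Subgroup.coe_mul]
      refine (h.translate (hRD g.2)).eq_of_map_eq hz hsD (hs.2.2 z hz).symm |>.trans ?_
      dsimp only
      congr 1
      group
    letI := Fintype.ofFinite (R ⧸ K')
    let P : Γ → k := fun z => ∏ g : R ⧸ K', χ ((g.out : Γ) * z * (g.out : Γ)⁻¹)
    set M := Fintype.card (R ⧸ K') with hM
    have hPinv : ∀ y ∈ R, ∀ x ∈ D, P (y * x * y⁻¹) = P x := by
      intro y hy x hx
      refine Fintype.prod_equiv (Equiv.mulRight ((⟨y, hy⟩ : R) : R ⧸ K')) _ _ (fun g => ?_)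
      rw [Equiv.coe_mulRight]
      dsimp only
      conv_rhs => rw [show g * ((⟨y, hy⟩ : R) : R ⧸ K') = ((g.out * ⟨y, hy⟩ : R) : R ⧸ K') by
        rw [QuotientGroup.mk_mul, QuotientGroup.out_eq']]
      rw [← hval x hx]
      simp only [Subgroup.coe_mul]
      congr 1
      group
    have hkey : ∀ z ∈ D, χ z ^ M = P z := by
      intro z hz
      have hcD : ∀ i : ℕ, c ^ i * z * (c ^ i)⁻¹ ∈ D := fun i =>
        (Subgroup.mem_normalizer_iff.mp (pow_mem (hAD hcA) i) z).mp hz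
      have hone : ∀ g ∈ R, ∀ z ∈ D, ∏ i ∈ Finset.range n, χ (g * (c ^ i * z * (c ^ i)⁻¹) * g⁻¹) = 1 := by
        intro g hg z hz
        obtain ⟨hz', hz'fix⟩ := hnormfix c hcA z hz (Or.inl hcn) n hcn
        obtain ⟨w, hwD, hwρ, hwc⟩ := hlift T hTA hTsolv _ hz' (by
          intro a ha
          obtain ⟨i, rfl⟩ := (isOfFinOrder_of_finite c).mem_powers_iff_mem_zpowers.mpr ha
          show ρ (c ^ i * (z * c) ^ n * (c ^ i)⁻¹) = _
          induction i with
          | zero => simp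
          | succ i ih =>
            rw [show c ^ (i + 1) * (z * c) ^ n * (c ^ (i + 1))⁻¹ =
                c * (c ^ i * (z * c) ^ n * (c ^ i)⁻¹) * c⁻¹ by rw [pow_succ']; group,
              map_mul, map_mul, ih (pow_mem (Subgroup.mem_zpowers c) i), ← map_mul, ← map_mul, hz'fix])
        have hwt := h.translate (hRD hg)
        have h1 := (hwt.norm_eq_prod (hAD hcA) hz n).2
        rw [hcn, inv_one, mul_one] at h1
        rw [← h1, ← hwt.eq_of_map_eq hwD hz' hwρ]
        exact hC1 hwt (hsome g hg) w hwD (hwc c (Subgroup.mem_zpowers c))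
      have h1 : ∏ i ∈ Finset.range n, P (c ^ i * z * (c ^ i)⁻¹) = 1 := by
        simp only [P]
        rw [Finset.prod_comm]
        exact Finset.prod_eq_one fun g _ => hone _ g.out.2 z hz
      have h2 : ∀ g : R ⧸ K', ∏ i ∈ Finset.range n,
          χ (((g.out : Γ) * c ^ i * (g.out : Γ)⁻¹ * (c ^ i)⁻¹) * (c ^ i * z * (c ^ i)⁻¹) *
            ((g.out : Γ) * c ^ i * (g.out : Γ)⁻¹ * (c ^ i)⁻¹)⁻¹) = 1 := by
        intro g
        rw [← hone _ g.out.2 ((g.out : Γ)⁻¹ * z * g.out)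
          ((Subgroup.mem_normalizer_iff''.mp (hRD g.out.2) z).mp hz)]
        refine Finset.prod_congr rfl fun i _ => ?_
        congr 1
        group
      have h3 : ∏ g : R ⧸ K', ∏ i ∈ Finset.range n,
          χ (((g.out : Γ) * c ^ i * (g.out : Γ)⁻¹ * (c ^ i)⁻¹) * (c ^ i * z * (c ^ i)⁻¹) *
            ((g.out : Γ) * c ^ i * (g.out : Γ)⁻¹ * (c ^ i)⁻¹)⁻¹) = 1 :=
        Finset.prod_eq_one fun g _ => h2 g
      rw [Finset.prod_comm] at h3
      obtain ⟨n', hn'⟩ : ∃ n', n = n' + 1 := ⟨n - 1, by have := hn.pos; omega⟩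
      rw [hn', Finset.prod_range_succ'] at h1 h3
      simp only [pow_zero, one_mul, inv_one, mul_one, mul_inv_cancel, Finset.prod_const,
        Finset.card_univ] at h1 h3
      have hterm : ∀ i ∈ Finset.range n',
          (∏ g : R ⧸ K', χ (((g.out : Γ) * c ^ (i + 1) * (g.out : Γ)⁻¹ * (c ^ (i + 1))⁻¹) *
            (c ^ (i + 1) * z * (c ^ (i + 1))⁻¹) *
            ((g.out : Γ) * c ^ (i + 1) * (g.out : Γ)⁻¹ * (c ^ (i + 1))⁻¹)⁻¹)) =
          P (c ^ (i + 1) * z * (c ^ (i + 1))⁻¹) := by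
        intro i hi
        have hci : c ^ (i + 1) ∈ A := pow_mem hcA _
        have hmem : ∀ g : R, (g : Γ) * c ^ (i + 1) * (g : Γ)⁻¹ * (c ^ (i + 1))⁻¹ ∈ R := fun g => by
          have h5 := (Subgroup.mem_normalizer_iff.mp (hAR hci) _).mp (inv_mem g.2)
          simpa [mul_assoc] using mul_mem g.2 h5
        let f : R ⧸ K' → R ⧸ K' := fun g => ((⟨_, hmem g.out⟩ : R) : R ⧸ K')
        have hinj : Function.Injective f := by
          intro g₁ g₂ e
          have e' := QuotientGroup.eq.mp e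
          rw [Subgroup.mem_subgroupOf, hK, Subgroup.mem_inf] at e'
          simp only [Subgroup.coe_mul, Subgroup.coe_inv] at e'
          set x₁ := (g₁.out : Γ) with hx₁
          set x₂ := (g₂.out : Γ) with hx₂
          set d := c ^ (i + 1) with hd
          set w := x₁⁻¹ * x₂ with hw
          have hdT : d⁻¹ ∈ T := inv_mem (pow_mem (Subgroup.mem_zpowers c) _)
          have hd1 : d⁻¹ ≠ 1 := by
            rw [Ne, inv_eq_one, hd]
            intro e0
            have := orderOf_dvd_of_pow_eq_one e0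
            rw [hord] at this
            have := Nat.le_of_dvd (Nat.succ_pos i) this
            rw [Finset.mem_range] at hi
            omega
          have hwR : w ∈ R := mul_mem (inv_mem g₁.out.2) g₂.out.2
          have hTK : ∀ t ∈ T, ∀ g ∈ K, t * g * t⁻¹ ∈ K := fun t ht g hg => by
            rw [hK, Subgroup.mem_inf] at hg ⊢
            exact ⟨(Subgroup.mem_normalizer_iff.mp (hAR (hTA ht)) g).mp hg.1,
              hSn t (hAD (hTA ht)) g hg.2⟩
          let F : Subgroup Γ :=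
            { carrier := {t | t ∈ T ∧ t * w * t⁻¹ * w⁻¹ ∈ K}
              one_mem' := ⟨one_mem _, by simp⟩
              mul_mem' := fun {t₁ t₂} h₁ h₂ => ⟨mul_mem h₁.1 h₂.1, by
                rw [show t₁ * t₂ * w * (t₁ * t₂)⁻¹ * w⁻¹ =
                  (t₁ * (t₂ * w * t₂⁻¹ * w⁻¹) * t₁⁻¹) * (t₁ * w * t₁⁻¹ * w⁻¹) by group]
                exact mul_mem (hTK t₁ h₁.1 _ h₂.2) h₁.2⟩
              inv_mem' := fun {t} h => ⟨inv_mem h.1, by
                have h5 := hTK t⁻¹ (inv_mem h.1) _ (inv_mem h.2)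
                simpa [mul_assoc] using h5⟩ }
          have hdF : d⁻¹ ∈ F := ⟨hdT, Subgroup.mem_inf.mpr ⟨mul_mem
            ((Subgroup.mem_normalizer_iff.mp (hAR (hTA hdT)) w).mp hwR) (inv_mem hwR), by
            have h5 := hSn x₁⁻¹ (inv_mem (hRD g₁.out.2)) _
              (hSn d⁻¹ (inv_mem (hAD hci)) _ e'.2)
            rw [hw]
            simpa [mul_assoc] using h5⟩⟩
          have hTF : T ≤ F := Subgroup.zpowers_le.mpr
            ((Subgroup.zpowers_le.mpr hdF) (hTgen _ hdT hd1))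
          obtain ⟨s₀, hs₀, hs₀c⟩ := Coprime.exists_mem_centralizer_of_fixed_coset (A := T) (N := K)
            (k := w) (fun t ht => by
              rw [Subgroup.mem_normalizer_iff]
              exact fun g => ⟨hTK t ht g, fun hg => by
                simpa [mul_assoc] using hTK t⁻¹ (inv_mem ht) _ hg⟩)
            ((hcopR.coprime_dvd_left (Subgroup.card_dvd_of_le hTA)).coprime_dvd_right
              (Subgroup.card_dvd_of_le inf_le_left)) (Or.inl hTsolv)
            (by
              rw [Subgroup.mem_normalizer_iff]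
              intro g
              rw [hK]
              simp only [Subgroup.mem_inf]
              exact and_congr (Subgroup.mem_normalizer_iff.mp (Subgroup.le_normalizer hwR) g)
                ⟨hSn w (hRD hwR) g, fun hg => by
                  simpa [mul_assoc] using hSn w⁻¹ (inv_mem (hRD hwR)) _ hg⟩)
            (fun t ht => (hTF ht).2)
          have hs₀R : s₀ ∈ R := (Subgroup.mem_inf.mp hs₀).1
          have hwK : w ∈ K := by
            have h5 := mul_mem (hR0K (w * s₀) (mul_mem hwR hs₀R)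
              (Subgroup.mem_centralizer_iff.mp hs₀c c (Subgroup.mem_zpowers c))) (inv_mem hs₀)
            simpa [mul_assoc] using h5
          rw [← QuotientGroup.out_eq' g₁, ← QuotientGroup.out_eq' g₂]
          exact QuotientGroup.eq.mpr hwK
        rw [Fintype.prod_bijective f ((Finite.injective_iff_bijective).mp hinj) _
          (fun g => χ ((g.out : Γ) * (c ^ (i + 1) * z * (c ^ (i + 1))⁻¹) * (g.out : Γ)⁻¹))
          (fun g => hval _ (hcD _) ⟨_, hmem g.out⟩)]
      rw [Finset.prod_congr rfl hterm] at h3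
      have hne : ∏ i ∈ Finset.range n', P (c ^ (i + 1) * z * (c ^ (i + 1))⁻¹) ≠ 0 := by
        intro e; rw [e, zero_mul] at h1; exact zero_ne_one h1
      exact mul_left_cancel₀ hne (h3.trans h1.symm)
    intro y hy x hx
    have hxy : y * x * y⁻¹ ∈ D := (Subgroup.mem_normalizer_iff.mp (hRD hy) x).mp hx
    obtain ⟨j, hj⟩ := hχq h x hx
    obtain ⟨j', hj'⟩ := hχq h _ hxy
    refine hroot j' j hj' hj ?_ (by rw [hkey _ hxy, hkey _ hx, hPinv y hy x hx])
    obtain ⟨l, hl⟩ := IsPGroup.iff_card.mp (hR.to_quotient K')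
    rw [hM, ← Nat.card_eq_fintype_card, hl]
    exact Nat.Coprime.pow_left l ((Nat.coprime_primes hr hq).mpr hrq)
  intro x hx y hy
  have hyx : y * x * y⁻¹ ∈ D := (Subgroup.mem_normalizer_iff.mp (hRD hy) x).mp hx
  suffices hρ : ρ (y * x * y⁻¹) = ρ x by
    show ρ x * ρ y = ρ y * ρ x
    rw [← map_mul ρ y x, show y * x = (y * x * y⁻¹) * y by group, map_mul ρ (y * x * y⁻¹), hρ]
  by_contra hne
  have hmem : y * x * y⁻¹ * x⁻¹ ∈ D := mul_mem hyx (inv_mem hx)
  obtain ⟨i, hi⟩ := hDq _ hmem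
  obtain ⟨χ', v, hv0, hv, hχ'⟩ := exists_weight' ρ D hDc hmem (n := q ^ i)
    (by rw [Nat.cast_pow]; exact pow_ne_zero _ hqk) hi (fun e => hne (by
      rw [← one_mul (ρ x), ← e, ← map_mul, inv_mul_cancel_right]))
  let χe : Γ → k := fun z => if hz : z ∈ D then χ' ⟨z, hz⟩ else 0
  have hw : IsWeight ρ D χe := ⟨v, hv0, fun z hz => by
    simp only [χe, dif_pos hz]; exact hv ⟨z, hz⟩⟩
  apply hχ'
  have h2 : χe (y * x * y⁻¹ * x⁻¹) = 1 := by
    rw [hw.map_mul' hyx (inv_mem hx), hmain hw y hy x hx, ← hw.map_mul' hx (inv_mem hx),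
      mul_inv_cancel, hw.map_one']
  simpa [χe, hmem] using h2

end Cfsg.Agent.Lib.Solvable.FPF
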