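import Cfsg.Agent.Lib.Solvable.FPF.Basic
import Cfsg.Agent.Lib.Solvable.FPF.Module
import Cfsg.Agent.Lib.Solvable.GrossTwo.Eigen
import Cfsg.Agent.Lib.OddChar.FrobeniusFixed
import Cfsg.Agent.Lib.Coprime.External
import Cfsg.Agent.Lib.Coprime.Action

/-!
Tools for the action of a fixed-point-free Frobenius group of order `np` on a symplectic layer.
-/

set_option autoImplicit false

open Pointwise
open scoped commutatorElement

namespace Cfsg.Agent.Lib.Solvable.FPF

open Module Cfsg.Agent.Lib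

section Quot

variable {H D : Type*} [Group H] [Group D] [Finite D]

/-- The action induced on the quotient by an invariant normal subgroup. -/
noncomputable def quotHom (θ : H →* MulAut D) (N : Subgroup D) [N.Normal]
    (hN : ∀ h, ∀ x ∈ N, θ h x ∈ N) : H →* MulAut (D ⧸ N) where
  toFun h := quotAut (θ h) N (hN h)
  map_one' := MulEquiv.ext fun y => by
    induction y using QuotientGroup.induction_on with
    | H y => rw [quotAut_mk, map_one]; rfl
  map_mul' a b := MulEquiv.ext fun y => by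
    induction y using QuotientGroup.induction_on with
    | H y => rw [MulAut.mul_apply, quotAut_mk, quotAut_mk, quotAut_mk, map_mul]; rfl

theorem quotHom_mk (θ : H →* MulAut D) (N : Subgroup D) [N.Normal]
    (hN : ∀ h, ∀ x ∈ N, θ h x ∈ N) (h : H) (x : D) :
    quotHom θ N hN h (x : D ⧸ N) = ((θ h x : D) : D ⧸ N) := rfl

/-- A coset fixed by a coprime solvable group of operators has a fixed representative. -/
theorem exists_fixed_lift [Finite H] (θ : H →* MulAut D) (N : Subgroup D) [N.Normal]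
    (hN : ∀ h, ∀ x ∈ N, θ h x ∈ N) (S : Subgroup H) (hS : Group.IsSolvable S)
    (hcop : (Nat.card S).Coprime (Nat.card D)) (m : D ⧸ N)
    (hm : ∀ s ∈ S, quotHom θ N hN s m = m) :
    ∃ x : D, (x : D ⧸ N) = m ∧ ∀ s ∈ S, θ s x = x := by
  induction m using QuotientGroup.induction_on with
  | H x =>
    obtain ⟨y, hy, hfix⟩ := Coprime.exists_fixed_of_fixed_coset (θ.comp S.subtype) hcop (Or.inl hS)
      (N := N) (fun s => hN s) x (fun s => by
        have h1 := hm s s.2
        rw [quotHom_mk, QuotientGroup.eq_iff_div_mem, div_eq_mul_inv] at h1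
        exact h1)
    exact ⟨x * y, QuotientGroup.mk_mul_of_mem x hy, fun s hs => hfix ⟨s, hs⟩⟩

end Quot

section Bilinear

/-- An element commuting with an irreducible isometry of order `2 ^ j + 1` of a symplectic group of
order `2 ^ (2 j)` has order dividing `2 ^ j + 1`. -/
theorem pow_eq_one_of_commute_isometry {V : Type*} [CommGroup V] [Finite V]
    (hexp : ∀ v : V, v * v = 1) {j l : ℕ} (hj : 1 ≤ j) (hl : l = 2 ^ j + 1) (hlp : l.Prime)
    (hcard : Nat.card V = 2 ^ (2 * j)) (φ α : MulAut V) (hφ : φ ^ l = 1)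
    (hfpf : ∀ v, φ v = v → v = 1) (hcomm : Commute φ α) {K : Type*} [CommMonoid K]
    (β : V → V → K) (hl1 : ∀ u v w, β (u * v) w = β u w * β v w)
    (hr1 : ∀ u v w, β u (v * w) = β u v * β u w) (hone : ∀ u, β u 1 = 1) (hone' : ∀ u, β 1 u = 1)
    (hnd : ∀ v, (∀ u, β u v = 1) → v = 1) (hβφ : ∀ u v, β (φ u) (φ v) = β u v)
    (hβα : ∀ u v, β (α u) (α v) = β u v) : α ^ l = 1 := by
  classical
  haveI := Fact.mk hlp
  let e : MulAut V →* AddMonoid.End (Additive V) :=
    { toFun := fun f => MonoidHom.toAdditive f.toMonoidHom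
      map_one' := rfl
      map_mul' := fun _ _ => rfl }
  have he : ∀ (f : MulAut V) (v : V), e f (Additive.ofMul v) = Additive.ofMul (f v) := fun _ _ => rfl
  set P : AddSubgroup (AddMonoid.End (Additive V)) :=
    AddSubgroup.closure (Set.range fun i : ℕ => e (φ ^ i)) with hP
  have htwo : ∀ x : Additive V, x + x = 0 := fun x => Additive.toMul.injective (hexp x.toMul)
  have htwo' : ∀ f : AddMonoid.End (Additive V), f + f = 0 := fun f =>
    AddMonoidHom.ext fun x => htwo (f x)
  -- elements of `P` commute with powers of `φ` and with each other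
  have hPφ : ∀ f ∈ P, ∀ g, (∀ i : ℕ, Commute (e (φ ^ i)) g) → Commute f g := by
    intro f hf g hg
    induction hf using AddSubgroup.closure_induction with
    | mem x hx => obtain ⟨i, rfl⟩ := hx; exact hg i
    | zero => exact Commute.zero_left g
    | add x y _ _ hx hy => exact hx.add_left hy
    | neg x _ hx => exact hx.neg_left
  have hPc : ∀ f ∈ P, ∀ i : ℕ, Commute (e (φ ^ i)) f := fun f hf i =>
    (hPφ f hf _ fun i' => ((Commute.refl φ).pow_pow i' i).map e).symm
  have hsq : ∀ (i : ℕ) {f g : AddMonoid.End (Additive V)}, Commute f g →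
      (f + g) ^ 2 ^ i = f ^ 2 ^ i + g ^ 2 ^ i := by
    intro i
    induction i with
    | zero => intro f g _; simp
    | succ i ih =>
      intro f g hfg
      rw [pow_succ, pow_mul, ih hfg, sq, pow_mul, pow_mul, sq, sq, add_mul, mul_add, mul_add,
        ((hfg.pow_pow (2 ^ i) (2 ^ i))).eq]
      set a := g ^ 2 ^ i * f ^ 2 ^ i
      rw [show ∀ x y : AddMonoid.End (Additive V), x + a + (a + y) = x + y + (a + a) from
        fun x y => by abel, htwo', add_zero]
  -- the adjoint of an element of `P` is its Frobenius power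
  have hadj : ∀ f ∈ P, ∀ u v : Additive V,
      β (f u).toMul v.toMul = β u.toMul ((f ^ 2 ^ j) v).toMul := by
    intro f hf
    induction hf using AddSubgroup.closure_induction with
    | mem x hx =>
      obtain ⟨i, rfl⟩ := hx
      intro u v
      show β ((φ ^ i) u.toMul) v.toMul = β u.toMul ((e (φ ^ i) ^ 2 ^ j) v).toMul
      rw [← map_pow]
      show _ = β u.toMul (((φ ^ i) ^ 2 ^ j) v.toMul)
      have hinv : ∀ (m : ℕ) (u v : V), β ((φ ^ m) u) ((φ ^ m) v) = β u v := by
        intro m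
        induction m with
        | zero => intro u v; rfl
        | succ m ih => intro u v; rw [pow_succ', MulAut.mul_apply, MulAut.mul_apply, hβφ, ih]
      rw [← hinv i u.toMul, ← MulAut.mul_apply, ← pow_mul, ← pow_add,
        show i + i * 2 ^ j = l * i by rw [hl]; ring, pow_mul, hφ, one_pow]
      rfl
    | zero =>
      intro u v
      rw [zero_pow (pow_ne_zero _ two_ne_zero)]
      show β 1 _ = β _ 1
      rw [hone', hone]
    | add x y hx hy ihx ihy =>
      intro u v
      rw [hsq j (hPφ x hx y (hPc y hy))]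
      show β ((x u).toMul * (y u).toMul) _ = β _ (((x ^ 2 ^ j) v).toMul * ((y ^ 2 ^ j) v).toMul)
      rw [hl1, hr1, ihx, ihy]
    | neg x _ ihx =>
      intro u v
      have h : -x = x := neg_eq_of_add_eq_zero_left (htwo' x)
      rw [h]
      exact ihx u v
  -- invariant subgroups are trivial or everything
  have hirr : ∀ X : Subgroup V, (∀ x ∈ X, φ x ∈ X) → X ≠ ⊥ → X = ⊤ := by
    intro X hX hX0
    have hpow : ∀ (i : ℕ), ∀ x ∈ X, (φ ^ i) x ∈ X := by
      intro i
      induction i with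
      | zero => exact fun x hx => hx
      | succ i ih => exact fun x hx => by rw [pow_succ', MulAut.mul_apply]; exact hX _ (ih x hx)
    letI : MulAction (Subgroup.zpowers φ) X :=
      { smul := fun g x => ⟨(g : MulAut V) x, by
          obtain ⟨i, hi⟩ := (isOfFinOrder_of_finite φ).mem_powers_iff_mem_zpowers.mpr g.2
          dsimp only at hi
          rw [← hi]
          exact hpow i x x.2⟩
        one_smul := fun x => Subtype.ext rfl
        mul_smul := fun a b x => Subtype.ext rfl }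
    have hpg : IsPGroup l (Subgroup.zpowers φ) := by
      rintro ⟨_, i, rfl⟩
      refine ⟨1, Subtype.ext ?_⟩
      show (φ ^ i) ^ l ^ 1 = 1
      rw [pow_one, ← zpow_natCast, ← zpow_mul, mul_comm, zpow_mul, zpow_natCast, hφ, one_zpow]
    have h1 := hpg.card_modEq_card_fixedPoints (α := X)
    have hfix : MulAction.fixedPoints (Subgroup.zpowers φ) X = {1} := by
      ext x
      simp only [MulAction.mem_fixedPoints, Set.mem_singleton_iff]
      refine ⟨fun h => Subtype.ext (hfpf x ?_), fun h g => ?_⟩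
      · exact congrArg Subtype.val (h ⟨φ, Subgroup.mem_zpowers φ⟩)
      · subst h
        exact Subtype.ext (map_one (g : MulAut V))
    rw [hfix, Nat.card_coe_set_eq, Set.ncard_singleton] at h1
    obtain ⟨i, hi, hXi⟩ := (Nat.dvd_prime_pow Nat.prime_two).mp (hcard ▸ X.card_subgroup_dvd_card)
    rw [hXi] at h1
    have hi0 : i ≠ 0 := fun e => hX0 (X.card_eq_one.mp (by rw [hXi, e, pow_zero]))
    refine X.eq_top_of_le_card ?_
    rw [hcard, hXi]
    refine Nat.pow_le_pow_right two_pos ?_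
    by_contra hlt
    push Not at hlt
    have hsmall : ∀ t : ℕ, 1 ≤ t → t ≤ j → ¬ 2 ^ t ≡ 1 [MOD l] := by
      intro t ht htj hmod
      have h2 : 2 ^ t < l := by
        rw [hl]; exact Nat.lt_succ_of_le (Nat.pow_le_pow_right two_pos htj)
      have h3 := Nat.ModEq.eq_of_lt_of_lt hmod h2 hlp.one_lt
      have h4 : 2 ^ 1 ≤ 2 ^ t := Nat.pow_le_pow_right two_pos ht
      omega
    by_cases hij : i ≤ j
    · exact hsmall i (by omega) hij h1
    push Not at hij
    refine hsmall (2 * j - i) (by omega) (by omega) ?_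
    have h2 : 2 ^ (2 * j) ≡ 1 [MOD l] := by
      rw [Nat.ModEq, hl, two_mul, pow_add]
      have hb : 2 ≤ 2 ^ j := by simpa using Nat.pow_le_pow_right two_pos hj
      generalize 2 ^ j = b at hb
      obtain ⟨b', rfl⟩ : ∃ b', b = b' + 1 := ⟨b - 1, by omega⟩
      rw [show (b' + 1) * (b' + 1) = 1 + b' * (b' + 1 + 1) by ring, Nat.add_mul_mod_self_right]
    calc 2 ^ (2 * j - i) = 2 ^ (2 * j - i) * 1 := (mul_one _).symm
      _ ≡ 2 ^ (2 * j - i) * 2 ^ i [MOD l] := Nat.ModEq.mul_left _ h1.symm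
      _ = 2 ^ (2 * j) := by rw [← pow_add, Nat.sub_add_cancel hlt.le]
      _ ≡ 1 [MOD l] := h2
  -- `α` is an element of `P`
  have hαP : e α ∈ P := by
    haveI : Nontrivial V := Finite.one_lt_card_iff_nontrivial.mp (by
      rw [hcard]; exact Nat.one_lt_pow (by omega) (by norm_num))
    obtain ⟨v, hv⟩ := exists_ne (1 : V)
    let ev : AddMonoid.End (Additive V) →+ Additive V := AddMonoidHom.eval (Additive.ofMul v)
    let O : Subgroup V := AddSubgroup.toSubgroup' (P.map ev)
    have hOmem : ∀ x : V, x ∈ O ↔ ∃ f ∈ P, f (Additive.ofMul v) = Additive.ofMul x := fun x =>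
      AddSubgroup.mem_map
    have hO : O = ⊤ := by
      refine hirr O (fun x hx => ?_) fun hb => hv ?_
      · obtain ⟨f, hf, hfx⟩ := (hOmem x).mp hx
        refine (hOmem _).mpr ⟨e φ * f, ?_, ?_⟩
        · clear hfx
          induction hf using AddSubgroup.closure_induction with
          | mem y hy =>
            obtain ⟨i, rfl⟩ := hy
            refine AddSubgroup.subset_closure ⟨i + 1, ?_⟩
            show e (φ ^ (i + 1)) = e φ * e (φ ^ i)
            rw [← map_mul, pow_succ']
          | zero => rw [mul_zero]; exact zero_mem _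
          | add y z _ _ hy hz => rw [mul_add]; exact add_mem hy hz
          | neg y _ hy => rw [neg_eq_of_add_eq_zero_left (htwo' y)]; exact hy
        · show e φ (f (Additive.ofMul v)) = _
          rw [hfx, he]
      · have : v ∈ O := (hOmem v).mpr ⟨e (φ ^ 0), AddSubgroup.subset_closure ⟨0, rfl⟩, by rw [he]; rfl⟩
        rwa [hb, Subgroup.mem_bot] at this
    obtain ⟨f, hf, hfv⟩ := (hOmem (α v)).mp (hO ▸ Subgroup.mem_top _)
    suffices hfα : e α = f by rw [hfα]; exact hf
    set d := f - e α with hd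
    have hdc : ∀ x : V, d (Additive.ofMul (φ x)) = e φ (d (Additive.ofMul x)) := by
      intro x
      have h1 : Commute (e φ) d := by
        have := hPc f hf 1
        rw [pow_one] at this
        exact this.sub_right (hcomm.map e)
      exact (DFunLike.congr_fun h1.eq (Additive.ofMul x)).symm
    let Z : Subgroup V := AddSubgroup.toSubgroup' (AddMonoidHom.ker d)
    have hZ : Z = ⊤ := by
      refine hirr Z (fun x hx => ?_) fun hb => hv ?_
      · show d (Additive.ofMul (φ x)) = 0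
        rw [hdc, show d (Additive.ofMul x) = 0 from hx, map_zero]
      · have : v ∈ Z := by
          show f (Additive.ofMul v) - e α (Additive.ofMul v) = 0
          rw [hfv, he, sub_self]
        rwa [hb, Subgroup.mem_bot] at this
    refine (sub_eq_zero.mp (AddMonoidHom.ext fun x => ?_)).symm
    exact (show x.toMul ∈ Z from hZ ▸ Subgroup.mem_top _)
  -- conclude
  refine MulEquiv.ext fun v => ?_
  have key : ∀ u, β u ((α ^ l) v) = β u v := by
    intro u
    have h1 := hadj _ hαP (Additive.ofMul u) (Additive.ofMul (α v))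
    rw [← map_pow, he, he] at h1
    change β (α u) (α v) = β u ((α ^ 2 ^ j) (α v)) at h1
    rw [hβα, ← MulAut.mul_apply, ← pow_succ, ← hl] at h1
    exact h1.symm
  have h2 : (α ^ l) v * v = 1 := hnd _ fun u => by rw [hr1, key, ← hr1, hexp, hone]
  exact mul_right_cancel (h2.trans (hexp v).symm)

theorem sq_lt_three_pow (m : ℕ) : m ^ 2 < 3 ^ m := by
  rcases m with _ | _ | m
  · norm_num
  · norm_num
  induction m with
  | zero => norm_num
  | succ m ih => rw [pow_succ 3]; nlinarith [ih]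

/-- A group of odd order of isometries normalised by a fixed-point-free isometry `φ` of prime order
moving at most a layer of order `(p - 1) ^ 2` is trivial. -/
theorem trivial_of_frobenius_isometries {M : Type*} [CommGroup M] [Finite M]
    (hexp : ∀ m : M, m ^ 2 = 1) {p : ℕ} (hp : p.Prime) (hp2 : p ≠ 2) {K : Type*} [CommGroup K]
    (β : M → M → K) (hl1 : ∀ u v w, β (u * v) w = β u w * β v w)
    (hr1 : ∀ u v w, β u (v * w) = β u v * β u w) (hself : ∀ u, β u u = 1)
    (hnd : ∀ u, (∀ v, β u v = 1) → u = 1) (φ : MulAut M) (hφ : φ ^ p = 1) (hφ1 : φ ≠ 1)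
    (U : Subgroup (MulAut M)) (hodd : ¬ 2 ∣ Nat.card U) (hpU : ¬ p ∣ Nat.card U)
    (hUn : φ ∈ Subgroup.normalizer (U : Set (MulAut M)))
    (hUfix : ∀ u ∈ U, φ * u = u * φ → u = 1)
    (hβU : ∀ u ∈ U, ∀ a b, β (u a) (u b) = β a b)
    (V : Subgroup M) (hVF : ∀ m : M, ∃ v ∈ V, φ (v⁻¹ * m) = v⁻¹ * m)
    (horth : ∀ v ∈ V, ∀ f, φ f = f → β f v = 1) (hV : Nat.card V ≤ (p - 1) ^ 2) :
    ∀ u ∈ U, u = 1 := by
  classical
  haveI : Fact (Nat.Prime 2) := ⟨Nat.prime_two⟩
  haveI := Fact.mk hp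
  haveI : Finite (MulAut M) := Finite.of_injective (fun f : MulAut M => (f : M → M))
    fun f g h => MulEquiv.ext (congrFun h)
  set E := Subgroup.zpowers φ with hE
  set Y := U ⊔ E with hY
  have hEn : E ≤ Subgroup.normalizer (U : Set (MulAut M)) := Subgroup.zpowers_le.mpr hUn
  have hordφ : orderOf φ = p := orderOf_eq_prime hφ hφ1
  have hEc : Nat.card E = p := by rw [hE, Nat.card_zpowers, hordφ]
  have hco : (Nat.card U).Coprime (Nat.card E) := by
    rw [hEc]; exact (hp.coprime_iff_not_dvd.mpr hpU).symm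
  have hUY : U ≤ Y := le_sup_left
  have hEY : E ≤ Y := le_sup_right
  haveI : (U.subgroupOf Y).Normal :=
    Subgroup.normal_subgroupOf_of_le_normalizer (sup_le Subgroup.le_normalizer hEn)
  letI := Fintype.ofFinite Y
  letI := Fintype.ofFinite (U.subgroupOf Y)
  letI := Fintype.ofFinite (E.subgroupOf Y)
  have hc1 : Nat.card (U.subgroupOf Y) = Nat.card U :=
    Nat.card_congr (Subgroup.subgroupOfEquivOfLe hUY).toEquiv
  have hc2 : Nat.card (E.subgroupOf Y) = p :=
    (Nat.card_congr (Subgroup.subgroupOfEquivOfLe hEY).toEquiv).trans hEc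
  have hYc : Nat.card Y = Nat.card U * p := by
    rw [hY, Coprime.card_sup_of_coprime hEn hco, hEc]
  have hYodd : ¬ 2 ∣ Fintype.card Y := by
    rw [← Nat.card_eq_fintype_card, hYc, Nat.prime_two.dvd_mul]
    rintro (h | h)
    · exact hodd h
    · exact hp2 ((Nat.prime_dvd_prime_iff_eq Nat.prime_two hp).mp h).symm
  have hform := OddChar.formula_elementary (U.subgroupOf Y) (E.subgroupOf Y)
    (by
      refine (Subgroup.eq_bot_iff_forall _).mpr fun g hg => Subtype.ext ?_
      exact Coprime.eq_one_of_mem_of_mem hco hg.1 hg.2)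
    (by rw [← Nat.card_eq_fintype_card, ← Nat.card_eq_fintype_card, ← Nat.card_eq_fintype_card, hYc,
      hc1, hc2])
    (by
      intro e he he1 u hu heu
      refine Subtype.ext (hUfix _ hu ?_)
      have h1 : (e : MulAut M) * u = u * e := congrArg Subtype.val heu
      have h2 : φ ∈ Subgroup.zpowers (e : MulAut M) := by
        have h3 : Subgroup.zpowers (e : MulAut M) = E := by
          refine Coprime.eq_of_le_of_card_le (Subgroup.zpowers_le.mpr he) ?_
          obtain ⟨i, hi⟩ := he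
          dsimp only at hi
          rw [hEc, Nat.card_zpowers, orderOf_eq_prime (show (e : MulAut M) ^ p = 1 by
            rw [show (e : MulAut M) = φ ^ i from hi.symm, ← zpow_natCast, ← zpow_mul, mul_comm,
              zpow_mul, zpow_natCast, hφ, one_zpow])
            (fun e0 => he1 (Subtype.ext e0))]
        rw [h3]; exact Subgroup.mem_zpowers φ
      obtain ⟨i, hi⟩ := h2
      dsimp only at hi
      rw [← hi]
      exact (Commute.zpow_left h1 i).eq)
    hexp hYodd Y.subtype
  -- identify the fixed points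
  let C : Subgroup M :=
    { carrier := {m | ∀ u ∈ U, u m = m}
      one_mem' := fun u _ => map_one u
      mul_mem' := fun {a b} ha hb u hu => by rw [map_mul, ha u hu, hb u hu]
      inv_mem' := fun {a} ha u hu => by rw [map_inv, ha u hu] }
  let F : Subgroup M := MonoidHom.eqLocus φ.toMonoidHom (MonoidHom.id M)
  have hFmem : ∀ m, m ∈ F ↔ φ m = m := fun m => Iff.rfl
  have hEfix : ∀ m, φ m = m → ∀ g ∈ E, g m = m := by
    intro m hm g hg
    obtain ⟨i, rfl⟩ := (isOfFinOrder_of_finite φ).mem_powers_iff_mem_zpowers.mpr hg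
    dsimp only
    induction i with
    | zero => rfl
    | succ i ih => rw [pow_succ, MulAut.mul_apply, hm, ih (pow_mem (Subgroup.mem_zpowers φ) i)]
  have eC : OddChar.fixSub Y.subtype (U.subgroupOf Y) = C := by
    ext m
    exact ⟨fun h u hu => h ⟨u, hUY hu⟩ hu, fun h g hg => h g hg⟩
  have eF : OddChar.fixSub Y.subtype (E.subgroupOf Y) = F := by
    ext m
    exact ⟨fun h => h ⟨φ, hEY (Subgroup.mem_zpowers φ)⟩ (Subgroup.mem_zpowers φ),
      fun h g hg => hEfix m h g hg⟩
  have eT : OddChar.fixSub Y.subtype (⊤ : Subgroup Y) = C ⊓ F := by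
    ext m
    rw [OddChar.mem_fixSub, Subgroup.mem_inf, hFmem]
    refine ⟨fun h => ⟨fun u hu => h ⟨u, hUY hu⟩ trivial, h ⟨φ, hEY (Subgroup.mem_zpowers φ)⟩ trivial⟩,
      fun h g _ => ?_⟩
    obtain ⟨u, hu, f, hf, e⟩ := Coprime.exists_mul_of_mem_sup hEn g.2
    show (g : MulAut M) m = m
    rw [e, MulAut.mul_apply, hEfix m h.2 f hf]
    exact h.1 u hu
  rw [eC, eF, eT, ← Nat.card_eq_fintype_card, hc2] at hform
  -- orders
  set a := Nat.card (C ⊓ F : Subgroup M) with ha
  obtain ⟨x, hx⟩ : a ∣ Nat.card F := Subgroup.card_dvd_of_le inf_le_right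
  obtain ⟨y, hy⟩ : a ∣ Nat.card C := Subgroup.card_dvd_of_le inf_le_left
  have ha0 : 0 < a := Nat.card_pos
  have hMc : Nat.card M = x ^ p * (a * y) := by
    rw [hx, hy, mul_pow] at hform
    exact Nat.eq_of_mul_eq_mul_left (pow_pos ha0 p) (hform.trans (by ring))
  have hMle : Nat.card M ≤ Nat.card V * Nat.card F := by
    rw [← Nat.card_prod]
    refine Nat.card_le_card_of_surjective (fun z : V × F => (z.1 : M) * z.2) fun m => ?_
    obtain ⟨v, hv, hv'⟩ := hVF m
    exact ⟨(⟨v, hv⟩, ⟨v⁻¹ * m, hv'⟩), mul_inv_cancel_left v m⟩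
  have hx0 : 0 < x := Nat.pos_of_ne_zero fun e => by
    have := Nat.card_pos (α := F); rw [hx, e, mul_zero] at this; omega
  have hy0 : 0 < y := Nat.pos_of_ne_zero fun e => by
    have := Nat.card_pos (α := C); rw [hy, e, mul_zero] at this; omega
  rcases Nat.lt_or_ge x 3 with hx3 | hx3
  swap
  · exfalso
    have h1 : x ^ (p - 1) * y ≤ Nat.card V := by
      refine Nat.le_of_mul_le_mul_right ?_ (Nat.mul_pos ha0 hx0)
      calc x ^ (p - 1) * y * (a * x) = x ^ (p - 1 + 1) * (a * y) := by ring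
        _ = Nat.card M := by rw [Nat.sub_add_cancel hp.one_le, hMc]
        _ ≤ _ := hx ▸ hMle
    have h2 : 3 ^ (p - 1) ≤ (p - 1) ^ 2 :=
      le_trans (Nat.pow_le_pow_left hx3 _) (le_trans (Nat.le_mul_of_pos_right _ hy0) (h1.trans hV))
    exact absurd h2 (not_le.mpr (sq_lt_three_pow _))
  interval_cases x
  · -- the fixed points of `φ` are fixed by `U`
    have hC : C = ⊤ := C.eq_top_of_le_card (by rw [hMc, hy, one_pow, one_mul])
    intro u hu
    exact MulEquiv.ext fun m => (hC ▸ Subgroup.mem_top m : m ∈ C) u hu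
  · exfalso
    obtain ⟨m, hmF, hmC⟩ : ∃ m ∈ F, m ∉ C := by
      by_contra h
      push Not at h
      rw [ha, inf_eq_right.mpr h] at hx
      have := Nat.card_pos (α := F)
      omega
    letI := Fintype.ofFinite U
    set N := ∏ u : U, (u : MulAut M) m with hN
    set z := m ^ Fintype.card U * N⁻¹ with hz
    have hNU : ∀ u ∈ U, u N = N := fun u hu => by
      rw [hN, map_prod]
      exact Fintype.prod_equiv (Equiv.mulLeft ⟨u, hu⟩) _ _ fun v => rfl
    have hNφ : φ N = N := by
      rw [hN, map_prod]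
      let σ : U ≃ U :=
        { toFun := fun u => ⟨φ * u * φ⁻¹, (Subgroup.mem_normalizer_iff.mp hUn _).mp u.2⟩
          invFun := fun u => ⟨φ⁻¹ * u * φ, (Subgroup.mem_normalizer_iff''.mp hUn _).mp u.2⟩
          left_inv := fun u => Subtype.ext (by group)
          right_inv := fun u => Subtype.ext (by group) }
      refine Fintype.prod_equiv σ _ _ fun u => ?_
      show φ ((u : MulAut M) m) = (φ * u * φ⁻¹) m
      rw [MulAut.mul_apply, MulAut.mul_apply]
      congr 2
      have hmF' : φ m = m := hmF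
      exact ((φ.symm_apply_eq).mpr hmF'.symm).symm
    have hzF : z ∈ F := F.mul_mem (F.pow_mem hmF _) (F.inv_mem hNφ)
    have hzC : z ∉ C := by
      intro h
      have h1 : m ^ Fintype.card U ∈ C := by
        have := C.mul_mem h hNU
        rwa [inv_mul_cancel_right] at this
      obtain ⟨i, hi⟩ := exists_pow_eq_self_of_coprime (x := m) (n := Fintype.card U) (by
        refine Nat.Coprime.coprime_dvd_right (orderOf_dvd_of_pow_eq_one (hexp m)) ?_
        rw [← Nat.card_eq_fintype_card]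
        exact (Nat.prime_two.coprime_iff_not_dvd.mpr hodd).symm)
      exact hmC (hi ▸ C.pow_mem h1 i)
    have hbr : ∀ b, β 1 b = 1 := fun b => by
      have := hl1 1 1 b
      rw [one_mul] at this
      exact left_eq_mul.mp this
    have hzCperp : ∀ f ∈ C, β z f = 1 := by
      intro f hf
      let g : M →* K := MonoidHom.mk' (fun t => β t f) fun s t => hl1 s t f
      show g z = 1
      rw [hz, map_mul, map_inv, hN, map_prod, map_pow, Finset.prod_eq_pow_card (b := g m) (fun u _ => ?_),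
        Finset.card_univ, mul_inv_cancel]
      show β ((u : MulAut M) m) f = β m f
      conv_lhs => rw [← hf u u.2]
      exact hβU u u.2 m f
    have hzF' : ∀ f ∈ F, β z f = 1 := by
      intro f hf
      -- two cosets
      haveI : ((C ⊓ F).subgroupOf F).Normal := inferInstance
      have hidx : ((C ⊓ F).subgroupOf F).index = 2 := by
        have h := Coprime.relIndex_mul_card (show C ⊓ F ≤ F from inf_le_right)
        rw [hx, ← ha] at h
        exact Nat.eq_of_mul_eq_mul_left ha0 h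
      by_cases hfC : f ∈ C
      · exact hzCperp f hfC
      · have h1 : (⟨z, hzF⟩ : F)⁻¹ * ⟨f, hf⟩ ∈ (C ⊓ F).subgroupOf F := by
          rw [Subgroup.mul_mem_iff_of_index_two hidx, Subgroup.inv_mem_iff]
          exact iff_of_false (fun h => hzC h.1) fun h => hfC h.1
        have h2 : β z (z * (z⁻¹ * f)) = 1 := by
          rw [hr1, hself, one_mul]
          exact hzCperp _ h1.1
        rwa [mul_inv_cancel_left] at h2
    refine hzC ?_
    rw [hnd z fun b => ?_]
    · exact C.one_mem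
    obtain ⟨v, hv, hv'⟩ := hVF b
    rw [← mul_inv_cancel_left v b, hr1, horth v hv z hzF, one_mul]
    exact hzF' _ hv'

end Bilinear

section Norm

variable {Γ : Type*} [Group Γ] [Finite Γ] {W : Type*} [CommGroup W]

/-- A point fixed by `b` becomes, after averaging over `[R, b]`, fixed by `C_R(b)`. -/
theorem fixed_average (θ : Γ →* MulAut W) (A R R₁ : Subgroup Γ) [Fintype R₁] {b c : Γ}
    (hR₁ : R₁ = ⁅R, Subgroup.zpowers b⁆)
    (hbA : b ∈ A) (hcA : c ∈ A) (hgen : Subgroup.zpowers c ⊔ Subgroup.zpowers b = A)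
    (hT : ∀ f ∈ Subgroup.zpowers c, b * f * b⁻¹ ∈ Subgroup.zpowers c)
    (hnc : ∀ f ∈ Subgroup.zpowers c, f ≠ 1 → c ∈ Subgroup.zpowers f ∧ f * b ≠ b * f)
    (hAR : A ≤ Subgroup.normalizer (R : Set Γ)) (hA : Group.IsSolvable A)
    (hcop : (Nat.card A).Coprime (Nat.card R))
    (hRA : ∀ x ∈ R, (∀ a ∈ A, a * x = x * a) → x = 1)
    (hθA : ∀ w, (∀ a ∈ A, θ a w = w) → w = 1) (hθR : ∀ w, (∀ g ∈ R, θ g w = w) → w = 1)
    (hθc : ∀ g ∈ R, ∀ h ∈ R, Commute (θ g) (θ h))
    (hcopW : ∀ w : W, (Nat.card R).Coprime (orderOf w)) {y : Γ} (hy : y ∈ R)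
    (hby : b * y = y * b) {w : W} (hw : θ b w = w) :
    θ y (∏ g : R₁, θ g w) = ∏ g : R₁, θ g w := by
  classical
  have hbN : Subgroup.zpowers b ≤ Subgroup.normalizer (R : Set Γ) := (Subgroup.zpowers_le.mpr hbA).trans hAR
  have hR₁R : R₁ ≤ R := hR₁ ▸ Coprime.commutator_le_of_le_normalizer hbN
  have hR₁b : b ∈ Subgroup.normalizer (R₁ : Set Γ) := hR₁ ▸
    Subgroup.normalizer_commutator_ge_right R _ (Subgroup.mem_zpowers b)
  -- the norm over `R₁`
  let N : W →* W :=
    { toFun := fun v => ∏ g : R₁, θ g v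
      map_one' := Finset.prod_eq_one fun g _ => map_one _
      map_mul' := fun u v => by simp only [map_mul, Finset.prod_mul_distrib] }
  have hNfix : ∀ g ∈ R₁, ∀ v, θ g (N v) = N v := fun g hg v => by
    show θ g (∏ h : R₁, θ h v) = _
    rw [map_prod]
    exact Fintype.prod_equiv (Equiv.mulLeft ⟨g, hg⟩) _ _ fun h => by
      rw [← MulAut.mul_apply, ← map_mul]; rfl
  have hNpow : ∀ v, (∀ g ∈ R₁, θ g v = v) → N v = v ^ Fintype.card R₁ := fun v hv => by
    show ∏ h : R₁, θ h v = _
    rw [Finset.prod_eq_pow_card (b := v) fun (g : R₁) _ => hv g g.2, Finset.card_univ]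
  have hbfix : θ b (N w) = N w := by
    show θ b (∏ h : R₁, θ h w) = ∏ h : R₁, θ h w
    rw [map_prod]
    let σ : R₁ ≃ R₁ :=
      { toFun := fun g => ⟨b * g * b⁻¹, (Subgroup.mem_normalizer_iff.mp hR₁b _).mp g.2⟩
        invFun := fun g => ⟨b⁻¹ * g * b, (Subgroup.mem_normalizer_iff''.mp hR₁b _).mp g.2⟩
        left_inv := fun g => Subtype.ext (by group)
        right_inv := fun g => Subtype.ext (by group) }
    refine Fintype.prod_equiv σ _ _ fun g => ?_
    show θ b (θ (g : Γ) w) = θ (b * g * b⁻¹) w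
    conv_rhs => rw [← hw]
    rw [← MulAut.mul_apply, ← MulAut.mul_apply, ← map_mul, ← map_mul, inv_mul_cancel_right]
  show θ y (N w) = N w
  set m' := θ y (N w) * (N w)⁻¹ with hm'
  suffices h : m' = 1 by rwa [hm', mul_inv_eq_one] at h
  have hb' : θ b m' = m' := by
    rw [hm', map_mul, map_inv, hbfix, ← MulAut.mul_apply, ← map_mul, hby, map_mul, MulAut.mul_apply, hbfix]
  have hR₁m : ∀ g ∈ R₁, θ g m' = m' := fun g hg => by
    rw [hm', map_mul, map_inv, hNfix g hg, ← MulAut.mul_apply, (hθc g (hR₁R hg) y hy).eq,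
      MulAut.mul_apply, hNfix g hg]
  -- the norm over the normal cyclic subgroup
  letI := Fintype.ofFinite (Subgroup.zpowers c)
  set T := Subgroup.zpowers c with hTdef
  have hbT : b ∈ Subgroup.normalizer (T : Set Γ) := by
    refine Coprime.mem_normalizer_of_conj_smul_eq (Coprime.eq_of_le_of_card_le ?_
      (Coprime.card_conj_smul b _).ge)
    intro x hx
    rw [Coprime.mem_conj_smul] at hx
    have := hT _ hx
    simpa [mul_assoc] using this
  set S := ∏ f : T, θ f m' with hS
  have hSc : θ c S = S := by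
    rw [hS, map_prod]
    exact Fintype.prod_equiv (Equiv.mulLeft ⟨c, Subgroup.mem_zpowers c⟩) _ _ fun f => by
      rw [← MulAut.mul_apply, ← map_mul]; rfl
  have hSb : θ b S = S := by
    rw [hS, map_prod]
    let σ : T ≃ T :=
      { toFun := fun g => ⟨b * g * b⁻¹, (Subgroup.mem_normalizer_iff.mp hbT _).mp g.2⟩
        invFun := fun g => ⟨b⁻¹ * g * b, (Subgroup.mem_normalizer_iff''.mp hbT _).mp g.2⟩
        left_inv := fun g => Subtype.ext (by group)
        right_inv := fun g => Subtype.ext (by group) }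
    refine Fintype.prod_equiv σ _ _ fun g => ?_
    show θ b (θ (g : Γ) m') = θ (b * g * b⁻¹) m'
    conv_rhs => rw [← hb']
    rw [← MulAut.mul_apply, ← MulAut.mul_apply, ← map_mul, ← map_mul, inv_mul_cancel_right]
  have hS1 : S = 1 := hθA S fun a ha => by
    let St : Subgroup Γ := (MulAction.stabilizer (MulAut W) S).comap θ
    have : A ≤ St := hgen ▸ sup_le (Subgroup.zpowers_le.mpr hSc) (Subgroup.zpowers_le.mpr hSb)
    exact this ha
  have hterm : ∀ f ∈ T, f ≠ 1 → N (θ f m') = 1 := by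
    intro f hf hf1
    refine hθR _ ?_
    set H : Subgroup Γ := R₁ ⊔ MulAut.conj f • R₁ ⊔ ⁅R, R⁆ with hH
    let St : Subgroup Γ := (MulAction.stabilizer (MulAut W) (N (θ f m'))).comap θ
    have hHSt : H ≤ St := by
      refine sup_le (sup_le (fun g hg => hNfix g hg _) fun g hg => ?_) ?_
      · rw [Coprime.mem_conj_smul] at hg
        show θ g (∏ h : R₁, θ h (θ f m')) = ∏ h : R₁, θ h (θ f m')
        have hgR : g ∈ R := by
          have h1 := (Subgroup.mem_normalizer_iff.mp
            (hAR (Subgroup.zpowers_le.mpr hcA hf)) _).mp (hR₁R hg)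
          simpa [mul_assoc] using h1
        rw [map_prod]
        refine Finset.prod_congr rfl fun h _ => ?_
        rw [← MulAut.mul_apply, (hθc g hgR h (hR₁R h.2)).eq, MulAut.mul_apply]
        congr 1
        calc θ g (θ f m') = θ f (θ (f⁻¹ * g * f) m') := by
              simp only [← MulAut.mul_apply, ← map_mul]
              congr 2
              group
          _ = θ f m' := by rw [hR₁m _ hg]
      · rw [Subgroup.commutator_le]
        intro g hg h hh
        show θ ⁅g, h⁆ _ = _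
        rw [map_commutatorElement, commutatorElement_eq_one_iff_commute.mpr (hθc g hg h hh)]
        rfl
    have hHR : H ≤ R := by
      refine sup_le (sup_le hR₁R fun g hg => ?_) ?_
      · rw [Coprime.mem_conj_smul] at hg
        have h1 := (Subgroup.mem_normalizer_iff.mp
          (hAR (Subgroup.zpowers_le.mpr hcA hf)) _).mp (hR₁R hg)
        simpa [mul_assoc] using h1
      · exact Coprime.commutator_le_of_le_normalizer Subgroup.le_normalizer
    have hconj : ∀ g ∈ R, ∀ h ∈ H, g * h * g⁻¹ ∈ H := fun g hg h hh => by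
      rw [show g * h * g⁻¹ = ⁅g, h⁆ * h by rw [commutatorElement_def]; group]
      exact mul_mem (Subgroup.mem_sup_right (Subgroup.commutator_mem_commutator hg (hHR hh))) hh
    -- the operators acting trivially modulo `H`
    let A' : Subgroup Γ :=
      { carrier := {a | a ∈ A ∧ ∀ g ∈ R, ⁅a, g⁆ ∈ H}
        one_mem' := ⟨one_mem _, fun g _ => by simp⟩
        mul_mem' := fun {a₁ a₂} h₁ h₂ => ⟨mul_mem h₁.1 h₂.1, fun g hg => by
          have e : ⁅a₁ * a₂, g⁆ = (⁅a₁, ⁅a₂, g⁆⁆ * ⁅a₂, g⁆) * ⁅a₁, g⁆ := by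
            simp only [commutatorElement_def]; group
          rw [e]
          exact mul_mem (mul_mem (h₁.2 _ (hHR (h₂.2 g hg))) (h₂.2 g hg)) (h₁.2 g hg)⟩
        inv_mem' := fun {a} h => ⟨inv_mem h.1, fun g hg => by
          have hg' : a⁻¹ * g * a ∈ R := (Subgroup.mem_normalizer_iff''.mp (hAR h.1) g).mp hg
          have h1 := inv_mem (h.2 _ hg')
          rw [show (⁅a, a⁻¹ * g * a⁆)⁻¹ = ⁅a⁻¹, g⁆ by simp only [commutatorElement_def]; group] at h1
          exact h1⟩ }
    have hbA' : b ∈ A' := ⟨hbA, fun g hg => by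
      rw [← commutatorElement_inv g b]
      exact inv_mem (Subgroup.mem_sup_left (Subgroup.mem_sup_left
        (hR₁.symm ▸ Subgroup.commutator_mem_commutator hg (Subgroup.mem_zpowers b))))⟩
    have hfA : f ∈ A := Subgroup.zpowers_le.mpr hcA hf
    have hbf : f * b * f⁻¹ ∈ A' := ⟨mul_mem (mul_mem hfA hbA) (inv_mem hfA), fun g hg => by
      have hg' : f⁻¹ * g * f ∈ R := (Subgroup.mem_normalizer_iff''.mp (hAR hfA) g).mp hg
      refine Subgroup.mem_sup_left (Subgroup.mem_sup_right ?_)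
      rw [Coprime.mem_conj_smul,
        show f⁻¹ * ⁅f * b * f⁻¹, g⁆ * f = (⁅f⁻¹ * g * f, b⁆)⁻¹ by
          simp only [commutatorElement_def]; group]
      exact inv_mem (hR₁.symm ▸ Subgroup.commutator_mem_commutator hg' (Subgroup.mem_zpowers b))⟩
    have hcA' : c ∈ A' := by
      set t := f * b * f⁻¹ * b⁻¹ with ht
      have htT : t ∈ T := by
        rw [ht, show f * b * f⁻¹ * b⁻¹ = f * (b * f⁻¹ * b⁻¹) by group]
        exact mul_mem hf (hT _ (inv_mem hf))
      have ht1 : t ≠ 1 := fun e => (hnc f hf hf1).2 (by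
        rw [ht, mul_inv_eq_one, mul_inv_eq_iff_eq_mul] at e
        exact e)
      exact Subgroup.zpowers_le.mpr (mul_mem hbf (inv_mem hbA')) (hnc t htT ht1).1
    have hAA' : A ≤ A' := hgen ▸ sup_le (Subgroup.zpowers_le.mpr hcA') (Subgroup.zpowers_le.mpr hbA')
    intro g hg
    suffices hgH : g ∈ H from hHSt hgH
    have hAH : A ≤ Subgroup.normalizer (H : Set Γ) := by
      intro a ha
      refine Coprime.mem_normalizer_of_conj_smul_eq (Coprime.eq_of_le_of_card_le ?_
        (Coprime.card_conj_smul a _).ge)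
      intro x hx
      rw [Coprime.mem_conj_smul] at hx
      have h1 := mul_mem ((hAA' ha).2 _ (hHR hx)) hx
      rw [commutatorElement_def] at h1
      simpa [mul_assoc] using h1
    have hgN : g ∈ Subgroup.normalizer (H : Set Γ) := Subgroup.mem_normalizer_iff.mpr fun h =>
      ⟨hconj g hg h, fun hh => by simpa [mul_assoc] using hconj g⁻¹ (inv_mem hg) _ hh⟩
    obtain ⟨h, hh, hgh⟩ := Coprime.exists_mem_centralizer_of_fixed_coset (A := A) (N := H) (k := g) hAH
      (hcop.coprime_dvd_right (Subgroup.card_dvd_of_le hHR)) (Or.inl hA) hgN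
      (fun a ha => by
        have := (hAA' ha).2 g hg
        rwa [commutatorElement_def] at this)
    have h1 := hRA (g * h) (mul_mem hg (hHR hh)) fun a ha => Subgroup.mem_centralizer_iff.mp hgh a ha
    rw [eq_inv_of_mul_eq_one_left h1]
    exact inv_mem hh
  -- conclusion
  have h1 : N S = m' ^ Fintype.card R₁ := by
    rw [hS, map_prod, Fintype.prod_eq_single (1 : T) fun f hf => hterm f f.2 fun e => hf (Subtype.ext e)]
    rw [OneMemClass.coe_one, map_one, MulAut.one_apply]
    exact hNpow m' hR₁m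
  rw [hS1, map_one] at h1
  rw [← orderOf_eq_one_iff]
  refine Nat.eq_one_of_dvd_coprimes (hcopW m') ?_ dvd_rfl
  refine (orderOf_dvd_of_pow_eq_one h1.symm).trans ?_
  rw [← Nat.card_eq_fintype_card]
  exact Subgroup.card_dvd_of_le hR₁R

end Norm

section Weight

variable {k : Type*} [Field k] [IsAlgClosed k] {W : Type*} [AddCommGroup W] [Module k W]
  [FiniteDimensional k W] {Γ : Type*} [Group Γ] [Finite Γ]

/-- The layer moved by a fixed-point-free operator of prime order on a weight space is trivial or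
exceptional. -/
theorem relIndex_moved (ρ : Γ →* End k W) (D Rad : Subgroup Γ) (hRadD : Rad ≤ D) {b : Γ} {l : ℕ}
    (hl : l.Prime) (hlk : (l : k) ≠ 0) (hbl : b ^ l = 1) (hbD : b ∈ Subgroup.normalizer (D : Set Γ))
    (hbR : b ∈ Subgroup.normalizer (Rad : Set Γ)) (hDk : (Nat.card D : k) ≠ 0)
    (β : Γ → Γ → k) (U : Submodule k W) (hU0 : U ≠ ⊥)
    (hUD : ∀ x ∈ D, ∀ w ∈ U, ρ x w ∈ U) (hUb : ∀ w ∈ U, ρ b w ∈ U)
    (hfpf : ∀ w ∈ U, ρ b w = w → w = 0)
    (hsum : ∀ w ∈ U, ∑ i ∈ Finset.range l, ρ (b ^ i) w = 0)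
    (hβ : ∀ x ∈ D, ∀ y ∈ D, ∀ w ∈ U, ρ x (ρ y w) = β x y • ρ y (ρ x w))
    (hRad : ∀ x, x ∈ Rad ↔ x ∈ D ∧ ∀ y ∈ D, β x y = 1)
    (hperp : ∀ x ∈ ⁅D, Subgroup.zpowers b⁆, ∀ y ∈ D, b * y = y * b → β x y = 1)
    (hsupp : ∀ y ∈ D, ∃ x ∈ ⁅D, Subgroup.zpowers b⁆, ∃ z ∈ D, b * z = z * b ∧ y = x * z)
    (hfree : ∀ x ∈ D, b * x * b⁻¹ * x⁻¹ ∈ Rad → ∃ r ∈ Rad, b * (x * r) = x * r * b)
    (hβr : ∀ x ∈ D, ∀ y ∈ D, ∀ z ∈ D, β x (y * z) = β x y * β x z) :
    ⁅D, Subgroup.zpowers b⁆ ≤ Rad ∨
      Rad.relIndex ⁅D, Subgroup.zpowers b⁆ = (l - 1) ^ 2 := by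
  classical
  by_cases hle : ⁅D, Subgroup.zpowers b⁆ ≤ Rad
  · exact Or.inl hle
  refine Or.inr ?_
  set Q := ⁅D, Subgroup.zpowers b⁆ with hQ
  have hQD : Q ≤ D := Coprime.commutator_le_of_le_normalizer (Subgroup.zpowers_le.mpr hbD)
  have hQb : b ∈ Subgroup.normalizer (Q : Set Γ) :=
    Subgroup.normalizer_commutator_ge_right D _ (Subgroup.mem_zpowers b)
  -- a weight of the radical
  have hRc : ∀ x ∈ Rad, ∀ y ∈ D, ∀ w ∈ U, ρ x (ρ y w) = ρ y (ρ x w) := fun x hx y hy w hw => by
    rw [hβ x ((hRad x).mp hx).1 y hy w hw, ((hRad x).mp hx).2 y hy, one_smul]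
  obtain ⟨ψ, v, hvU, hv0, hψ⟩ := exists_common_eigenvector
    (fun x : Rad => (ρ (x : Γ)).restrict (p := U) (q := U) fun w hw => hUD x (hRadD x.2) w hw)
    (fun x y => LinearMap.ext fun w => Subtype.ext (hRc x x.2 y (hRadD y.2) w w.2))
    _ ⊤ rfl (by
      haveI := Submodule.nontrivial_iff_ne_bot.mpr hU0
      exact top_ne_bot) (fun _ _ _ => trivial)
  have hψv : ∀ x : Rad, ρ (x : Γ) (v : W) = ψ x • (v : W) := fun x => congrArg Subtype.val (hψ x)
  have hv0' : (v : W) ≠ 0 := fun e => hv0 (Subtype.ext e)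
  have hbm : ∀ x ∈ Rad, b * x * b⁻¹ ∈ Rad := fun x hx => (Subgroup.mem_normalizer_iff.mp hbR x).mp hx
  have hψb : ∀ x : Rad, ψ ⟨b * x * b⁻¹, hbm x x.2⟩ = ψ x := by
    by_contra hno
    have hB : b ^ l = 1 := hbl
    have hm : ∀ (i : ℕ) (x : Rad), (b ^ i)⁻¹ * x * b ^ i ∈ Rad := fun i x =>
      (Subgroup.mem_normalizer_iff''.mp (pow_mem hbR i) x).mp x.2
    let χ : ℕ → Rad → k := fun i x => ψ ⟨(b ^ i)⁻¹ * x * b ^ i, hm i x⟩
    let St : Subgroup Γ :=
      { carrier := {g | g ∈ Subgroup.normalizer (Rad : Set Γ) ∧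
          ∀ x : Rad, ∀ h : g * x * g⁻¹ ∈ Rad, ψ ⟨g * x * g⁻¹, h⟩ = ψ x}
        one_mem' := ⟨one_mem _, fun x h => congrArg ψ (Subtype.ext (by simp))⟩
        mul_mem' := fun {g₁ g₂} h₁ h₂ => ⟨mul_mem h₁.1 h₂.1, fun x h => by
          have hx2 : g₂ * x * g₂⁻¹ ∈ Rad := (Subgroup.mem_normalizer_iff.mp h₂.1 x).mp x.2
          have hx1 : g₁ * (g₂ * x * g₂⁻¹) * g₁⁻¹ ∈ Rad := (Subgroup.mem_normalizer_iff.mp h₁.1 _).mp hx2
          rw [← h₂.2 x hx2, ← h₁.2 ⟨_, hx2⟩ hx1]
          exact congrArg ψ (Subtype.ext (by group))⟩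
        inv_mem' := fun {g} hg => ⟨inv_mem hg.1, fun x h => by
          have hx1 : g * (g⁻¹ * x * g⁻¹⁻¹) * g⁻¹ ∈ Rad := (Subgroup.mem_normalizer_iff.mp hg.1 _).mp h
          rw [← hg.2 ⟨_, h⟩ hx1]
          exact congrArg ψ (Subtype.ext (by group))⟩ }
    have hbSt : b ∉ St := fun h => hno fun x => h.2 x (hbm x x.2)
    have hdist : ∀ i ∈ Finset.range l, ∀ i' ∈ Finset.range l, χ i = χ i' → i = i' := by
      intro i hi i' hi' e
      by_contra hne
      wlog hlt : i < i' generalizing i i'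
      · exact this i' hi' i hi e.symm (Ne.symm hne) (lt_of_le_of_ne (not_lt.mp hlt) (Ne.symm hne))
      apply hbSt
      have hd : b ^ (i' - i) ∈ St := by
        refine ⟨pow_mem hbR _, fun x h => ?_⟩
        have hy : b ^ i' * x * (b ^ i')⁻¹ ∈ Rad :=
          (Subgroup.mem_normalizer_iff.mp (pow_mem hbR i') x).mp x.2
        have h1 := congrFun e ⟨_, hy⟩
        simp only [χ] at h1
        refine Eq.trans ?_ (h1.trans (congrArg ψ (Subtype.ext ?_)))
        · refine congrArg ψ (Subtype.ext ?_)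
          show b ^ (i' - i) * x * (b ^ (i' - i))⁻¹ = (b ^ i)⁻¹ * (b ^ i' * x * (b ^ i')⁻¹) * b ^ i
          rw [← Nat.add_sub_cancel' hlt.le, pow_add, Nat.add_sub_cancel_left]
          group
        · show (b ^ i')⁻¹ * (b ^ i' * x * (b ^ i')⁻¹) * b ^ i' = x
          group
      have hcop : (i' - i).Coprime l := by
        refine (hl.coprime_iff_not_dvd.mpr fun hd' => ?_).symm
        have := Nat.le_of_dvd (by omega) hd'
        rw [Finset.mem_range] at hi'
        omega
      obtain ⟨j, hj⟩ := exists_pow_eq_self_of_coprime (x := b) (n := i' - i)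
        (hcop.coprime_dvd_right (orderOf_dvd_of_pow_eq_one hB))
      exact hj ▸ pow_mem hd j
    have hz := eq_zero_of_sum_eq_zero (fun x : Rad => ρ (x : Γ)) (Finset.range l)
      (fun i => ρ (b ^ i) (v : W)) χ
      (fun i _ x => by
        rw [← End.mul_apply, ← map_mul, show (x : Γ) * b ^ i = b ^ i * ((b ^ i)⁻¹ * x * b ^ i) by group,
          map_mul, End.mul_apply, hψv ⟨_, hm i x⟩, map_smul])
      hdist (hsum _ v.2) 0 (Finset.mem_range.mpr hl.pos)
    rw [pow_zero, map_one, End.one_apply] at hz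
    exact hv0' hz
  -- the weight space
  let I : Submodule k W :=
    { carrier := {w | w ∈ U ∧ ∀ x : Rad, ρ (x : Γ) w = ψ x • w}
      add_mem' := fun {a b} ha hb => ⟨U.add_mem ha.1 hb.1, fun x => by
        rw [map_add, ha.2 x, hb.2 x, smul_add]⟩
      zero_mem' := ⟨U.zero_mem, fun x => by rw [map_zero, smul_zero]⟩
      smul_mem' := fun a w hw => ⟨U.smul_mem a hw.1, fun x => by rw [map_smul, hw.2 x, smul_comm]⟩ }
  haveI : Nontrivial I := Submodule.nontrivial_iff_ne_bot.mpr
    ((Submodule.ne_bot_iff I).mpr ⟨v, ⟨v.2, hψv⟩, hv0'⟩)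
  have hID : ∀ x ∈ D, ∀ w ∈ I, ρ x w ∈ I := fun x hx w hw => ⟨hUD x hx w hw.1, fun y => by
    rw [hRc y y.2 x hx w hw.1, hw.2 y, map_smul]⟩
  have hIb : ∀ w ∈ I, ρ b w ∈ I := fun w hw => ⟨hUb w hw.1, fun x => by
    have hx' : b⁻¹ * x * b ∈ Rad := (Subgroup.mem_normalizer_iff''.mp hbR x).mp x.2
    rw [← End.mul_apply, ← map_mul, show (x : Γ) * b = b * (b⁻¹ * x * b) by group, map_mul,
      End.mul_apply, hw.2 ⟨_, hx'⟩, map_smul, ← hψb ⟨_, hx'⟩]
    congr 1
    exact congrArg ψ (Subtype.ext (by show b * (b⁻¹ * x * b) * b⁻¹ = x; group))⟩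
  letI := Fintype.ofFinite Q
  let φQ : MulAut Q := (Q.normalizerMonoidHom ⟨b, hQb⟩)
  have hφQ : ∀ (i : ℕ) (x : Q), (((φQ ^ i) x : Q) : Γ) = b ^ i * x * (b ^ i)⁻¹ := by
    intro i
    induction i with
    | zero => intro x; simp
    | succ i ih =>
      intro x
      rw [pow_succ', MulAut.mul_apply, pow_succ']
      show b * ((φQ ^ i) x : Q) * b⁻¹ = _
      rw [ih]
      group
  let Dt : GrossTwo.Data k I Q :=
    { E :=
        { toFun := fun x => (ρ (x : Γ)).restrict (hID x (hQD x.2))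
          map_one' := LinearMap.ext fun w => Subtype.ext (by simp)
          map_mul' := fun x y => LinearMap.ext fun w => Subtype.ext (by simp) }
      T := (ρ b).restrict hIb
      φ := φQ
      m := l
      β := fun x y => β x y
      hm := hl.pos
      hT := by
        refine LinearMap.ext fun w => Subtype.ext ?_
        have h : ∀ i, (((((ρ b).restrict hIb) ^ i) w : I) : W) = ρ (b ^ i) w := by
          intro i
          induction i with
          | zero => simp
          | succ i ih => rw [pow_succ', pow_succ', map_mul, End.mul_apply, End.mul_apply, ← ih]; rfl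
        rw [h, hbl, map_one]
        rfl
      hφ := MulEquiv.ext fun x => Subtype.ext (by rw [hφQ, hbl]; simp)
      hTE := fun x => LinearMap.ext fun w => Subtype.ext (by
        show ρ b (ρ (x : Γ) w) = ρ ((φQ x : Q) : Γ) (ρ b w)
        rw [← End.mul_apply, ← map_mul, ← End.mul_apply, ← map_mul]
        congr 2
        have := hφQ 1 x
        rw [pow_one, pow_one] at this
        rw [this]
        group)
      hβ := fun x y => LinearMap.ext fun w => Subtype.ext (hβ x (hQD x.2) y (hQD y.2) w w.2.1) }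
  have hR : ∀ x : Q, x ∈ Dt.R ↔ (x : Γ) ∈ Rad := by
    intro x
    rw [hRad]
    constructor
    · intro hx
      refine ⟨hQD x.2, fun y hy => ?_⟩
      obtain ⟨u, hu, z, hz, hbz, rfl⟩ := hsupp y hy
      rw [hβr _ (hQD x.2) _ (hQD hu) _ hz, hperp x x.2 z hz hbz, mul_one]
      exact hx ⟨u, hu⟩
    · exact fun hx y => hx.2 y (hQD y.2)
  have hQk : (Fintype.card Q : k) ≠ 0 := by
    obtain ⟨t, ht⟩ := Subgroup.card_dvd_of_le hQD
    intro e
    apply hDk
    rw [ht, Nat.cast_mul, ← Nat.card_eq_fintype_card] at *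
    rw [e, zero_mul]
  have hne : Dt.R ≠ ⊤ := fun e => hle fun x hx => (hR ⟨x, hx⟩).mp (e ▸ Subgroup.mem_top _)
  have hscal : Dt.RadScalar := fun x hx => ⟨ψ ⟨x, (hR x).mp hx⟩,
    LinearMap.ext fun w => Subtype.ext (w.2.2 ⟨x, (hR x).mp hx⟩)⟩
  have hFree : Dt.Free := by
    intro i x hi hx
    have h0 := (hR _).mp hx
    rw [Subgroup.coe_mul, Subgroup.coe_inv, hφQ] at h0
    -- `b` fixes the class of `x`
    let St : Subgroup Γ :=
      { carrier := {g | g ∈ Subgroup.normalizer (Rad : Set Γ) ∧ (x : Γ)⁻¹ * (g * x * g⁻¹) ∈ Rad}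
        one_mem' := ⟨one_mem _, by simp⟩
        mul_mem' := fun {g₁ g₂} h₁ h₂ => ⟨mul_mem h₁.1 h₂.1, by
          rw [show (x : Γ)⁻¹ * (g₁ * g₂ * x * (g₁ * g₂)⁻¹) = ((x : Γ)⁻¹ * (g₁ * x * g₁⁻¹)) *
            (g₁ * ((x : Γ)⁻¹ * (g₂ * x * g₂⁻¹)) * g₁⁻¹) by group]
          exact mul_mem h₁.2 ((Subgroup.mem_normalizer_iff.mp h₁.1 _).mp h₂.2)⟩
        inv_mem' := fun {g} hg => ⟨inv_mem hg.1, by
          have := (Subgroup.mem_normalizer_iff''.mp hg.1 _).mp (inv_mem hg.2)
          simpa [mul_assoc] using this⟩ }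
    have hiSt : b ^ i ∈ St := ⟨pow_mem hbR i, h0⟩
    have hbSt : b ∈ St := by
      obtain ⟨j, hj⟩ := exists_pow_eq_self_of_coprime (x := b) (n := i)
        ((hl.coprime_iff_not_dvd.mpr hi).symm.coprime_dvd_right (orderOf_dvd_of_pow_eq_one hbl))
      exact hj ▸ pow_mem hiSt j
    obtain ⟨-, hbx⟩ := hbSt
    rw [hR, hRad]
    refine ⟨hQD x.2, ?_⟩
    have h1 : b * x * b⁻¹ * (x : Γ)⁻¹ ∈ Rad := by
      have hRad' : ∀ g ∈ D, ∀ t ∈ Rad, g * t * g⁻¹ ∈ D := fun g hg t ht =>
        mul_mem (mul_mem hg (hRadD ht)) (inv_mem hg)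
      rw [hRad] at hbx ⊢
      refine ⟨mul_mem ((Subgroup.mem_normalizer_iff.mp hbD _).mp (hQD x.2)) (inv_mem (hQD x.2)),
        fun y hy => ?_⟩
      have e : b * x * b⁻¹ * (x : Γ)⁻¹ = (x : Γ) * ((x : Γ)⁻¹ * (b * x * b⁻¹)) * (x : Γ)⁻¹ := by group
      obtain ⟨w, hw, hw0⟩ := (Submodule.ne_bot_iff U).mp hU0
      set t := (x : Γ)⁻¹ * (b * x * b⁻¹) with ht
      have htR : t ∈ Rad := (hRad t).mpr hbx
      have hD' : b * x * b⁻¹ * (x : Γ)⁻¹ ∈ D :=
        mul_mem ((Subgroup.mem_normalizer_iff.mp hbD _).mp (hQD x.2)) (inv_mem (hQD x.2))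
      have hsame : ∀ u ∈ U, ρ (b * x * b⁻¹ * (x : Γ)⁻¹) u = ρ t u := fun u hu => by
        rw [e, map_mul, map_mul, End.mul_apply, End.mul_apply,
          hRc t htR _ (inv_mem (hQD x.2)) u hu, ← End.mul_apply, ← map_mul, mul_inv_cancel, map_one,
          End.one_apply]
      have key := hβ _ hD' y hy w hw
      rw [hsame w hw, hsame _ (hUD y hy w hw), hRc t htR y hy w hw] at key
      have hne : ρ y (ρ t w) ≠ 0 := fun e0 => hw0 (by
        have h3 := congrArg (fun u => ρ t⁻¹ (ρ y⁻¹ u)) e0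
        simp only [map_zero, ← End.mul_apply, ← map_mul] at h3
        simpa [mul_assoc] using h3)
      exact (smul_left_injective k hne (key.symm.trans (one_smul k _).symm))
    obtain ⟨r, hr, hbr⟩ := hfree x (hQD x.2) h1
    intro y hy
    obtain ⟨u, hu, z, hz, hbz, rfl⟩ := hsupp y hy
    rw [hβr _ (hQD x.2) _ (hQD hu) _ hz, hperp x x.2 z hz hbz, mul_one]
    -- pairing with an element of `Q`
    have hxr : (x : Γ) * r ∈ D := mul_mem (hQD x.2) (hRadD hr)
    have h2 := hperp u hu _ hxr hbr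
    rw [hβr u (hQD hu) _ (hQD x.2) _ (hRadD hr)] at h2
    have h3 : β u r = 1 := by
      have hur := hβ r (hRadD hr) u (hQD hu)
      obtain ⟨w, hw, hw0⟩ := (Submodule.ne_bot_iff U).mp hU0
      have h4 := hβ u (hQD hu) r (hRadD hr) w hw
      rw [hRc r hr u (hQD hu) w hw] at h4
      refine smul_left_injective k ?_ (h4.symm.trans (one_smul k _).symm)
      intro e0
      apply hw0
      have h5 := congrArg (fun t => ρ r⁻¹ (ρ u⁻¹ t)) e0
      simp only [map_zero, ← End.mul_apply, ← map_mul] at h5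
      simpa [mul_assoc] using h5
    rw [h3, mul_one] at h2
    have h6 := Dt.β_mul_swap ⟨u, hu⟩ x
    change β u x * β (x : Γ) u = 1 at h6
    rwa [h2, one_mul] at h6
  have := (Dt.commutant_fixed hQk (by exact hlk) hscal hne hFree
    (fun w hw => Subtype.ext (hfpf _ w.2.1 (congrArg Subtype.val hw)))).1
  change Dt.R.index = (l - 1) ^ 2 at this
  rw [← this]
  show (Rad.subgroupOf Q).index = Dt.R.index
  congr 1
  ext x
  exact (hR x).symm

end Weight

end Cfsg.Agent.Lib.Solvable.FPF
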