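import Cfsg.Agent.Lib.Solvable.FPF.FrobeniusLayer
import Cfsg.Agent.Lib.Solvable.FPF.FrobeniusAbelian
import Cfsg.Agent.Lib.Solvable.FixedPointFree
import Cfsg.Agent.Lib.Coprime.PxQ
import Cfsg.Agent.Lib.Coprime.Generation
import Cfsg.Agent.Lib.Cores

/-!
The linear core of the theorem on fixed-point-free nonabelian groups of operators of order `np`:
`R` centralizes the image of `D`, without any hypothesis of commutativity.
-/

set_option autoImplicit false

open Pointwise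
open scoped commutatorElement

namespace Cfsg.Agent.Lib.Solvable.FPF

open Module Cfsg.Agent.Lib

variable {k : Type*} [Field k] [IsAlgClosed k] {W : Type*} [AddCommGroup W] [Module k W]
  [FiniteDimensional k W]

set_option maxHeartbeats 2000000 in
/-- The minimal configuration is impossible. -/
theorem frobenius_min {Γ : Type*} [Group Γ] [Finite Γ] (ρ : Γ →* End k W)
    (hρ : Function.Injective ρ) (A : Subgroup Γ) [Fintype A] {c : Γ} {p n : ℕ}
    (hcA : c ∈ A) (hn : n.Prime) (hcn : c ^ n = 1) (hc1 : c ≠ 1) (hp : p.Prime) (hdvd : p ∣ n - 1)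
    (hAT : A ≤ Subgroup.normalizer (Subgroup.zpowers c : Set Γ))
    (hout : ∀ a ∈ A, a ∉ Subgroup.zpowers c →
      a ^ p = 1 ∧ a * c ≠ c * a ∧ Subgroup.zpowers c ⊔ Subgroup.zpowers a = A)
    (hcard : Nat.card A = n * p) (hAsolv : Group.IsSolvable A)
    (hsum : ∑ a : A, ρ a = 0) {q r : ℕ} (hq : q.Prime) (hr : r.Prime) (hrq : r ≠ q)
    (hqk : (q : k) ≠ 0) (hnk : (n : k) ≠ 0) (hpk : (p : k) ≠ 0) (D R : Subgroup Γ) [hDn : D.Normal]
    (hAR : A ≤ Subgroup.normalizer (R : Set Γ)) (hD : IsPGroup q D) (hR : IsPGroup r R)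
    (hcopD : (Nat.card A).Coprime (Nat.card D)) (hcopR : (Nat.card A).Coprime (Nat.card R))
    (hDA : ∀ x ∈ D, (∀ a ∈ A, a * x = x * a) → x = 1)
    (hRA : ∀ x ∈ R, (∀ a ∈ A, a * x = x * a) → x = 1)
    (hDfix : ∀ x ∈ D, c * x = x * c →
      ∑ i ∈ Finset.range n, ρ (x * c ^ i) = ∑ i ∈ Finset.range n, ρ (c ^ i))
    (hRfix : ∀ x ∈ D, ∀ y ∈ R, c * x = x * c → c * y = y * c → Commute x y)
    (hX : ∀ X : Subgroup Γ, X < D → A ≤ Subgroup.normalizer (X : Set Γ) →
      R ≤ Subgroup.normalizer (X : Set Γ) → ∀ x ∈ X, ∀ y ∈ R, Commute x y)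
    (hRR : ∀ x ∈ D, ∀ g ∈ ⁅R, R⁆, Commute x g)
    (hne : ¬ ∀ x ∈ D, ∀ y ∈ R, Commute x y) : False := by
  classical
  haveI := Fact.mk hn
  haveI := Fact.mk hp
  haveI := Fact.mk hq
  haveI := Fact.mk hr
  have hDnorm : ∀ g : Γ, g ∈ Subgroup.normalizer (D : Set Γ) := fun g => by
    rw [Subgroup.normalizer_eq_top_iff.mpr hDn]; exact Subgroup.mem_top g
  have hcomm_bot : ∀ {X Y : Subgroup Γ}, (∀ x ∈ X, ∀ y ∈ Y, Commute x y) → ⁅X, Y⁆ = ⊥ := by
    intro X Y h
    rw [Subgroup.commutator_eq_bot_iff_le_centralizer]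
    exact fun x hx => Subgroup.mem_centralizer_iff.mpr fun y hy => (h x hx y hy).eq.symm
  have hbot_comm : ∀ {X Y : Subgroup Γ}, ⁅X, Y⁆ = ⊥ → ∀ x ∈ X, ∀ y ∈ Y, Commute x y := fun h x hx y hy =>
    (Subgroup.mem_centralizer_iff.mp (Subgroup.commutator_eq_bot_iff_le_centralizer.mp h hx) y hy).symm
  have hD1 : D ≠ ⊥ := fun e => hne fun x hx y _ => by
    rw [e, Subgroup.mem_bot] at hx; rw [hx]; exact Commute.one_left y
  have hqD : q ∣ Nat.card D := hD.card_eq_or_dvd.resolve_left fun e => hD1 (D.card_eq_one.mp e)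
  have hqn : q ≠ n := fun e => hq.ne_one (Nat.eq_one_of_dvd_coprimes hcopD
    (by rw [hcard, e]; exact dvd_mul_right n p) hqD)
  have hqp : q ≠ p := fun e => hq.ne_one (Nat.eq_one_of_dvd_coprimes hcopD
    (by rw [hcard, e]; exact dvd_mul_left p n) hqD)
  have hcopRD : (Nat.card R).Coprime (Nat.card D) := by
    obtain ⟨i, hi⟩ := IsPGroup.iff_card.mp hR
    obtain ⟨j, hj⟩ := IsPGroup.iff_card.mp hD
    rw [hi, hj]
    exact Nat.Coprime.pow _ _ ((Nat.coprime_primes hr hq).mpr hrq)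
  haveI hDnil : Group.IsNilpotent D := hD.isNilpotent
  haveI : Nontrivial D := (Subgroup.nontrivial_iff_ne_bot D).mpr hD1
  have hDsolv : Group.IsSolvable D := inferInstance
  -- `D = [D, R]`
  have hRDn : R ≤ Subgroup.normalizer (D : Set Γ) := fun g _ => hDnorm g
  have hDR : ⁅D, R⁆ = D := by
    refine le_antisymm (Coprime.commutator_le_of_le_normalizer hRDn) ?_
    by_contra hlt
    have hlt' : ⁅D, R⁆ < D :=
      lt_of_le_of_ne (Coprime.commutator_le_of_le_normalizer hRDn) fun e => hlt e.ge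
    have hA' : A ≤ Subgroup.normalizer ((⁅D, R⁆ : Subgroup Γ) : Set Γ) := fun a ha =>
      Coprime.mem_normalizer_of_conj_smul_eq (by
        rw [Coprime.conj_smul_commutator, Coprime.conj_smul_eq_of_mem_normalizer (hDnorm a),
          Coprime.conj_smul_eq_of_mem_normalizer (hAR ha)])
    have h1 := hcomm_bot (hX _ hlt' hA' (Subgroup.normalizer_commutator_ge_right D R))
    rw [Coprime.commutator_commutator_eq hRDn hcopRD (Or.inr hDsolv)] at h1
    exact hne (hbot_comm h1)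
  -- proper characteristic subgroups are central and centralized by `R`
  have hchar : ∀ X : Subgroup D, X.Characteristic → X ≠ ⊤ → ∀ x ∈ X.map D.subtype,
      (∀ y ∈ R, Commute x y) ∧ ∀ y ∈ D, Commute x y := by
    intro X hXc hXt
    haveI := hXc
    haveI hXn : (X.map D.subtype).Normal := inferInstance
    have hle : X.map D.subtype ≤ D := Subgroup.map_subtype_le X
    have hlt : X.map D.subtype < D := lt_of_le_of_ne hle fun e => hXt (by
      refine eq_top_iff.mpr fun y _ => ?_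
      have hy2 : (y : Γ) ∈ X.map D.subtype := by rw [e]; exact y.2
      obtain ⟨y', hy', hyy⟩ := hy2
      rwa [← Subtype.ext hyy (a2 := y)])
    have hall : ∀ g : Γ, g ∈ Subgroup.normalizer ((X.map D.subtype : Subgroup Γ) : Set Γ) := fun g => by
      rw [Subgroup.normalizer_eq_top_iff.mpr hXn]; exact Subgroup.mem_top g
    have h1 := hX _ hlt (fun g _ => hall g) (fun g _ => hall g)
    have h2 : ⁅X.map D.subtype, R⁆ = ⊥ := hcomm_bot h1
    have h3 : ⁅⁅R, D⁆, X.map D.subtype⁆ = ⊥ := by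
      refine Subgroup.commutator_commutator_eq_bot_of_rotate ?_ ?_
      · refine eq_bot_iff.mpr ((Subgroup.commutator_mono ?_ le_rfl).trans h2.le)
        rw [Subgroup.commutator_comm]
        exact Coprime.commutator_le_of_le_normalizer fun g _ => hall g
      · rw [h2, Subgroup.commutator_bot_left]
    rw [Subgroup.commutator_comm R D, hDR, Subgroup.commutator_comm] at h3
    exact fun x hx => ⟨h1 x hx, hbot_comm h3 x hx⟩
  -- `D` is not abelian
  have hnab : ∃ x₀ ∈ D, ∃ y₀ ∈ D, ⁅x₀, y₀⁆ ≠ 1 := by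
    by_contra hab
    push Not at hab
    refine hne fun x hx y hy => ?_
    have h := frobenius_abelian_core ρ A hcA hn hcn hc1 hp (fun e => by
        have h2 := hn.two_le
        have h3 := Nat.le_of_dvd (by omega) hdvd
        omega) hAT (fun a ha hat => ⟨(hout a ha hat).1, (hout a ha hat).2.2⟩) hsum hq hr hrq hqp hqn hqk
      D R (fun g _ => hDnorm g) hAR hRDn
      (fun z hz => by
        obtain ⟨i, hi⟩ := hD ⟨z, hz⟩
        exact ⟨i, by rw [← map_pow, show z ^ q ^ i = 1 from congrArg Subtype.val hi, map_one]⟩)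
      (fun a ha b hb => (commutatorElement_eq_one_iff_commute.mp (hab a ha b hb)).map ρ) hR hAsolv
      hcopD hcopR (fun z hz h => by rw [hDA z hz h, map_one]) hRA hDfix
      (fun a ha b hb h1 h2 => (hRfix a ha b hb h1 h2).map ρ) x hx y hy
    have h' : ρ (x * y) = ρ (y * x) := by rw [map_mul, map_mul]; exact h.eq
    exact hρ h'
  -- the centre
  set Z : Subgroup Γ := (Subgroup.center D).map D.subtype with hZdef
  have hct : Subgroup.center D ≠ ⊤ := fun e => by
    obtain ⟨x₀, hx₀, y₀, hy₀, h⟩ := hnab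
    refine h (commutatorElement_eq_one_iff_commute.mpr ?_)
    exact (congrArg Subtype.val (Subgroup.mem_center_iff.mp
      (e ▸ Subgroup.mem_top (⟨x₀, hx₀⟩ : D)) ⟨y₀, hy₀⟩)).symm
  haveI hZn : Z.Normal := inferInstance
  have hZall : ∀ g : Γ, g ∈ Subgroup.normalizer (Z : Set Γ) := fun g => by
    rw [Subgroup.normalizer_eq_top_iff.mpr hZn]; exact Subgroup.mem_top g
  have hZD : Z ≤ D := Subgroup.map_subtype_le _
  have hZR : ∀ z ∈ Z, ∀ y ∈ R, Commute z y := fun z hz => (hchar _ inferInstance hct z hz).1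
  have hZc : ∀ z ∈ Z, ∀ y ∈ D, Commute z y := fun z hz => (hchar _ inferInstance hct z hz).2
  have hmemZ : ∀ {z : Γ}, z ∈ D → (∀ y ∈ D, Commute z y) → z ∈ Z := fun {z} hz h =>
    ⟨⟨z, hz⟩, Subgroup.mem_center_iff.mpr fun y => Subtype.ext (h y y.2).eq.symm, rfl⟩
  have hcommZ : ∀ x ∈ D, ∀ y ∈ D, ⁅x, y⁆ ∈ Z := by
    intro x hx y hy
    have hmem : ⁅x, y⁆ ∈ (commutator D).map D.subtype :=
      ⟨⁅(⟨x, hx⟩ : D), ⟨y, hy⟩⁆, Subgroup.commutator_mem_commutator (Subgroup.mem_top _)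
        (Subgroup.mem_top _), map_commutatorElement _ _ _⟩
    have h := (hchar _ inferInstance (Group.IsSolvable.commutator_lt_top_of_nontrivial D).ne _ hmem).2
    exact hmemZ (Subgroup.map_subtype_le _ hmem) h
  have hpowZ : ∀ x ∈ D, x ^ q ∈ Z := by
    intro x hx
    have hmem : x ^ q ∈ (frattini D).map D.subtype :=
      ⟨⟨x, hx⟩ ^ q, Cores.pow_mem_frattini hD _, rfl⟩
    refine hmemZ (pow_mem hx q) ((hchar _ inferInstance (fun e => ?_) _ hmem).2)
    have h : (⊥ : Subgroup D) = ⊤ := frattini_nongenerating (by rw [bot_sup_eq, e])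
    exact bot_ne_top h
  -- a weight of the centre
  obtain ⟨x₀, hx₀, y₀, hy₀, hxy₀⟩ := hnab
  have hDk : (Nat.card D : k) ≠ 0 := by
    obtain ⟨j, hj⟩ := IsPGroup.iff_card.mp hD
    rw [hj, Nat.cast_pow]
    exact pow_ne_zero _ hqk
  obtain ⟨χ₀, v₀, hv₀, hwt₀, hχ₀⟩ := exists_weight ρ Z
    (fun a ha b hb => hZc a ha b (hZD hb))
    (by
      obtain ⟨t, ht⟩ := Subgroup.card_dvd_of_le hZD
      exact fun e => hDk (by rw [ht, Nat.cast_mul, e, zero_mul]))
    (hcommZ x₀ hx₀ y₀ hy₀) (fun e => hxy₀ (hρ (e.trans (map_one ρ).symm)))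
  let χ : Γ → k := fun z => if hz : z ∈ Z then χ₀ ⟨z, hz⟩ else 0
  have hw : IsWeight ρ Z χ := ⟨v₀, hv₀, fun z hz => by simp only [χ, dif_pos hz]; exact hwt₀ ⟨z, hz⟩⟩
  have hχne : χ ⁅x₀, y₀⁆ ≠ 1 := by simp only [χ, dif_pos (hcommZ x₀ hx₀ y₀ hy₀)]; exact hχ₀
  have hχ0 : ∀ z ∈ Z, χ z ≠ 0 := fun z hz e => by
    have := hw.map_mul' hz (inv_mem hz)
    rw [mul_inv_cancel, hw.map_one', e, zero_mul] at this
    exact one_ne_zero this
  have hZk : ∀ z ∈ Z, ∃ i : ℕ, χ z ^ q ^ i = 1 := fun z hz => by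
    obtain ⟨i, hi⟩ := hD ⟨z, hZD hz⟩
    exact ⟨i, by rw [← hw.map_pow' hz, show z ^ q ^ i = 1 from congrArg Subtype.val hi, hw.map_one']⟩
  set F := weightStab Z χ with hF
  have hDF : D ≤ F := fun g hg => ⟨hZall g, fun z hz => by
    rw [← (hZc z hz g hg).eq, mul_inv_cancel_right]⟩
  have hRF : R ≤ F := fun g hg => ⟨hZall g, fun z hz => by
    rw [← (hZR z hz g hg).eq, mul_inv_cancel_right]⟩
  -- the stabilizer in `A`
  set H := A ⊓ F with hH
  have hH1 : ∃ b₁ ∈ H, b₁ ≠ 1 := by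
    obtain ⟨v, hv0, hv⟩ := hw
    obtain ⟨a, haA, ha1, hfix⟩ := exists_fix_weight ρ A Z hsum (fun g _ => hZall g)
      (fun z => χ z) v hv0 (fun z => hv z z.2)
    exact ⟨a, Subgroup.mem_inf.mpr ⟨haA, hZall a,
      fun z hz => hfix ⟨z, hz⟩ ((Subgroup.mem_normalizer_iff.mp (hZall a) z).mp hz)⟩, ha1⟩
  have hHA : ¬ A ≤ F := by
    intro hAF
    letI : CommGroup Z := { (inferInstance : Group Z) with
      mul_comm := fun a b => Subtype.ext (hZc a a.2 b (hZD b.2)).eq }
    let θZ : Γ →* MulAut Z := MulAut.conjNormal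
    have hz₀ := hcommZ x₀ hx₀ y₀ hy₀
    set N := ∏ a : A, θZ a ⟨_, hz₀⟩ with hN
    have hN1 : N = 1 := by
      refine Subtype.ext (hDA _ (hZD N.2) fun a ha => ?_)
      have hfix : θZ a N = N := by
        rw [hN, map_prod]
        exact Fintype.prod_equiv (Equiv.mulLeft ⟨a, ha⟩) _ _ fun b => by
          rw [← MulAut.mul_apply, ← map_mul]; rfl
      have h2 := congrArg Subtype.val hfix
      simp only [θZ, MulAut.conjNormal_apply] at h2
      exact mul_inv_eq_iff_eq_mul.mp h2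
    let g : Z →* k :=
      { toFun := fun z => χ z, map_one' := hw.map_one', map_mul' := fun a b => hw.map_mul' a.2 b.2 }
    have h1 : χ ⁅x₀, y₀⁆ ^ Nat.card A = 1 := by
      have h2 := congrArg g hN1
      rw [map_one, hN, map_prod, Finset.prod_eq_pow_card (b := χ ⁅x₀, y₀⁆) (fun (a : A) _ => ?_),
        Finset.card_univ, ← Nat.card_eq_fintype_card] at h2
      · exact h2
      · show χ ((θZ a ⟨_, hz₀⟩ : Z) : Γ) = _
        simp only [θZ, MulAut.conjNormal_apply]
        exact (hAF a.2).2 _ hz₀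
    obtain ⟨i, hi⟩ := hZk _ hz₀
    refine hχne (orderOf_eq_one_iff.mp (Nat.eq_one_of_dvd_coprimes ?_ (orderOf_dvd_of_pow_eq_one h1)
      (orderOf_dvd_of_pow_eq_one hi)))
    rw [hcard]
    exact Nat.Coprime.pow_right _ (Nat.Coprime.mul_left ((Nat.coprime_primes hn hq).mpr (Ne.symm hqn))
      ((Nat.coprime_primes hp hq).mpr (Ne.symm hqp)))
  have hTA : Subgroup.zpowers c ≤ A := Subgroup.zpowers_le.mpr hcA
  have hordc : orderOf c = n := orderOf_eq_prime hcn hc1
  -- a generator of the stabilizer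
  obtain ⟨b, hbH, hb1⟩ := hH1
  have hbA : b ∈ A := (Subgroup.mem_inf.mp hbH).1
  have hbF : b ∈ F := (Subgroup.mem_inf.mp hbH).2
  have hHlt : H < A := lt_of_le_of_ne inf_le_left fun e => hHA (e ▸ inf_le_right)
  obtain ⟨l, hl, hbl, hlnp⟩ : ∃ l : ℕ, l.Prime ∧ orderOf b = l ∧ (l = n ∨ l = p) := by
    by_cases hbT : b ∈ Subgroup.zpowers c
    · refine ⟨n, hn, orderOf_eq_prime ?_ hb1, Or.inl rfl⟩
      obtain ⟨i, rfl⟩ := (isOfFinOrder_of_finite c).mem_powers_iff_mem_zpowers.mpr hbT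
      show (c ^ i) ^ n = 1
      rw [← pow_mul, mul_comm, pow_mul, hcn, one_pow]
    · exact ⟨p, hp, orderOf_eq_prime (hout b hbA hbT).1 hb1, Or.inr rfl⟩
  have hblpow : b ^ l = 1 := hbl ▸ pow_orderOf_eq_one b
  have hHb : H = Subgroup.zpowers b := by
    refine (Coprime.eq_of_le_of_card_le (Subgroup.zpowers_le.mpr hbH) ?_).symm
    rw [Nat.card_zpowers, hbl]
    have hd : Nat.card H ∣ n * p := hcard ▸ Subgroup.card_dvd_of_le hHlt.le
    have hld : l ∣ Nat.card H := hbl ▸ Subgroup.orderOf_dvd_natCard H hbH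
    have hne' : Nat.card H ≠ n * p := fun e =>
      hHlt.ne (Coprime.eq_of_le_of_card_le hHlt.le (by rw [hcard, e]))
    obtain ⟨d₁, d₂, h1, h2, h12⟩ := exists_dvd_and_dvd_of_dvd_mul hd
    rw [h12] at hne' hld ⊢
    rcases (Nat.dvd_prime hn).mp h1 with rfl | rfl <;> rcases (Nat.dvd_prime hp).mp h2 with rfl | rfl
    · rw [one_mul, Nat.dvd_one] at hld; exact absurd hld hl.ne_one
    · rw [one_mul] at hld ⊢
      rw [(Nat.prime_dvd_prime_iff_eq hl hp).mp hld]
    · rw [mul_one] at hld ⊢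
      rw [(Nat.prime_dvd_prime_iff_eq hl hn).mp hld]
    · exact absurd rfl hne'
  have hlk : (l : k) ≠ 0 := by rcases hlnp with rfl | rfl <;> assumption
  set B := Subgroup.zpowers b with hB
  have hBA : B ≤ A := Subgroup.zpowers_le.mpr hbA
  have hBsolv : Group.IsSolvable B := Coprime.isSolvable_zpowers b
  have hcopBD : (Nat.card B).Coprime (Nat.card D) :=
    hcopD.coprime_dvd_left (Subgroup.card_dvd_of_le hBA)
  have hcopBR : (Nat.card B).Coprime (Nat.card R) :=
    hcopR.coprime_dvd_left (Subgroup.card_dvd_of_le hBA)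
  have hBR : B ≤ Subgroup.normalizer (R : Set Γ) := hBA.trans hAR
  have hBDn : B ≤ Subgroup.normalizer (D : Set Γ) := fun g _ => hDnorm g
  have hlr : l ≠ r := fun e => by
    have hR1 : Nat.card R ≠ 1 := fun h => hne fun x _ y hy => by
      rw [Subgroup.card_eq_one.mp h, Subgroup.mem_bot] at hy
      rw [hy]; exact Commute.one_right x
    exact hr.ne_one (Nat.eq_one_of_dvd_coprimes hcopBR (by rw [hB, Nat.card_zpowers, hbl, e])
      (hR.card_eq_or_dvd.resolve_left hR1))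
  -- the weight space
  let U : Submodule k W :=
    { carrier := {w | ∀ z ∈ Z, ρ z w = χ z • w}
      add_mem' := fun {a b} ha hb z hz => by rw [map_add, ha z hz, hb z hz, smul_add]
      zero_mem' := fun z _ => by rw [map_zero, smul_zero]
      smul_mem' := fun a w hw' z hz => by rw [map_smul, hw' z hz, smul_comm] }
  have hUinv : ∀ g ∈ F, ∀ w ∈ U, ρ g w ∈ U := by
    intro g hg w hw' z hz
    have hz' : g⁻¹ * z * g ∈ Z := (Subgroup.mem_normalizer_iff''.mp (hZall g) z).mp hz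
    rw [← End.mul_apply, ← map_mul, show z * g = g * (g⁻¹ * z * g) by group, map_mul, End.mul_apply,
      hw' _ hz', map_smul, ← hg.2 _ hz', show g * (g⁻¹ * z * g) * g⁻¹ = z by group]
  have hU0 : U ≠ ⊥ := by
    obtain ⟨v, hv0, hv⟩ := hw
    exact (Submodule.ne_bot_iff U).mpr ⟨v, hv, hv0⟩
  have hsumU : ∀ w ∈ U, ∑ i ∈ Finset.range l, ρ (b ^ i) w = 0 := by
    intro w hw'
    have hcj : ∀ (a : Γ) (z : Z), a⁻¹ * z * a ∈ Z := fun a z =>
      (Subgroup.mem_normalizer_iff''.mp (hZall a) z).mp z.2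
    let ζ : A → Z → k := fun a z => χ ((a : Γ)⁻¹ * z * a)
    let s : Finset (Z → k) := Finset.univ.image ζ
    have hζ : ∀ ψ ∈ s, ∀ z : Z,
        ρ (z : Γ) (∑ a ∈ Finset.univ.filter (fun a => ζ a = ψ), ρ (a : Γ) w) =
          ψ z • ∑ a ∈ Finset.univ.filter (fun a => ζ a = ψ), ρ (a : Γ) w := by
      intro ψ _ z
      rw [map_sum, Finset.smul_sum]
      refine Finset.sum_congr rfl fun a ha => ?_
      rw [Finset.mem_filter] at ha
      rw [← End.mul_apply, ← map_mul, show (z : Γ) * a = a * ((a : Γ)⁻¹ * z * a) by group, map_mul,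
        End.mul_apply, hw' _ (hcj a z), map_smul, ← ha.2]
    have h0 := eq_zero_of_sum_eq_zero (fun z : Z => ρ (z : Γ)) s
      (fun ψ => ∑ a ∈ Finset.univ.filter (fun a => ζ a = ψ), ρ (a : Γ) w) id hζ
      (fun _ _ _ _ e => e) (by
        rw [Finset.sum_fiberwise_of_maps_to (fun a _ => Finset.mem_image_of_mem ζ (Finset.mem_univ a))
          (fun a : A => ρ (a : Γ) w)]
        have := congrArg (fun e : End k W => e w) hsum
        simpa [LinearMap.sum_apply] using this) (ζ 1) (Finset.mem_image_of_mem ζ (Finset.mem_univ 1))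
    refine Eq.trans ?_ h0
    refine Finset.sum_bij (fun i _ => (⟨b ^ i, pow_mem hbA i⟩ : A)) (fun i _ => ?_) ?_ ?_
      (fun i _ => rfl)
    · rw [Finset.mem_filter]
      refine ⟨Finset.mem_univ _, funext fun z => ?_⟩
      have h := (inv_mem (pow_mem hbF i) : (b ^ i)⁻¹ ∈ F).2 z z.2
      rw [inv_inv] at h
      simp only [ζ, OneMemClass.coe_one, inv_one, one_mul, mul_one]
      exact h
    · intro i hi i' hi' e
      refine pow_injOn_Iio_orderOf ?_ ?_ (congrArg Subtype.val e) <;> rw [Set.mem_Iio, hbl]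
      · exact Finset.mem_range.mp hi
      · exact Finset.mem_range.mp hi'
    · intro a ha
      rw [Finset.mem_filter] at ha
      have haH : (a : Γ)⁻¹ ∈ H := Subgroup.mem_inf.mpr ⟨inv_mem a.2, hZall _, fun z hz => by
        rw [inv_inv]
        have := congrFun ha.2 ⟨z, hz⟩
        simpa [ζ] using this⟩
      have haB : (a : Γ) ∈ B := hHb ▸ inv_mem_iff.mp haH
      obtain ⟨i, hi⟩ := (isOfFinOrder_of_finite b).mem_powers_iff_mem_zpowers.mpr haB
      dsimp only at hi
      refine ⟨i % l, Finset.mem_range.mpr (Nat.mod_lt _ hl.pos), Subtype.ext ?_⟩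
      show b ^ (i % l) = (a : Γ)
      rw [← hbl, pow_mod_orderOf, hi]
  have hfpfU : ∀ w ∈ U, ρ b w = w → w = 0 := by
    intro w hw' hbw
    have h := hsumU w hw'
    have hall : ∀ i : ℕ, ρ (b ^ i) w = w := by
      intro i
      induction i with
      | zero => simp
      | succ i ih => rw [pow_succ, map_mul, End.mul_apply, hbw, ih]
    simp only [hall, Finset.sum_const, Finset.card_range, ← Nat.cast_smul_eq_nsmul k] at h
    exact (smul_eq_zero.mp h).resolve_left hlk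
  -- the pairing
  let β : Γ → Γ → k := fun x y => χ ⁅x, y⁆
  have hβl : ∀ x ∈ D, ∀ y ∈ D, ∀ z ∈ D, β (x * y) z = β x z * β y z := by
    intro x hx y hy z hz
    show χ ⁅x * y, z⁆ = χ ⁅x, z⁆ * χ ⁅y, z⁆
    have h := hZc _ (hcommZ y hy z hz) x hx
    rw [show ⁅x * y, z⁆ = x * ⁅y, z⁆ * x⁻¹ * ⁅x, z⁆ by simp only [commutatorElement_def]; group,
      ← h.eq, mul_inv_cancel_right, hw.map_mul' (hcommZ y hy z hz) (hcommZ x hx z hz), mul_comm]
  have hβswap : ∀ x ∈ D, ∀ y ∈ D, β x y * β y x = 1 := fun x hx y hy => by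
    show χ ⁅x, y⁆ * χ ⁅y, x⁆ = 1
    rw [← hw.map_mul' (hcommZ x hx y hy) (hcommZ y hy x hx), ← commutatorElement_inv y x,
      inv_mul_cancel, hw.map_one']
  have hβr : ∀ x ∈ D, ∀ y ∈ D, ∀ z ∈ D, β x (y * z) = β x y * β x z := by
    intro x hx y hy z hz
    apply mul_right_cancel₀ (hχ0 _ (hcommZ (y * z) (mul_mem hy hz) x hx))
    show β x (y * z) * β (y * z) x = β x y * β x z * β (y * z) x
    rw [hβswap x hx _ (mul_mem hy hz), hβl y hy z hz x hx, show β x y * β x z * (β y x * β z x) =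
      (β x y * β y x) * (β x z * β z x) by ring, hβswap x hx y hy, hβswap x hx z hz, one_mul]
  have hβself : ∀ x, β x x = 1 := fun x => by
    show χ ⁅x, x⁆ = 1
    rw [commutatorElement_self, hw.map_one']
  have hβinv : ∀ g ∈ F, ∀ x ∈ D, ∀ y ∈ D, β (g * x * g⁻¹) (g * y * g⁻¹) = β x y := by
    intro g hg x hx y hy
    show χ ⁅g * x * g⁻¹, g * y * g⁻¹⁆ = χ ⁅x, y⁆
    rw [show ⁅g * x * g⁻¹, g * y * g⁻¹⁆ = g * ⁅x, y⁆ * g⁻¹ by simp only [commutatorElement_def]; group]
    exact hg.2 _ (hcommZ x hx y hy)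
  have hβ1 : ∀ x ∈ D, β 1 x = 1 := fun x hx => by
    show χ ⁅(1 : Γ), x⁆ = 1
    rw [commutatorElement_one_left, hw.map_one']
  let Rad : Subgroup Γ :=
    { carrier := {x | x ∈ D ∧ ∀ y ∈ D, β x y = 1}
      one_mem' := ⟨one_mem _, hβ1⟩
      mul_mem' := fun {a b} ha hb => ⟨mul_mem ha.1 hb.1, fun y hy => by
        rw [hβl a ha.1 b hb.1 y hy, ha.2 y hy, hb.2 y hy, one_mul]⟩
      inv_mem' := fun {a} ha => ⟨inv_mem ha.1, fun y hy => by
        have := hβl a⁻¹ (inv_mem ha.1) a ha.1 y hy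
        rw [inv_mul_cancel, hβ1 y hy, ha.2 y hy, mul_one] at this
        exact this.symm⟩ }
  have hmemRad : ∀ x, x ∈ Rad ↔ x ∈ D ∧ ∀ y ∈ D, β x y = 1 := fun x => Iff.rfl
  have hRadD : Rad ≤ D := fun x hx => hx.1
  have hZRad : Z ≤ Rad := fun z hz => ⟨hZD hz, fun y hy => by
    show χ ⁅z, y⁆ = 1
    rw [commutatorElement_eq_one_iff_commute.mpr (hZc z hz y hy), hw.map_one']⟩
  have hFRad : ∀ g ∈ F, ∀ x ∈ Rad, g * x * g⁻¹ ∈ Rad := by
    intro g hg x hx
    refine ⟨(Subgroup.mem_normalizer_iff.mp (hDnorm g) x).mp hx.1, fun y hy => ?_⟩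
    have hy' : g⁻¹ * y * g ∈ D := (Subgroup.mem_normalizer_iff''.mp (hDnorm g) y).mp hy
    rw [show y = g * (g⁻¹ * y * g) * g⁻¹ by group, hβinv g hg x hx.1 _ hy']
    exact hx.2 _ hy'
  have hFRad' : F ≤ Subgroup.normalizer (Rad : Set Γ) := fun g hg =>
    Subgroup.mem_normalizer_iff.mpr fun x => ⟨hFRad g hg x, fun h => by
      simpa [mul_assoc] using hFRad g⁻¹ (inv_mem hg) _ h⟩
  -- the layer `M = D / Rad`
  let Rad' : Subgroup D := Rad.subgroupOf D
  haveI : Rad'.Normal := Subgroup.normal_subgroupOf_of_le_normalizer (hDF.trans hFRad')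
  letI : CommGroup (D ⧸ Rad') := { (inferInstance : Group (D ⧸ Rad')) with
    mul_comm := fun a b => by
      induction a using QuotientGroup.induction_on with
      | H x =>
        induction b using QuotientGroup.induction_on with
        | H y =>
          refine QuotientGroup.eq_iff_div_mem.mpr (hZRad ?_)
          rw [div_eq_mul_inv]
          show (x : Γ) * y * ((y : Γ) * x)⁻¹ ∈ Z
          rw [show (x : Γ) * y * ((y : Γ) * x)⁻¹ = ⁅(x : Γ), (y : Γ)⁆ by
            simp only [commutatorElement_def]; group]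
          exact hcommZ x x.2 y y.2 }
  have hexpM : ∀ m : D ⧸ Rad', m ^ q = 1 := fun m => by
    induction m using QuotientGroup.induction_on with
    | H x => rw [← QuotientGroup.mk_pow, QuotientGroup.eq_one_iff]; exact hZRad (hpowZ x x.2)
  have hout' : ∀ x : D, (x : Γ)⁻¹ * ((x : D ⧸ Rad').out : D) ∈ Rad := fun x =>
    (QuotientGroup.eq (s := Rad')).mp (QuotientGroup.out_eq' (x : D ⧸ Rad')).symm
  let βM : D ⧸ Rad' → D ⧸ Rad' → kˣ := fun u v =>
    Units.mk0 (β (u.out : D) (v.out : D)) (hχ0 _ (hcommZ _ u.out.2 _ v.out.2))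
  have hβRad : ∀ x ∈ D, ∀ t ∈ Rad, β x t = 1 := fun x hx t ht => by
    have h := hβswap x hx t ht.1
    rwa [ht.2 x hx, mul_one] at h
  have hβM : ∀ x y : D, (βM x y : k) = β x y := by
    intro x y
    show β _ _ = β _ _
    rw [← mul_inv_cancel_left (x : Γ) ((x : D ⧸ Rad').out : D),
      ← mul_inv_cancel_left (y : Γ) ((y : D ⧸ Rad').out : D),
      hβl _ x.2 _ (hRadD (hout' x)) _ (mul_mem y.2 (hRadD (hout' y))),
      (hout' x).2 _ (mul_mem y.2 (hRadD (hout' y))), mul_one, hβr _ x.2 _ y.2 _ (hRadD (hout' y)),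
      hβRad _ x.2 _ (hout' y), mul_one]
  have hMl : ∀ u v w, βM (u * v) w = βM u w * βM v w := by
    intro u v w
    induction u using QuotientGroup.induction_on with
    | H x =>
    induction v using QuotientGroup.induction_on with
    | H y =>
    induction w using QuotientGroup.induction_on with
    | H z =>
      ext
      rw [← QuotientGroup.mk_mul, Units.val_mul, hβM, hβM, hβM, Subgroup.coe_mul]
      exact hβl x x.2 y y.2 z z.2
  have hMr : ∀ u v w, βM u (v * w) = βM u v * βM u w := by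
    intro u v w
    induction u using QuotientGroup.induction_on with
    | H x =>
    induction v using QuotientGroup.induction_on with
    | H y =>
    induction w using QuotientGroup.induction_on with
    | H z =>
      ext
      rw [← QuotientGroup.mk_mul, Units.val_mul, hβM, hβM, hβM, Subgroup.coe_mul]
      exact hβr x x.2 y y.2 z z.2
  have hMnd : ∀ u, (∀ v, βM u v = 1) → u = 1 := by
    intro u hu
    induction u using QuotientGroup.induction_on with
    | H x => exact (QuotientGroup.eq_one_iff x).mpr ⟨x.2, fun y hy => by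
        have h := congrArg Units.val (hu ((⟨y, hy⟩ : D) : D ⧸ Rad'))
        rwa [hβM, Units.val_one] at h⟩
  -- the action
  let conjF : F →* MulAut D := (MulAut.conjNormal (H := D)).comp F.subtype
  have hconjF : ∀ (g : F) (x : D), ((conjF g x : D) : Γ) = (g : Γ) * x * (g : Γ)⁻¹ := fun g x => rfl
  let θ : F →* MulAut (D ⧸ Rad') := quotHom conjF Rad' fun g x hx => hFRad g g.2 x hx
  have hθmk : ∀ (g : F) (x : D), θ g (x : D ⧸ Rad') = ((conjF g x : D) : D ⧸ Rad') := fun g x => rfl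
  have hMinv : ∀ (g : F) (u v : D ⧸ Rad'), βM (θ g u) (θ g v) = βM u v := by
    intro g u v
    induction u using QuotientGroup.induction_on with
    | H x =>
    induction v using QuotientGroup.induction_on with
    | H y =>
      ext
      rw [hθmk, hθmk, hβM, hβM, hconjF, hconjF]
      exact hβinv g g.2 x x.2 y y.2
  set bF : F := ⟨b, hbF⟩ with hbFdef
  have hcopzF : (Nat.card (Subgroup.zpowers bF)).Coprime (Nat.card D) := by
    rw [Nat.card_zpowers, hbFdef, Subgroup.orderOf_mk, ← Nat.card_zpowers]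
    exact hcopBD
  have hlift : ∀ m : D ⧸ Rad', θ bF m = m → ∃ x : D, (x : D ⧸ Rad') = m ∧ b * x = x * b := by
    intro m hm
    obtain ⟨x, hx, hfix⟩ := exists_fixed_lift conjF Rad' (fun g x hx => hFRad g g.2 x hx)
      (Subgroup.zpowers bF) (Coprime.isSolvable_zpowers bF) hcopzF m (fun s hs => by
        have h : Subgroup.zpowers bF ≤ (MulAction.stabilizer (MulAut (D ⧸ Rad')) m).comap θ :=
          Subgroup.zpowers_le.mpr hm
        exact h hs)
    refine ⟨x, hx, ?_⟩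
    have := congrArg Subtype.val (hfix bF (Subgroup.mem_zpowers _))
    rw [hconjF] at this
    exact mul_inv_eq_iff_eq_mul.mp this
  -- the moved part
  set Q := ⁅D, B⁆ with hQ
  have hQD : Q ≤ D := Coprime.commutator_le_of_le_normalizer hBDn
  have hperp : ∀ x ∈ Q, ∀ y ∈ D, b * y = y * b → β x y = 1 := by
    intro x hx y hy hby
    let P : Subgroup Γ :=
      { carrier := {g | g ∈ D ∧ β g y = 1}
        one_mem' := ⟨one_mem _, hβ1 y hy⟩
        mul_mem' := fun {g₁ g₂} h₁ h₂ => ⟨mul_mem h₁.1 h₂.1, by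
          rw [hβl _ h₁.1 _ h₂.1 y hy, h₁.2, h₂.2, one_mul]⟩
        inv_mem' := fun {g} hg => ⟨inv_mem hg.1, by
          have := hβl _ (inv_mem hg.1) _ hg.1 y hy
          rw [inv_mul_cancel, hβ1 y hy, hg.2, mul_one] at this
          exact this.symm⟩ }
    refine ((Subgroup.commutator_le.mpr fun d hd g hg => ?_ : Q ≤ P) hx).2
    have hgF : g ∈ F := Subgroup.zpowers_le.mpr hbF hg
    have hgy : g * y * g⁻¹ = y := by
      obtain ⟨i, rfl⟩ := hg
      show b ^ i * y * (b ^ i)⁻¹ = y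
      rw [(show Commute b y from hby).zpow_left i |>.eq, mul_inv_cancel_right]
    have hd' : g * d⁻¹ * g⁻¹ ∈ D := (Subgroup.mem_normalizer_iff.mp (hDnorm g) _).mp (inv_mem hd)
    have e : ⁅d, g⁆ = d * (g * d⁻¹ * g⁻¹) := by rw [commutatorElement_def]; group
    refine ⟨e ▸ mul_mem hd hd', ?_⟩
    rw [e, hβl d hd _ hd' y hy]
    conv_lhs => arg 2; rw [← hgy]
    rw [hβinv g hgF _ (inv_mem hd) y hy, ← hβl d hd _ (inv_mem hd) y hy, mul_inv_cancel, hβ1 y hy]
  have hsupp : ∀ y ∈ D, ∃ x ∈ Q, ∃ z ∈ D, b * z = z * b ∧ y = x * z := by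
    intro y hy
    rw [← Coprime.commutator_sup_centralizer_eq hBDn hcopBD (Or.inl hBsolv)] at hy
    obtain ⟨x, hx, z, hz, rfl⟩ := Coprime.exists_mul_of_mem_sup
      (inf_le_left.trans (Subgroup.normalizer_commutator_ge_left D B)) hy
    exact ⟨x, hx, z, hz.1, Subgroup.mem_centralizer_iff.mp hz.2 b (Subgroup.mem_zpowers b), rfl⟩
  let V : Subgroup (D ⧸ Rad') := (Q.subgroupOf D).map (QuotientGroup.mk' Rad')
  have hVcard : Nat.card V = Rad.relIndex Q := by
    rw [← Subgroup.relIndex_ker, QuotientGroup.ker_mk', Subgroup.relIndex_subgroupOf hQD]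
  have hVF : ∀ m : D ⧸ Rad', ∃ v ∈ V, θ bF (v⁻¹ * m) = v⁻¹ * m := by
    intro m
    induction m using QuotientGroup.induction_on with
    | H y =>
      obtain ⟨x, hx, z, hz, hbz, hyxz⟩ := hsupp y y.2
      refine ⟨((⟨x, hQD hx⟩ : D) : D ⧸ Rad'), ⟨⟨x, hQD hx⟩, hx, rfl⟩, ?_⟩
      rw [← QuotientGroup.mk_inv, ← QuotientGroup.mk_mul, hθmk]
      congr 1
      refine Subtype.ext ?_
      rw [hconjF]
      show b * (x⁻¹ * (y : Γ)) * b⁻¹ = x⁻¹ * (y : Γ)
      rw [hyxz, inv_mul_cancel_left, hbz, mul_inv_cancel_right]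
  have horth : ∀ v ∈ V, ∀ f, θ bF f = f → βM f v = 1 := by
    rintro _ ⟨x, hx, rfl⟩ f hf
    obtain ⟨z, rfl, hbz⟩ := hlift f hf
    ext
    show ((βM (z : D ⧸ Rad') (x : D ⧸ Rad') : kˣ) : k) = ((1 : kˣ) : k)
    rw [hβM, Units.val_one]
    have h := hβswap z z.2 x x.2
    rwa [hperp x hx z z.2 hbz, mul_one] at h
  -- dichotomy
  have hdich : θ bF = 1 ∨ (Rad.relIndex Q = (l - 1) ^ 2 ∧ ¬ θ bF = 1) := by
    rcases relIndex_moved ρ D Rad hRadD hl hlk hblpow (hDnorm b) (hFRad' hbF) hDk β U hU0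
      (fun x hx => hUinv x (hDF hx)) (hUinv b hbF) hfpfU hsumU
      (fun x hx y hy w hw' => by
        show _ = χ ⁅x, y⁆ • _
        have h : ρ y (ρ x w) ∈ U := hUinv y (hDF hy) _ (hUinv x (hDF hx) w hw')
        rw [← h _ (hcommZ x hx y hy), ← End.mul_apply, ← End.mul_apply, ← End.mul_apply, ← map_mul,
          ← map_mul, ← map_mul]
        congr 2
        rw [commutatorElement_def]
        group)
      hmemRad hperp hsupp
      (fun x hx hbx => by
        have hfix : θ bF ((⟨x, hx⟩ : D) : D ⧸ Rad') = ((⟨x, hx⟩ : D) : D ⧸ Rad') := by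
          rw [hθmk, QuotientGroup.eq_iff_div_mem, div_eq_mul_inv]
          exact hbx
        obtain ⟨z, hz, hbz⟩ := hlift _ hfix
        refine ⟨x⁻¹ * z, (QuotientGroup.eq (s := Rad')).mp hz.symm, ?_⟩
        rwa [mul_inv_cancel_left]) hβr with h | h
    · refine Or.inl (MulEquiv.ext fun m => ?_)
      obtain ⟨v, hv, hfix⟩ := hVF m
      have hv1 : v = 1 := by
        obtain ⟨x, hx, rfl⟩ := hv
        exact (QuotientGroup.eq_one_iff x).mpr (h hx)
      rw [hv1, inv_one, one_mul] at hfix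
      exact hfix
    · by_cases h1 : θ bF = 1
      · exact Or.inl h1
      · exact Or.inr ⟨h, h1⟩
  have hexc : ¬ θ bF = 1 → l = p ∧ q = 2 ∧ ∃ j, 1 ≤ j ∧ l = 2 ^ j + 1 ∧ Rad.relIndex Q = 2 ^ (2 * j) := by
    intro h1
    obtain ⟨hidx, -⟩ := hdich.resolve_left h1
    obtain ⟨i, hi⟩ : ∃ i, Rad.relIndex Q = q ^ i :=
      ((hD.to_le hQD).index (Rad.subgroupOf Q))
    have hne1 : l - 1 ≠ 1 := by
      intro e
      apply h1
      refine MulEquiv.ext fun m => ?_
      obtain ⟨v, hv, hfix⟩ := hVF m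
      have hV1 : V = ⊥ := V.card_eq_one.mp (by rw [hVcard, hidx, e, one_pow])
      rw [hV1, Subgroup.mem_bot] at hv
      rw [hv, inv_one, one_mul] at hfix
      exact hfix
    have hl3 : 3 ≤ l := by have := hl.two_le; omega
    have hlodd : 2 ∣ l - 1 := by
      rcases hl.eq_two_or_odd with h | h <;> omega
    have hq2 : q = 2 := by
      have h2 : 2 ∣ q ^ i := by rw [← hi, hidx]; exact dvd_pow hlodd two_ne_zero
      exact ((Nat.prime_dvd_prime_iff_eq Nat.prime_two hq).mp (Nat.prime_two.dvd_of_dvd_pow h2)).symm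
    obtain ⟨j, -, hj⟩ := (Nat.dvd_prime_pow Nat.prime_two).mp
      (show l - 1 ∣ 2 ^ i by rw [← hq2, ← hi, hidx]; exact dvd_pow_self _ two_ne_zero)
    have hlp : l = p := by
      refine hlnp.resolve_left fun e => hqp ?_
      subst e
      rw [hj] at hdvd
      rw [hq2, (Nat.prime_dvd_prime_iff_eq hp Nat.prime_two).mp (hp.dvd_of_dvd_pow hdvd)]
    refine ⟨hlp, hq2, j, ?_, by omega, ?_⟩
    · by_contra h0
      rw [show j = 0 by omega, pow_zero] at hj
      exact hne1 hj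
    · rw [hidx, hj, ← pow_mul, mul_comm]
  -- the part `[R, b]`
  have hR1R : ⁅R, B⁆ ≤ R := Coprime.commutator_le_of_le_normalizer hBR
  have hRF' : (R.subgroupOf F).map F.subtype = R := Subgroup.map_subgroupOf_eq_of_le hRF
  have hBmap : (Subgroup.zpowers bF).map F.subtype = B := MonoidHom.map_zpowers _ _
  have hmapR1 : (⁅R.subgroupOf F, Subgroup.zpowers bF⁆ : Subgroup F).map F.subtype = ⁅R, B⁆ := by
    rw [Subgroup.map_commutator, hRF', hBmap]
  have hMself : ∀ u, βM u u = 1 := fun u => by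
    induction u using QuotientGroup.induction_on with
    | H x => ext; rw [hβM, Units.val_one]; exact hβself _
  have hMswap : ∀ u v, βM u v * βM v u = 1 := fun u v => by
    induction u using QuotientGroup.induction_on with
    | H x =>
    induction v using QuotientGroup.induction_on with
    | H y => ext; rw [Units.val_mul, hβM, hβM, Units.val_one]; exact hβswap x x.2 y y.2
  have hθtriv : ∀ y (hy : y ∈ ⁅R, B⁆), θ ⟨y, hRF (hR1R hy)⟩ = 1 := by
    intro y hy
    refine commutator_acts_trivially θ (R.subgroupOf F) (b := bF) hl hr hlr hrq (Subtype.ext hblpow)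
      (Subgroup.mem_normalizer_iff.mpr fun g =>
        Subgroup.mem_normalizer_iff.mp (hBR (Subgroup.mem_zpowers b)) g)
      (hR.of_equiv (Subgroup.subgroupOfEquivOfLe hRF).symm) ?_ βM hMl hMr hMself hMnd hMinv V hVF horth
      hexpM (fun h => ?_) _ ?_
    · intro g hg h hh
      rw [← commutatorElement_eq_one_iff_commute, ← map_commutatorElement]
      refine MulEquiv.ext fun m => ?_
      induction m using QuotientGroup.induction_on with
      | H x =>
        rw [hθmk, MulAut.one_apply]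
        congr 1
        refine Subtype.ext ?_
        rw [hconjF]
        have hc' : Commute (x : Γ) ((⁅g, h⁆ : F) : Γ) := hRR x x.2 _ (by
          rw [show ((⁅g, h⁆ : F) : Γ) = ⁅(g : Γ), (h : Γ)⁆ from map_commutatorElement F.subtype g h]
          exact Subgroup.commutator_mem_commutator hg hh)
        rw [← hc'.eq, mul_inv_cancel_right]
    · obtain ⟨-, hq2, j, hj, hlj, hcardj⟩ := hexc h
      have hj2 : 2 ^ 1 ≤ 2 ^ j := Nat.pow_le_pow_right two_pos hj
      refine ⟨hq2, by omega, ?_⟩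
      rw [hVcard, hcardj, hlj, Nat.add_sub_cancel, ← pow_mul, mul_comm]
    · obtain ⟨g, hg, hgy⟩ := hmapR1.symm ▸ hy
      rwa [show (⟨y, hRF (hR1R hy)⟩ : F) = g from Subtype.ext hgy.symm]
  -- the fixed classes of `b` are fixed by `C_R(b)`
  have hfixed : ∀ y (hy : y ∈ R), b * y = y * b → ∀ m, θ bF m = m → θ ⟨y, hRF hy⟩ m = m := by
    intro y hy hby m hm
    obtain ⟨x, rfl, hbx⟩ := hlift m hm
    by_cases hbT : b ∈ Subgroup.zpowers c
    · have hcb : c ∈ B := by
        have : B = Subgroup.zpowers c := by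
          refine Coprime.eq_of_le_of_card_le (Subgroup.zpowers_le.mpr hbT) ?_
          rw [hB, Nat.card_zpowers, Nat.card_zpowers, hordc, hbl]
          obtain ⟨i, rfl⟩ := (isOfFinOrder_of_finite c).mem_powers_iff_mem_zpowers.mpr hbT
          have : l ∣ n := hbl ▸ orderOf_dvd_of_pow_eq_one (show (c ^ i) ^ n = 1 by
            rw [← pow_mul, mul_comm, pow_mul, hcn, one_pow])
          rw [(Nat.prime_dvd_prime_iff_eq hl hn).mp this]
        rw [this]; exact Subgroup.mem_zpowers c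
      obtain ⟨i, hi⟩ := hcb
      dsimp only at hi
      have hcom := hRfix x x.2 y hy (hi ▸ (Commute.zpow_left hbx i).eq)
        (hi ▸ (Commute.zpow_left hby i).eq)
      rw [hθmk]
      congr 1
      refine Subtype.ext ?_
      rw [hconjF]
      show y * (x : Γ) * y⁻¹ = x
      rw [← hcom.eq, mul_inv_cancel_right]
    obtain ⟨-, hnbc, hgen⟩ := hout b hbA hbT
    letI := Fintype.ofFinite (⁅R, B⁆ : Subgroup Γ)
    have hconj : ∀ g (hg : g ∈ R) (u : D), ((MulAut.conjNormal g u : D) : D ⧸ Rad') =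
        θ ⟨g, hRF hg⟩ (u : D ⧸ Rad') := fun g hg u => rfl
    have h1 := average_fixed_mod_center A D R ⁅R, B⁆ rfl hn hcn hc1 hcA hbA hnbc hgen hAT hAR hAsolv hcopD
        hcopR hcopRD hDA hRA hDR (fun a ha b' hb' z hz => hZc _ (hcommZ a ha b' hb') z hz) hRR hy hby x
        hbx (QuotientGroup.mk' Rad') (fun u hu => by
          rw [QuotientGroup.ker_mk']; exact hZRad ⟨u, hu, rfl⟩)
        (fun g hg => by
          simp only [QuotientGroup.mk'_apply]
          rw [hconj y hy, hconj y hy, hconj g (hR1R hg), hθtriv g hg]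
          exact ⟨rfl, rfl⟩)
    simp only [QuotientGroup.mk'_apply] at h1
    rw [hconj y hy] at h1
    obtain ⟨i, hi⟩ := exists_pow_eq_self_of_coprime (x := (x : D ⧸ Rad'))
      (n := Fintype.card (⁅R, B⁆ : Subgroup Γ)) (by
        rw [← Nat.card_eq_fintype_card]
        exact (hcopRD.coprime_dvd_left (Subgroup.card_dvd_of_le hR1R)).coprime_dvd_right
          ((orderOf_map_dvd (QuotientGroup.mk' Rad') x).trans (orderOf_dvd_natCard x)))
    rw [← hi, map_pow, map_pow, h1]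
  -- `C_R(b)` acts trivially
  have hCR : ∀ y (hy : y ∈ R), b * y = y * b → θ ⟨y, hRF hy⟩ = 1 := by
    intro y hy hby
    refine MulEquiv.ext fun m => ?_
    obtain ⟨v, hv, hfix⟩ := hVF m
    rw [MulAut.one_apply, ← mul_inv_cancel_left v m, map_mul, hfixed y hy hby _ hfix]
    suffices h : θ ⟨y, hRF hy⟩ v = v by rw [h]
    by_cases h1 : θ bF = 1
    · exact hfixed y hy hby v (by rw [h1]; rfl)
    obtain ⟨hlp, hq2, j, hj, hlj, hcardj⟩ := hexc h1
    have hVinv : ∀ g : F, (g : Γ) ∈ Subgroup.normalizer (Q : Set Γ) → ∀ u ∈ V, θ g u ∈ V := by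
      rintro g hg _ ⟨u, hu, rfl⟩
      exact ⟨conjF g u, (Subgroup.mem_normalizer_iff.mp hg _).mp hu, rfl⟩
    have hyB : y ∈ Subgroup.normalizer (B : Set Γ) := by
      refine Subgroup.centralizer_le_normalizer (B : Set Γ) (Subgroup.mem_centralizer_iff.mpr fun t ht => ?_)
      obtain ⟨i, rfl⟩ := ht
      exact ((show Commute b y from hby).zpow_left i).eq
    have hyQ : y ∈ Subgroup.normalizer (Q : Set Γ) := Coprime.mem_normalizer_of_conj_smul_eq (by
      rw [hQ, Coprime.conj_smul_commutator, Coprime.conj_smul_eq_of_mem_normalizer (hDnorm y),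
        Coprime.conj_smul_eq_of_mem_normalizer hyB])
    obtain ⟨i, hi⟩ := hR ⟨y, hy⟩
    exact trivial_on_moved (fun m => hq2 ▸ hexpM m) hj hlj hl hr hlr βM hMl hMr hMswap hMnd (θ bF)
      (θ ⟨y, hRF hy⟩)
      (by rw [← map_pow, show bF ^ l = 1 from Subtype.ext hblpow, map_one])
      (i := i) (hα := by
        rw [← map_pow, show (⟨y, hRF hy⟩ : F) ^ r ^ i = 1 from Subtype.ext
          (congrArg Subtype.val hi :), map_one])
      ((show Commute bF ⟨y, hRF hy⟩ from Subtype.ext hby).map θ)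
      (hMinv bF) (hMinv _) V hVF horth
      (hVinv bF (Subgroup.normalizer_commutator_ge_right D B (Subgroup.mem_zpowers b)))
      (hVinv _ hyQ) (by rw [hVcard, hcardj]) v hv
  -- everything acts trivially
  let Kθ : Subgroup Γ := θ.ker.map F.subtype
  have hRK : R ≤ Kθ := by
    conv_lhs => rw [← Coprime.commutator_sup_centralizer_eq hBR hcopBR (Or.inl hBsolv)]
    refine sup_le (fun y hy => ⟨⟨y, hRF (hR1R hy)⟩, hθtriv y hy, rfl⟩) fun y hy => ?_
    exact ⟨⟨y, hRF hy.1⟩, hCR y hy.1 (Subgroup.mem_centralizer_iff.mp hy.2 b (Subgroup.mem_zpowers b)), rfl⟩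
  have hDRad : D ≤ Rad := by
    conv_lhs => rw [← hDR]
    refine Subgroup.commutator_le.mpr fun d hd g hg => ?_
    obtain ⟨gF, hgF, hgg⟩ := hRK hg
    have h1 := DFunLike.congr_fun (MonoidHom.mem_ker.mp hgF) (((⟨d, hd⟩ : D)⁻¹ : D) : D ⧸ Rad')
    rw [hθmk, MulAut.one_apply, QuotientGroup.eq_iff_div_mem, div_eq_mul_inv] at h1
    have h2 : ((conjF gF (⟨d, hd⟩ : D)⁻¹ * ((⟨d, hd⟩ : D)⁻¹)⁻¹ : D) : Γ) ∈ Rad := h1
    change (gF : Γ) * d⁻¹ * (gF : Γ)⁻¹ * d⁻¹⁻¹ ∈ Rad at h2
    rw [inv_inv, show (gF : Γ) = g from hgg] at h2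
    have h3 := hFRad d (hDF hd) _ h2
    change d * (g * d⁻¹ * g⁻¹ * d) * d⁻¹ ∈ Rad at h3
    rw [show ⁅d, g⁆ = d * (g * d⁻¹ * g⁻¹ * d) * d⁻¹ by rw [commutatorElement_def]; group]
    exact h3
  exact hχne ((hDRad hx₀).2 y₀ hy₀)

/-- A class modulo the kernel fixed by a coprime solvable group of operators has a fixed
representative. -/
theorem exists_fixed_rep {Γ : Type*} [Group Γ] [Finite Γ] (ρ : Γ →* End k W) (S X : Subgroup Γ)
    (hSX : S ≤ Subgroup.normalizer (X : Set Γ)) (hS : Group.IsSolvable S)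
    (hcop : (Nat.card S).Coprime (Nat.card X)) {x : Γ} (hx : x ∈ X)
    (hfix : ∀ a ∈ S, ρ (a * x * a⁻¹) = ρ x) :
    ∃ y ∈ X, ρ y = ρ x ∧ ∀ a ∈ S, a * y = y * a := by
  set η := ρ.toHomUnits
  have hηρ : ∀ {a b : Γ}, η a = η b ↔ ρ a = ρ b := fun {a b} => Units.ext_iff
  have hnk : ∀ g ∈ Subgroup.normalizer (X : Set Γ),
      g ∈ Subgroup.normalizer ((X ⊓ η.ker : Subgroup Γ) : Set Γ) := by
    intro g hg
    rw [Subgroup.mem_normalizer_iff]
    intro y
    simp only [Subgroup.mem_inf]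
    exact and_congr (Subgroup.mem_normalizer_iff.mp hg y)
      ⟨fun h => Subgroup.Normal.conj_mem inferInstance y h g, fun h => by
        simpa [mul_assoc] using Subgroup.Normal.conj_mem inferInstance _ h g⁻¹⟩
  obtain ⟨m, hm, hxm⟩ := Coprime.exists_mem_centralizer_of_fixed_coset (A := S) (N := X ⊓ η.ker)
    (k := x) (fun a ha => hnk a (hSX ha)) (hcop.coprime_dvd_right (Subgroup.card_dvd_of_le inf_le_left))
    (Or.inl hS) (hnk x (Subgroup.le_normalizer hx)) (fun a ha => Subgroup.mem_inf.mpr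
      ⟨mul_mem ((Subgroup.mem_normalizer_iff.mp (hSX ha) x).mp hx) (inv_mem hx), by
        rw [MonoidHom.mem_ker, ← map_one η, hηρ, map_mul, hfix a ha, ← map_mul, mul_inv_cancel]⟩)
  rw [Subgroup.mem_inf, MonoidHom.mem_ker, ← map_one η, hηρ, map_one] at hm
  exact ⟨x * m, mul_mem hx hm.1, by rw [map_mul, hm.2, mul_one],
    fun a ha => Subgroup.mem_centralizer_iff.mp hxm a ha⟩

set_option maxHeartbeats 1000000 in
/-- The linear core: `R` centralizes the image of `D`. -/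
theorem frobenius_core {Γ : Type*} [Group Γ] [Finite Γ] (ρ : Γ →* End k W) (A : Subgroup Γ)
    [Fintype A] {c : Γ} {p n : ℕ} (hcA : c ∈ A) (hn : n.Prime) (hcn : c ^ n = 1) (hc1 : c ≠ 1)
    (hp : p.Prime) (hdvd : p ∣ n - 1)
    (hAT : A ≤ Subgroup.normalizer (Subgroup.zpowers c : Set Γ))
    (hout : ∀ a ∈ A, a ∉ Subgroup.zpowers c →
      a ^ p = 1 ∧ a * c ≠ c * a ∧ Subgroup.zpowers c ⊔ Subgroup.zpowers a = A)
    (hcard : Nat.card A = n * p) (hAsolv : Group.IsSolvable A)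
    (hsum : ∑ a : A, ρ a = 0) {q r : ℕ} (hq : q.Prime) (hr : r.Prime) (hrq : r ≠ q)
    (hqk : (q : k) ≠ 0) (hnk : (n : k) ≠ 0) (hpk : (p : k) ≠ 0) :
    ∀ (N : ℕ) (D R : Subgroup Γ), Nat.card D + Nat.card R = N →
      A ≤ Subgroup.normalizer (D : Set Γ) → A ≤ Subgroup.normalizer (R : Set Γ) →
      R ≤ Subgroup.normalizer (D : Set Γ) → (∀ x ∈ D, ∃ i : ℕ, ρ x ^ q ^ i = 1) → IsPGroup r R →
      (Nat.card A).Coprime (Nat.card D) → (Nat.card A).Coprime (Nat.card R) →
      (∀ x ∈ D, (∀ a ∈ A, a * x = x * a) → ρ x = 1) →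
      (∀ x ∈ R, (∀ a ∈ A, a * x = x * a) → x = 1) →
      (∀ x ∈ D, c * x = x * c →
        ∑ i ∈ Finset.range n, ρ (x * c ^ i) = ∑ i ∈ Finset.range n, ρ (c ^ i)) →
      (∀ x ∈ D, ∀ y ∈ R, c * x = x * c → c * y = y * c → Commute (ρ x) (ρ y)) →
      ∀ x ∈ D, ∀ y ∈ R, Commute (ρ x) (ρ y) := by
  intro M
  induction M using Nat.strongRecOn with
  | ind M IH =>
  intro D R hM hAD hAR hRD hDq hR hcopD hcopR hDA hRA hDfix hRfix
  classical
  haveI := Fact.mk hn
  haveI := Fact.mk hr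
  haveI := Fact.mk hq
  by_contra hne
  have hR1 : R ≠ ⊥ := fun e => hne fun x _ y hy => by
    rw [e, Subgroup.mem_bot] at hy
    rw [hy, map_one]
    exact Commute.one_right _
  have hTA : Subgroup.zpowers c ≤ A := Subgroup.zpowers_le.mpr hcA
  have hTsolv : Group.IsSolvable (Subgroup.zpowers c) := Coprime.isSolvable_zpowers c
  have hfixT : ∀ {x : Γ}, ρ (c * x * c⁻¹) = ρ x →
      ∀ a ∈ Subgroup.zpowers c, ρ (a * x * a⁻¹) = ρ x := by
    intro x hx a ha
    obtain ⟨i, rfl⟩ := (isOfFinOrder_of_finite c).mem_powers_iff_mem_zpowers.mpr ha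
    dsimp only
    clear ha
    induction i with
    | zero => simp
    | succ i ih =>
      rw [show c ^ (i + 1) * x * (c ^ (i + 1))⁻¹ = c * (c ^ i * x * (c ^ i)⁻¹) * c⁻¹ by
        rw [pow_succ']; group, map_mul, map_mul, ih, ← map_mul, ← map_mul, hx]
  have hcρ : ρ c ≠ 1 := by
    intro hρc
    apply hne
    intro x hx y hy
    have hρc' : ρ c⁻¹ = 1 := by
      have h := map_mul ρ c c⁻¹
      rw [mul_inv_cancel, map_one, hρc, one_mul] at h
      exact h.symm
    obtain ⟨x', hx'D, hx'ρ, hx'c⟩ := exists_fixed_rep ρ (Subgroup.zpowers c) D (hTA.trans hAD) hTsolv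
      (hcopD.coprime_dvd_left (Subgroup.card_dvd_of_le hTA)) hx
      (hfixT (by rw [map_mul, map_mul, hρc, hρc', one_mul, mul_one]))
    have h := hDfix x' hx'D (hx'c c (Subgroup.mem_zpowers c))
    simp only [map_mul, map_pow, hρc, one_pow, mul_one, Finset.sum_const, Finset.card_range,
      ← Nat.cast_smul_eq_nsmul k] at h
    rw [← hx'ρ, smul_right_injective (End k W) hnk h]
    exact Commute.one_left _
  -- smaller configurations
  have hIH : ∀ X S : Subgroup Γ, X ≤ D → S ≤ R → Nat.card X + Nat.card S < M →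
      A ≤ Subgroup.normalizer (X : Set Γ) → A ≤ Subgroup.normalizer (S : Set Γ) →
      S ≤ Subgroup.normalizer (X : Set Γ) → ∀ x ∈ X, ∀ y ∈ S, Commute (ρ x) (ρ y) :=
    fun X S hXD hSR hlt hAX hAS hSX => IH _ hlt X S rfl hAX hAS hSX (fun x hx => hDq x (hXD hx))
      (hR.to_le hSR) (hcopD.coprime_dvd_right (Subgroup.card_dvd_of_le hXD))
      (hcopR.coprime_dvd_right (Subgroup.card_dvd_of_le hSR)) (fun x hx => hDA x (hXD hx))
      (fun x hx => hRA x (hSR hx)) (fun x hx => hDfix x (hXD hx))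
      (fun x hx y hy => hRfix x (hXD hx) y (hSR hy))
  -- the faithful image of the normalizer
  set N := Subgroup.normalizer (D : Set Γ) with hN
  set η := (ρ.comp N.subtype).toHomUnits with hη
  let π := η.rangeRestrict
  haveI : Finite η.range := Finite.of_surjective _ η.rangeRestrict_surjective
  let ρ' : η.range →* End k W := (Units.coeHom _).comp η.range.subtype
  have hρ'π : ∀ g : N, ρ' (π g) = ρ (g : Γ) := fun g => rfl
  have hρ'inj : Function.Injective ρ' := fun a b h => Subtype.ext (Units.ext h)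
  have hπeq : ∀ {g h : N}, π g = π h ↔ ρ (g : Γ) = ρ (h : Γ) := fun {g h} =>
    ⟨fun e => by rw [← hρ'π, e, hρ'π], fun e => hρ'inj (by rw [hρ'π, hρ'π, e])⟩
  have hDN : D ≤ N := Subgroup.le_normalizer
  set A' := (A.subgroupOf N).map π with hA'
  set D' := (D.subgroupOf N).map π with hD'
  set R' := (R.subgroupOf N).map π with hR'
  let cN : N := ⟨c, hAD hcA⟩
  -- `A` maps injectively
  have hAinj : ∀ a ∈ A, ∀ ha : a ∈ N, π ⟨a, ha⟩ = 1 → a = 1 := by
    intro a haA ha h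
    by_contra ha1
    have hρa : ρ a = 1 := by
      rw [← map_one π] at h
      simpa using hπeq.mp h
    apply hcρ
    have hKt : ∀ t ∈ Subgroup.zpowers c, t ≠ 1 → ρ t = 1 → ρ c = 1 := by
      intro t ht ht1 hρt
      have hgen : c ∈ Subgroup.zpowers t := by
        have : Subgroup.zpowers t = Subgroup.zpowers c := by
          refine Coprime.eq_of_le_of_card_le (Subgroup.zpowers_le.mpr ht) ?_
          obtain ⟨i, rfl⟩ := (isOfFinOrder_of_finite c).mem_powers_iff_mem_zpowers.mpr ht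
          rw [Nat.card_zpowers, Nat.card_zpowers, orderOf_eq_prime hcn hc1,
            orderOf_eq_prime (show (c ^ i) ^ n = 1 by rw [← pow_mul, mul_comm, pow_mul, hcn, one_pow])
              ht1]
        rw [this]; exact Subgroup.mem_zpowers c
      obtain ⟨i, hi⟩ := (isOfFinOrder_of_finite t).mem_powers_iff_mem_zpowers.mpr hgen
      dsimp only at hi
      rw [← hi, map_pow, hρt, one_pow]
    by_cases haT : a ∈ Subgroup.zpowers c
    · exact hKt a haT ha1 hρa
    · have hρa' : ρ a⁻¹ = 1 := by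
        have h2 := map_mul ρ a a⁻¹
        rw [mul_inv_cancel, map_one, hρa, one_mul] at h2
        exact h2.symm
      refine hKt ⁅a, c⁆ ?_ (fun e => (hout a haA haT).2.1 (commutatorElement_eq_one_iff_mul_comm.mp e)) ?_
      · rw [commutatorElement_def]
        exact mul_mem ((Subgroup.mem_normalizer_iff.mp (hAT haA) c).mp (Subgroup.mem_zpowers c))
          (inv_mem (Subgroup.mem_zpowers c))
      · rw [commutatorElement_def, map_mul, map_mul, map_mul, hρa, hρa', one_mul, mul_one, ← map_mul,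
          mul_inv_cancel, map_one]
  let e : A → A' := fun a => ⟨π ⟨a, hAD a.2⟩, ⟨a, hAD a.2⟩, a.2, rfl⟩
  have he : Function.Bijective e := by
    refine ⟨fun a b h => ?_, ?_⟩
    · have h2 : π ⟨a, hAD a.2⟩ = π ⟨b, hAD b.2⟩ := congrArg Subtype.val h
      have h3 := hAinj ((b : Γ)⁻¹ * a) (mul_mem (inv_mem b.2) a.2)
        (mul_mem (inv_mem (hAD b.2)) (hAD a.2)) (by
          rw [show (⟨(b : Γ)⁻¹ * a, _⟩ : N) = (⟨b, hAD b.2⟩ : N)⁻¹ * ⟨a, hAD a.2⟩ from Subtype.ext rfl,
            map_mul, map_inv, h2, inv_mul_cancel])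
      exact Subtype.ext (inv_mul_eq_one.mp h3).symm
    · rintro ⟨_, g, hg, rfl⟩
      exact ⟨⟨g, hg⟩, rfl⟩
  letI := Fintype.ofFinite A'
  have hcard' : Nat.card A' = n * p := by rw [← hcard, Nat.card_eq_of_bijective e he]
  have hAcardD : Nat.card D' ∣ Nat.card D :=
    (Subgroup.card_map_dvd _ _).trans (Nat.card_congr (Subgroup.subgroupOfEquivOfLe hDN).toEquiv).dvd
  have hRN : R ≤ N := hRD
  have hAcardR : Nat.card R' ∣ Nat.card R :=
    (Subgroup.card_map_dvd _ _).trans (Nat.card_congr (Subgroup.subgroupOfEquivOfLe hRN).toEquiv).dvd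
  -- lifting fixed elements
  have hconjρ : ∀ {g x : N}, π g * π x = π x * π g → ρ ((g : Γ) * x * (g : Γ)⁻¹) = ρ (x : Γ) := by
    intro g x h
    refine (hπeq (g := g * x * g⁻¹) (h := x)).mp ?_
    rw [map_mul, map_mul, map_inv, h, mul_inv_cancel_right]
  haveI : (D.subgroupOf N).Normal := Subgroup.normal_in_normalizer
  haveI : D'.Normal := Subgroup.Normal.map inferInstance π η.rangeRestrict_surjective
  have hnorm' : ∀ (X : Subgroup Γ), A ≤ Subgroup.normalizer (X : Set Γ) →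
      A' ≤ Subgroup.normalizer (((X.subgroupOf N).map π : Subgroup η.range) : Set η.range) := by
    rintro X hAX _ ⟨g, hg, rfl⟩
    exact Subgroup.le_normalizer_map π ⟨g, Subgroup.mem_normalizer_iff.mpr fun x =>
      Subgroup.mem_normalizer_iff.mp (hAX hg) x, rfl⟩
  refine hne fun x hx y hy => ?_
  by_contra hxy
  refine frobenius_min ρ' hρ'inj A' (c := π cN) ⟨cN, hcA, rfl⟩ hn ?_ ?_ hp hdvd ?_ ?_ hcard'
    ?_ ?_ hq hr hrq hqk hnk hpk D' R' (hnorm' R hAR) ?_ (hR.of_equiv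
      (Subgroup.subgroupOfEquivOfLe hRN).symm |>.map π)
    ((hcard'.trans hcard.symm) ▸ hcopD.coprime_dvd_right hAcardD)
    ((hcard'.trans hcard.symm) ▸ hcopR.coprime_dvd_right hAcardR) ?_ ?_ ?_ ?_ ?_ ?_ ?_
  · rw [← map_pow, show cN ^ n = 1 from Subtype.ext hcn, map_one]
  · exact fun h => hc1 (hAinj c hcA _ h)
  · rintro _ ⟨g, hg, rfl⟩
    rw [← MonoidHom.map_zpowers]
    exact Subgroup.le_normalizer_map π ⟨g, Subgroup.mem_normalizer_iff.mpr fun x => by
      have key : ∀ z : N, z ∈ Subgroup.zpowers cN ↔ (z : Γ) ∈ Subgroup.zpowers c := fun z => by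
        rw [show Subgroup.zpowers c = (Subgroup.zpowers cN).map N.subtype from
          (MonoidHom.map_zpowers N.subtype cN).symm]
        exact ⟨fun h => ⟨z, h, rfl⟩, fun ⟨w, hw, e⟩ => Subtype.ext e ▸ hw⟩
      rw [key, key]
      exact Subgroup.mem_normalizer_iff.mp (hAT hg) x, rfl⟩
  · rintro _ ⟨g, hg, rfl⟩ hgT
    have hgT' : (g : Γ) ∉ Subgroup.zpowers c := fun h => by
      rw [show Subgroup.zpowers c = (Subgroup.zpowers cN).map N.subtype from
        (MonoidHom.map_zpowers N.subtype cN).symm] at h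
      obtain ⟨w, hw, e⟩ := h
      exact hgT (by rw [← Subtype.ext e (a2 := g), ← MonoidHom.map_zpowers]; exact ⟨w, hw, rfl⟩)
    obtain ⟨h1, h2, h3⟩ := hout g hg hgT'
    refine ⟨by rw [← map_pow, show g ^ p = 1 from Subtype.ext h1, map_one], fun e' => h2 ?_, ?_⟩
    · rw [← map_mul, ← map_mul] at e'
      have h4 := hAinj ((c * (g : Γ))⁻¹ * ((g : Γ) * c)) (mul_mem (inv_mem (mul_mem hcA hg)) (mul_mem hg hcA))
        (mul_mem (inv_mem (mul_mem (hAD hcA) g.2)) (mul_mem g.2 (hAD hcA))) (by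
          rw [show (⟨(c * (g : Γ))⁻¹ * ((g : Γ) * c), _⟩ : N) = (cN * g)⁻¹ * (g * cN) from Subtype.ext rfl,
            map_mul, map_inv, e', inv_mul_cancel])
      exact (inv_mul_eq_one.mp h4).symm
    · rw [← MonoidHom.map_zpowers, ← MonoidHom.map_zpowers, ← Subgroup.map_sup, hA']
      congr 1
      refine Subgroup.map_injective N.subtype_injective ?_
      rw [Subgroup.map_sup, MonoidHom.map_zpowers, MonoidHom.map_zpowers,
        Subgroup.map_subgroupOf_eq_of_le (show A ≤ N from hAD)]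
      exact h3
  · exact Coprime.isSolvable_map π (Coprime.isSolvable_subgroupOf hAsolv)
  · exact (Fintype.sum_equiv (Equiv.ofBijective e he) (fun a : A => ρ (a : Γ)) (fun a => ρ' a)
      (fun a => rfl)).symm.trans hsum
  · rintro ⟨_, g, hg, rfl⟩
    obtain ⟨i, hi⟩ := hDq g hg
    exact ⟨i, Subtype.ext (hρ'inj (by
      simp only [SubmonoidClass.coe_pow, map_pow, hρ'π, hi, OneMemClass.coe_one, map_one]))⟩
  · rintro _ ⟨g, hg, rfl⟩ hfix
    obtain ⟨z, hz, hzρ, hzA⟩ := exists_fixed_rep ρ A D hAD hAsolv hcopD hg (fun a ha =>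
      hconjρ (g := ⟨a, hAD ha⟩) (hfix _ ⟨⟨a, hAD ha⟩, ha, rfl⟩))
    exact hρ'inj (by rw [hρ'π, map_one]; exact hzρ.symm.trans (hDA z hz hzA))
  · rintro _ ⟨g, hg, rfl⟩ hfix
    obtain ⟨z, hz, hzρ, hzA⟩ := exists_fixed_rep ρ A R hAR hAsolv hcopR hg (fun a ha =>
      hconjρ (g := ⟨a, hAD ha⟩) (hfix _ ⟨⟨a, hAD ha⟩, ha, rfl⟩))
    exact hρ'inj (by rw [hρ'π, map_one]; exact hzρ.symm.trans ((congrArg ρ (hRA z hz hzA)).trans (map_one ρ)))
  · rintro _ ⟨g, hg, rfl⟩ hfix
    obtain ⟨z, hz, hzρ, hzc⟩ := exists_fixed_rep ρ (Subgroup.zpowers c) D (hTA.trans hAD) hTsolv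
      (hcopD.coprime_dvd_left (Subgroup.card_dvd_of_le hTA)) hg (hfixT (hconjρ hfix))
    have h := hDfix z hz (hzc c (Subgroup.mem_zpowers c))
    simp only [map_mul, map_pow, hρ'π, hzρ] at h ⊢
    exact h
  · rintro _ ⟨g, hg, rfl⟩ _ ⟨g', hg', rfl⟩ hfix hfix'
    obtain ⟨z, hz, hzρ, hzc⟩ := exists_fixed_rep ρ (Subgroup.zpowers c) D (hTA.trans hAD) hTsolv
      (hcopD.coprime_dvd_left (Subgroup.card_dvd_of_le hTA)) hg (hfixT (hconjρ hfix))
    obtain ⟨z', hz', hzρ', hzc'⟩ := exists_fixed_rep ρ (Subgroup.zpowers c) R (hTA.trans hAR) hTsolv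
      (hcopR.coprime_dvd_left (Subgroup.card_dvd_of_le hTA)) hg' (hfixT (hconjρ hfix'))
    have h := (hRfix z hz z' hz' (hzc c (Subgroup.mem_zpowers c)) (hzc' c (Subgroup.mem_zpowers c))).eq
    rw [hzρ, hzρ'] at h
    exact hρ'inj (by rw [map_mul, map_mul, hρ'π, hρ'π]; exact h)
  · intro X' hX' hAX' hRX'
    set X : Subgroup Γ := (X'.comap π ⊓ D.subgroupOf N).map N.subtype with hX
    have hXmem : ∀ {z : Γ}, z ∈ X ↔ ∃ hz : z ∈ N, π ⟨z, hz⟩ ∈ X' ∧ z ∈ D := by
      intro z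
      constructor
      · rintro ⟨w, hw, rfl⟩; exact ⟨w.2, hw.1, hw.2⟩
      · rintro ⟨hz, h1, h2⟩; exact ⟨⟨z, hz⟩, ⟨h1, h2⟩, rfl⟩
    have hXD : X ≤ D := fun z hz => (hXmem.mp hz).2.2
    have hnormX : ∀ (S : Subgroup Γ), S ≤ N →
        (S.subgroupOf N).map π ≤ Subgroup.normalizer (X' : Set η.range) →
        S ≤ Subgroup.normalizer (X : Set Γ) := by
      intro S hSN hS'
      rw [Subgroup.le_normalizer_iff]
      intro g hg z hz
      obtain ⟨hzN, hzX, hzD⟩ := hXmem.mp hz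
      refine hXmem.mpr ⟨mul_mem (mul_mem (hSN hg) hzN) (inv_mem (hSN hg)), ?_,
        (Subgroup.mem_normalizer_iff.mp (hSN hg) z).mp hzD⟩
      rw [show (⟨g * z * g⁻¹, _⟩ : N) = ⟨g, hSN hg⟩ * ⟨z, hzN⟩ * ⟨g, hSN hg⟩⁻¹ from Subtype.ext rfl,
        map_mul, map_mul, map_inv]
      exact (Subgroup.mem_normalizer_iff.mp (hS' ⟨⟨g, hSN hg⟩, hg, rfl⟩) _).mp hzX
    have hlt : Nat.card X + Nat.card R < M := by
      rw [← hM]
      refine Nat.add_lt_add_right ?_ _
      refine lt_of_not_ge fun h => hX'.not_ge ?_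
      rintro _ ⟨w, hw, rfl⟩
      have h2 : (w : Γ) ∈ X := by
        rw [Coprime.eq_of_le_of_card_le hXD h]; exact hw
      exact (hXmem.mp h2).2.1
    intro a ha b hb
    obtain ⟨g, hg, rfl⟩ := hX'.le ha
    obtain ⟨g', hg', rfl⟩ := hb
    have h := (hIH X R hXD le_rfl hlt (hnormX A hAD hAX') hAR (hnormX R hRN hRX') g
      (hXmem.mpr ⟨g.2, ha, hg⟩) g' hg').eq
    exact hρ'inj (by rw [map_mul, map_mul, hρ'π, hρ'π]; exact h)
  · haveI := hR.isNilpotent
    haveI : Nontrivial R := (Subgroup.nontrivial_iff_ne_bot R).mpr hR1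
    have hle : ⁅R, R⁆ ≤ R := Coprime.commutator_le_of_le_normalizer Subgroup.le_normalizer
    have hlt : ⁅R, R⁆ < R := by
      refine lt_of_le_of_ne hle fun e => (Group.IsSolvable.commutator_lt_top_of_nontrivial R).ne ?_
      refine Subgroup.map_injective R.subtype_injective ?_
      rw [Subgroup.map_subtype_commutator, e, ← MonoidHom.range_eq_map, Subgroup.range_subtype]
    have hA2 : A ≤ Subgroup.normalizer ((⁅R, R⁆ : Subgroup Γ) : Set Γ) := fun a ha =>
      Coprime.mem_normalizer_of_conj_smul_eq (by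
        rw [Coprime.conj_smul_commutator, Coprime.conj_smul_eq_of_mem_normalizer (hAR ha)])
    have hcard2 : Nat.card D + Nat.card (⁅R, R⁆ : Subgroup Γ) < M := by
      rw [← hM]
      exact Nat.add_lt_add_left (lt_of_not_ge fun h => hlt.ne (Coprime.eq_of_le_of_card_le hle h)) _
    intro a ha b hb
    obtain ⟨g, hg, rfl⟩ := ha
    rw [hR', ← Subgroup.map_commutator] at hb
    obtain ⟨g', hg', rfl⟩ := hb
    have hg'' : (g' : Γ) ∈ ⁅R, R⁆ := by
      have h2 := Subgroup.mem_map_of_mem N.subtype hg'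
      rwa [Subgroup.map_commutator, Subgroup.map_subgroupOf_eq_of_le hRN] at h2
    have h := (hIH D ⁅R, R⁆ le_rfl hle hcard2 hAD hA2 (hle.trans hRD) g hg g' hg'').eq
    exact hρ'inj (by rw [map_mul, map_mul, hρ'π, hρ'π]; exact h)
  · intro hall
    apply hxy
    have h := congrArg ρ' (hall _ ⟨⟨x, hDN hx⟩, hx, rfl⟩ _ ⟨⟨y, hRN hy⟩, hy, rfl⟩).eq
    rwa [map_mul, map_mul, hρ'π, hρ'π] at h

end Cfsg.Agent.Lib.Solvable.FPF
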