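import Cfsg.Agent.Lib.Solvable.FPF.Module
import Cfsg.Agent.Lib.Coprime.Generation
import Cfsg.Agent.Lib.Coprime.PxQ
import Cfsg.Agent.Lib.Cores

/-!
The linear core of Ward's theorem on fixed-point-free four-groups and their analogues of order `p²`.
-/

set_option autoImplicit false

open scoped commutatorElement

namespace Cfsg.Agent.Lib.Solvable.FPF

open Module Cfsg.Agent.Lib

variable {k : Type*} [Field k] [IsAlgClosed k] {W : Type*} [AddCommGroup W] [Module k W]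
  [FiniteDimensional k W] {Γ : Type*} [Group Γ] [Finite Γ]

theorem sup_zpowers_eq {A : Subgroup Γ} [IsMulCommutative A] {p : ℕ} (hp : p.Prime)
    (hcard : Nat.card A = p ^ 2) (hexp : ∀ a ∈ A, a ^ p = 1) {c d : Γ} (hc : c ∈ A) (hd : d ∈ A)
    (hc1 : c ≠ 1) (hdc : d ∉ Subgroup.zpowers c) :
    Subgroup.zpowers c ⊔ Subgroup.zpowers d = A := by
  haveI := Fact.mk hp
  have hle : Subgroup.zpowers c ⊔ Subgroup.zpowers d ≤ A :=
    sup_le (Subgroup.zpowers_le.mpr hc) (Subgroup.zpowers_le.mpr hd)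
  have hlt : Subgroup.zpowers c < Subgroup.zpowers c ⊔ Subgroup.zpowers d :=
    lt_of_le_of_ne le_sup_left fun e => hdc (e ▸ Subgroup.mem_sup_right (Subgroup.mem_zpowers d))
  have hcc : Nat.card (Subgroup.zpowers c) = p := by
    rw [Nat.card_zpowers]; exact orderOf_eq_prime (hexp c hc) hc1
  refine Coprime.eq_of_le_of_card_le hle ?_
  obtain ⟨j, hj, hj'⟩ := (Nat.dvd_prime_pow hp).mp (hcard ▸ Subgroup.card_dvd_of_le hle)
  have h1 : p < Nat.card ↥(Subgroup.zpowers c ⊔ Subgroup.zpowers d) := by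
    refine hcc ▸ lt_of_not_ge fun e => hlt.ne (Coprime.eq_of_le_of_card_le hlt.le e)
  have h2 : ¬ j ≤ 1 := fun e => absurd (hj' ▸ h1) (not_lt.mpr (by
    calc p ^ j ≤ p ^ 1 := Nat.pow_le_pow_right hp.pos e
      _ = p := pow_one p))
  rw [hcard, hj', show j = 2 by omega]

theorem le_normalizer_of_comm (A : Subgroup Γ) [IsMulCommutative A] {B : Subgroup Γ} (hB : B ≤ A) :
    A ≤ Subgroup.normalizer (B : Set Γ) := by
  intro a ha
  rw [Subgroup.mem_normalizer_iff]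
  intro x
  refine ⟨fun hx => ?_, fun hx => ?_⟩
  · have h := congrArg Subtype.val (IsMulCommutative.is_comm.comm (⟨a, ha⟩ : A) ⟨x, hB hx⟩)
    rw [show a * x = x * a from h, mul_inv_cancel_right]; exact hx
  · have h := congrArg Subtype.val (IsMulCommutative.is_comm.comm (⟨a, ha⟩ : A) ⟨_, hB hx⟩)
    have h' : a * (a * x * a⁻¹) = (a * x * a⁻¹) * a := h
    have h'' : a * x * a⁻¹ = x := by
      have := congrArg (fun t => a⁻¹ * t) h'
      simpa [mul_assoc] using this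
    rwa [h''] at hx

theorem mem_centralizer_of_comm {A : Subgroup Γ} [IsMulCommutative A] {a b : Γ} (ha : a ∈ A)
    (hb : b ∈ A) : a * b = b * a :=
  congrArg Subtype.val (IsMulCommutative.is_comm.comm (⟨a, ha⟩ : A) ⟨b, hb⟩)

/-- Ward's core: `ρ Q` is centralized by `R`. -/
theorem ward_core (ρ : Γ →* End k W) (A : Subgroup Γ) [IsMulCommutative A] [Fintype A] {p : ℕ}
    (hp : p.Prime) (hcard : Nat.card A = p ^ 2) (hexp : ∀ a ∈ A, a ^ p = 1)
    (hsum : ∑ a : A, ρ a = 0) {q r : ℕ} (hq : q.Prime) (hr : r.Prime) (hrq : r ≠ q)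
    (hqk : (q : k) ≠ 0) (Q R : Subgroup Γ) (hAQ : A ≤ Subgroup.normalizer (Q : Set Γ))
    (hAR : A ≤ Subgroup.normalizer (R : Set Γ)) (hRQ : R ≤ Subgroup.normalizer (Q : Set Γ))
    (hQq : ∀ x ∈ Q, ∃ i : ℕ, ρ x ^ q ^ i = 1) (hR : IsPGroup r R)
    (hcopQ : (Nat.card A).Coprime (Nat.card Q)) (hcopR : (Nat.card A).Coprime (Nat.card R))
    (hQA : ∀ x ∈ Q, (∀ a ∈ A, a * x = x * a) → ρ x = 1)
    (hRA : ∀ x ∈ R, (∀ a ∈ A, a * x = x * a) → x = 1)
    (hQd : ∀ d ∈ A, d ≠ 1 → ∀ x ∈ Q, d * x = x * d →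
      ∑ i ∈ Finset.range p, ρ (x * d ^ i) = ∑ i ∈ Finset.range p, ρ (d ^ i))
    (hRd : ∀ d ∈ A, d ≠ 1 → ∀ x ∈ Q, ∀ y ∈ R, d * x = x * d → d * y = y * d →
      Commute (ρ x) (ρ y)) :
    ∀ x ∈ Q, ∀ y ∈ R, Commute (ρ x) (ρ y) := by
  classical
  haveI := Fact.mk hp
  haveI := Fact.mk hq
  haveI := Fact.mk hr
  have hnc : ¬ IsCyclic A := by
    intro hc
    obtain ⟨g, hg⟩ := hc.exists_generator
    have h1 : orderOf g = p ^ 2 := by
      rw [← hcard, ← Nat.card_zpowers, (Subgroup.eq_top_iff' _).mpr hg, Subgroup.card_top]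
    have h2 : orderOf g ∣ p := orderOf_dvd_of_pow_eq_one (Subtype.ext (hexp g g.2))
    rw [h1] at h2
    have := Nat.le_of_dvd hp.pos h2
    have : p * 2 ≤ p * p := Nat.mul_le_mul_left p hp.two_le
    nlinarith [hp.two_le]
  set η := ρ.toHomUnits with hη
  have hηρ : ∀ {a b : Γ}, η a = η b ↔ ρ a = ρ b := fun {a b} => Units.ext_iff
  -- the elements of `R` acting trivially on `ρ Q`
  let S : Subgroup Γ :=
    { carrier := {y | y ∈ Subgroup.normalizer (Q : Set Γ) ∧ ∀ x ∈ Q, ρ (y * x * y⁻¹) = ρ x}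
      one_mem' := ⟨one_mem _, fun x _ => by simp⟩
      mul_mem' := fun {y₁ y₂} h₁ h₂ => ⟨mul_mem h₁.1 h₂.1, fun x hx => by
        rw [show y₁ * y₂ * x * (y₁ * y₂)⁻¹ = y₁ * (y₂ * x * y₂⁻¹) * y₁⁻¹ by group,
          h₁.2 _ ((Subgroup.mem_normalizer_iff.mp h₂.1 x).mp hx), h₂.2 x hx]⟩
      inv_mem' := fun {y} h => ⟨inv_mem h.1, fun x hx => by
        have h1 : y⁻¹ * x * y ∈ Q := (Subgroup.mem_normalizer_iff''.mp h.1 x).mp hx
        rw [inv_inv, ← h.2 _ h1]
        congr 1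
        group⟩ }
  suffices hS : R ≤ S by
    intro x hx y hy
    have h1 := (hS hy).2 x hx
    show ρ x * ρ y = ρ y * ρ x
    rw [← map_mul, ← map_mul, show y * x = (y * x * y⁻¹) * y by group, map_mul ρ (y * x * y⁻¹),
      h1, map_mul]
  rw [← Coprime.iSup_centralizer_eq hnc hAR hcopR]
  refine iSup₂_le fun b hb => ?_
  obtain ⟨hbA, hb1⟩ := hb
  set R₀ := R ⊓ Subgroup.centralizer ({b} : Set Γ) with hR₀
  have hR₀b : ∀ y ∈ R₀, b * y = y * b := fun y hy =>
    Subgroup.mem_centralizer_iff.mp (Subgroup.mem_inf.mp hy).2 b rfl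
  have hR₀R : R₀ ≤ R := inf_le_left
  have hAR₀ : A ≤ Subgroup.normalizer (R₀ : Set Γ) := by
    intro a ha
    rw [Subgroup.mem_normalizer_iff]
    intro y
    have hab := mem_centralizer_of_comm ha hbA
    simp only [hR₀, Subgroup.mem_inf, Subgroup.mem_centralizer_iff, Set.mem_singleton_iff, forall_eq]
    refine and_congr (Subgroup.mem_normalizer_iff.mp (hAR ha) y) ⟨fun h => ?_, fun h => ?_⟩
    · calc b * (a * y * a⁻¹) = (b * a) * y * a⁻¹ := by group
        _ = a * (b * y) * a⁻¹ := by rw [← hab]; group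
        _ = a * y * (b * a⁻¹) := by rw [h]; group
        _ = a * y * (a⁻¹ * b) := by
            rw [show b * a⁻¹ = a⁻¹ * b from (mem_centralizer_of_comm hbA (inv_mem ha))]
        _ = _ := by group
    · calc b * y = a⁻¹ * ((a * b) * y * a⁻¹) * a := by group
        _ = a⁻¹ * (b * (a * y * a⁻¹)) * a := by rw [hab]; group
        _ = a⁻¹ * ((a * y * a⁻¹) * b) * a := by rw [h]
        _ = y * (a⁻¹ * b * a) := by group
        _ = y * b := by rw [show a⁻¹ * b * a = b by rw [mul_assoc, ← hab]; group]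
  set D := ⁅Q, R₀⁆ with hD
  have hR₀Q : R₀ ≤ Subgroup.normalizer (Q : Set Γ) := hR₀R.trans hRQ
  have hDQ : D ≤ Q := Coprime.commutator_le_of_le_normalizer hR₀Q
  have hR₀D : R₀ ≤ Subgroup.normalizer (D : Set Γ) := Subgroup.normalizer_commutator_ge_right Q R₀
  have hAD : A ≤ Subgroup.normalizer (D : Set Γ) := fun a ha =>
    Coprime.mem_normalizer_of_conj_smul_eq (by
      rw [hD, Coprime.conj_smul_commutator, Coprime.conj_smul_eq_of_mem_normalizer (hAQ ha),
        Coprime.conj_smul_eq_of_mem_normalizer (hAR₀ ha)])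
  suffices hD1 : ∀ x ∈ D, ρ x = 1 by
    intro y hy
    refine ⟨hR₀Q hy, fun x hx => ?_⟩
    have h1 := hD1 _ (Subgroup.commutator_mem_commutator (inv_mem hx) hy)
    rw [commutatorElement_def, inv_inv] at h1
    have h2 : ρ x * ρ (x⁻¹ * y * x * y⁻¹) = ρ x := by rw [h1, mul_one]
    rw [← map_mul] at h2
    rw [← h2]
    congr 1
    group
  by_contra hne
  push Not at hne
  -- the image of `D` is a nontrivial `q`-group
  set ι := η.rangeRestrict with hι
  have hιρ : ∀ {a c : Γ}, ι a = ι c ↔ ρ a = ρ c := fun {a c} => by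
    rw [← hηρ]; exact Subtype.ext_iff
  haveI : Finite η.range := Finite.of_surjective _ η.rangeRestrict_surjective
  have hQι : IsPGroup q (Q.map ι) := by
    rintro ⟨_, x, hx, rfl⟩
    obtain ⟨i, hi⟩ := hQq x hx
    refine ⟨i, Subtype.ext ?_⟩
    show ι x ^ q ^ i = 1
    rw [← map_pow, ← map_one ι, hιρ, map_pow, hi, map_one]
  have hDι : IsPGroup q (D.map ι) := hQι.to_le (Subgroup.map_mono hDQ)
  have hDD : D.map ι = (⁅D, R₀⁆ : Subgroup Γ).map ι := by
    simp only [hD, Subgroup.map_commutator]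
    refine (Coprime.commutator_commutator_eq (G := η.range) (A := R₀.map ι) (K := Q.map ι) ?_ ?_ ?_).symm
    · exact (Subgroup.map_mono hR₀Q).trans (Subgroup.le_normalizer_map ι)
    · obtain ⟨i, hi⟩ := IsPGroup.iff_card.mp ((hR.to_le hR₀R).map ι)
      obtain ⟨j, hj⟩ := IsPGroup.iff_card.mp hQι
      rw [hi, hj]
      exact Nat.Coprime.pow _ _ ((Nat.coprime_primes hr hq).mpr hrq)
    · haveI := hQι.isNilpotent
      exact Or.inr inferInstance
  let Z : Subgroup Γ :=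
    { carrier := {x | x ∈ D ∧ ∀ y ∈ D, Commute (ρ x) (ρ y)}
      one_mem' := ⟨one_mem _, fun y _ => by rw [map_one]; exact Commute.one_left _⟩
      mul_mem' := fun {a c} ha hc => ⟨mul_mem ha.1 hc.1, fun y hy => by
        rw [map_mul]; exact (ha.2 y hy).mul_left (hc.2 y hy)⟩
      inv_mem' := fun {a} ha => ⟨inv_mem ha.1, fun y hy => by
        show ρ a⁻¹ * ρ y = ρ y * ρ a⁻¹
        calc ρ a⁻¹ * ρ y = ρ a⁻¹ * (ρ y * ρ a) * ρ a⁻¹ := by
              rw [← map_mul, ← map_mul, ← map_mul, ← map_mul]; congr 1; group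
          _ = ρ a⁻¹ * (ρ a * ρ y) * ρ a⁻¹ := by rw [(ha.2 y hy).eq]
          _ = _ := by rw [← map_mul, ← map_mul, ← map_mul, ← map_mul]; congr 1; group⟩ }
  have hZD : Z ≤ D := fun x hx => hx.1
  have hNZ : Subgroup.normalizer (D : Set Γ) ≤ Subgroup.normalizer (Z : Set Γ) := by
    have key : ∀ g ∈ Subgroup.normalizer (D : Set Γ), ∀ x ∈ Z, g * x * g⁻¹ ∈ Z := by
      intro g hg x hx
      refine ⟨(Subgroup.mem_normalizer_iff.mp hg x).mp hx.1, fun y hy => ?_⟩
      have h1 := hx.2 _ ((Subgroup.mem_normalizer_iff''.mp hg y).mp hy)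
      show ρ (g * x * g⁻¹) * ρ y = ρ y * ρ (g * x * g⁻¹)
      calc ρ (g * x * g⁻¹) * ρ y = ρ g * (ρ x * ρ (g⁻¹ * y * g)) * ρ g⁻¹ := by
            simp only [← map_mul]; congr 1; group
        _ = ρ g * (ρ (g⁻¹ * y * g) * ρ x) * ρ g⁻¹ := by rw [h1.eq]
        _ = _ := by simp only [← map_mul]; congr 1; group
    intro g hg
    rw [Subgroup.mem_normalizer_iff]
    exact fun x => ⟨key g hg x, fun hx => by simpa [mul_assoc] using key g⁻¹ (inv_mem hg) _ hx⟩
  haveI : Nontrivial (D.map ι) := by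
    obtain ⟨x, hx, hx1⟩ := hne
    refine (Subgroup.nontrivial_iff_ne_bot _).mpr fun e => hx1 ?_
    have h1 : ι x ∈ (⊥ : Subgroup η.range) := e ▸ Subgroup.mem_map_of_mem ι hx
    rw [Subgroup.mem_bot, ← map_one ι, hιρ, map_one] at h1
    exact h1
  haveI := hDι.center_nontrivial
  obtain ⟨⟨⟨_, z, hzD, rfl⟩, hzc⟩, hz1⟩ := exists_ne (1 : Subgroup.center (D.map ι))
  have hρz : ρ z ≠ 1 := fun e => hz1 (Subtype.ext (Subtype.ext (by
    show ι z = 1
    rw [← map_one ι, hιρ, e, map_one])))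
  have hzZ : z ∈ Z := ⟨hzD, fun y hy => by
    have h1 := congrArg Subtype.val (Subgroup.mem_center_iff.mp hzc ⟨ι y, y, hy, rfl⟩)
    have h2 : ι (y * z) = ι (z * y) := by rw [map_mul, map_mul]; exact h1
    rw [hιρ, map_mul, map_mul] at h2
    exact h2.symm⟩
  obtain ⟨i, hi⟩ := hQq z (hDQ hzD)
  obtain ⟨χ, v, hv0, hv, hχz⟩ := exists_weight' ρ Z (fun a ha c hc => ha.2 c hc.1) hzZ
    (n := q ^ i) (by rw [Nat.cast_pow]; exact pow_ne_zero _ hqk) hi hρz
  let χe : Γ → k := fun g => if h : g ∈ Z then χ ⟨g, h⟩ else 0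
  have hχe : ∀ {g : Γ}, g ∈ Z → ρ g v = χe g • v := fun {g} hg => by
    simp only [χe, dif_pos hg]; exact hv ⟨g, hg⟩
  have hmulχ : ∀ {a c : Γ}, a ∈ Z → c ∈ Z → χe (a * c) = χe a * χe c := fun {a c} ha hc => by
    refine smul_left_injective k hv0 (show χe (a * c) • v = (χe a * χe c) • v from ?_)
    rw [← hχe (mul_mem ha hc), map_mul, End.mul_apply, hχe hc, map_smul, hχe ha, smul_smul, mul_comm]
  have hρeq : ∀ {a c : Γ}, a ∈ Z → c ∈ Z → ρ a = ρ c → χe a = χe c := fun {a c} ha hc e =>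
    smul_left_injective k hv0 (show χe a • v = χe c • v by rw [← hχe ha, ← hχe hc, e])
  have hχ1 : χe 1 = 1 := smul_left_injective k hv0 (show χe 1 • v = (1 : k) • v by
    rw [← hχe (one_mem Z), map_one, one_smul]; rfl)
  have hχq : ∀ g ∈ Z, ∃ j : ℕ, χe g ^ q ^ j = 1 := fun g hg => by
    obtain ⟨j, hj⟩ := hQq g (hDQ (hZD hg))
    refine ⟨j, ?_⟩
    have h1 : ∀ m : ℕ, χe (g ^ m) = χe g ^ m := by
      intro m
      induction m with
      | zero => rw [pow_zero, pow_zero, hχ1]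
      | succ m ih => rw [pow_succ, pow_succ, hmulχ (pow_mem hg m) hg, ih]
    rw [← h1, ← hχ1]
    exact hρeq (pow_mem hg _) (one_mem _) (by rw [map_pow, hj, map_one])
  have hroot : ∀ {x y : k} (jx jy : ℕ), x ^ q ^ jx = 1 → y ^ q ^ jy = 1 → x ^ p = y ^ p → x = y := by
    intro x y jx jy hx hy hxy
    have hy0 : y ≠ 0 := fun e => by rw [e, zero_pow (pow_ne_zero _ hq.ne_zero)] at hy; exact zero_ne_one hy
    suffices x / y = 1 by rwa [div_eq_one_iff_eq hy0] at this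
    rw [← orderOf_eq_one_iff]
    refine Nat.eq_one_of_dvd_coprimes (Nat.Coprime.pow_right (jx + jy) ?_)
      (orderOf_dvd_of_pow_eq_one (show (x / y) ^ p = 1 by
        rw [div_pow, hxy, div_self (pow_ne_zero _ hy0)]))
      (orderOf_dvd_of_pow_eq_one (show (x / y) ^ q ^ (jx + jy) = 1 by
        rw [div_pow, pow_add, pow_mul, hx, one_pow, mul_comm, pow_mul, hy, one_pow, div_one]))
    by_contra hpq
    rw [Nat.coprime_primes hp hq, not_not] at hpq
    subst hpq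
    have h1 : Nat.card (D.map ι) ∣ Nat.card Q :=
      (Subgroup.card_map_dvd D ι).trans (Subgroup.card_dvd_of_le hDQ)
    have h2 := hDι.card_eq_or_dvd.resolve_left (Finite.one_lt_card (α := D.map ι)).ne'
    exact hp.ne_one (Nat.eq_one_of_dvd_coprimes hcopQ (hcard ▸ dvd_pow_self p two_ne_zero) (h2.trans h1))
  -- the stabilizer of the weight
  let F : Subgroup Γ :=
    { carrier := {g | g ∈ Subgroup.normalizer (Z : Set Γ) ∧ ∀ x ∈ Z, χe (g * x * g⁻¹) = χe x}
      one_mem' := ⟨one_mem _, fun x _ => by simp⟩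
      mul_mem' := fun {g₁ g₂} h₁ h₂ => ⟨mul_mem h₁.1 h₂.1, fun x hx => by
        rw [show g₁ * g₂ * x * (g₁ * g₂)⁻¹ = g₁ * (g₂ * x * g₂⁻¹) * g₁⁻¹ by group,
          h₁.2 _ ((Subgroup.mem_normalizer_iff.mp h₂.1 x).mp hx), h₂.2 x hx]⟩
      inv_mem' := fun {g} h => ⟨inv_mem h.1, fun x hx => by
        have h1 : g⁻¹ * x * g ∈ Z := (Subgroup.mem_normalizer_iff''.mp h.1 x).mp hx
        rw [inv_inv, ← h.2 _ h1]
        congr 1
        group⟩ }
  obtain ⟨c, hcA, hc1, hcfix⟩ := exists_fix_weight ρ A Z hsum (hAD.trans hNZ) χ v hv0 hv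
  have hcF : c ∈ F := ⟨hNZ (hAD hcA), fun x hx => by
    have h' : c * x * c⁻¹ ∈ Z := (Subgroup.mem_normalizer_iff.mp (hNZ (hAD hcA)) x).mp hx
    simp only [χe, dif_pos hx, dif_pos h']
    exact hcfix ⟨x, hx⟩ h'⟩
  have hlift : ∀ B : Subgroup Γ, B ≤ A → ∀ x ∈ Z, (∀ a ∈ B, ρ (a * x * a⁻¹) = ρ x) →
      ∃ y ∈ D, ρ y = ρ x ∧ ∀ a ∈ B, a * y = y * a := by
    intro B hB x hx hfix
    have hnk : ∀ g ∈ Subgroup.normalizer (D : Set Γ),
        g ∈ Subgroup.normalizer ((D ⊓ η.ker : Subgroup Γ) : Set Γ) := by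
      intro g hg
      rw [Subgroup.mem_normalizer_iff]
      intro y
      simp only [Subgroup.mem_inf]
      exact and_congr (Subgroup.mem_normalizer_iff.mp hg y)
        ⟨fun h => Subgroup.Normal.conj_mem inferInstance y h g, fun h => by
          simpa [mul_assoc] using Subgroup.Normal.conj_mem inferInstance _ h g⁻¹⟩
    obtain ⟨n, hn, hxn⟩ := Coprime.exists_mem_centralizer_of_fixed_coset (A := B) (N := D ⊓ η.ker)
      (k := x) (fun a ha => hnk a (hAD (hB ha)))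
      ((hcopQ.coprime_dvd_left (Subgroup.card_dvd_of_le hB)).coprime_dvd_right
        (Subgroup.card_dvd_of_le (inf_le_left.trans hDQ)))
      (Or.inl (Group.isSolvable_of_comm fun a c => Subtype.ext
        (mem_centralizer_of_comm (hB a.2) (hB c.2))))
      (hnk x (Subgroup.le_normalizer (hZD hx))) (fun a ha => Subgroup.mem_inf.mpr
        ⟨mul_mem ((Subgroup.mem_normalizer_iff.mp (hAD (hB ha)) x).mp (hZD hx)) (inv_mem (hZD hx)), by
          rw [MonoidHom.mem_ker, ← map_one η, hηρ, map_mul, hfix a ha, ← map_mul, mul_inv_cancel]⟩)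
    rw [Subgroup.mem_inf, MonoidHom.mem_ker, ← map_one η, hηρ, map_one] at hn
    exact ⟨x * n, mul_mem (hZD hx) hn.1, by rw [map_mul, hn.2, mul_one],
      fun a ha => Subgroup.mem_centralizer_iff.mp hxn a ha⟩
  -- norms
  have hnorm : ∀ g ∈ A, g ∈ F → ∀ x ∈ Z,
      (x * g) ^ p ∈ Z ∧ χe ((x * g) ^ p) = χe x ^ p ∧
        ρ (g * (x * g) ^ p * g⁻¹) = ρ ((x * g) ^ p) ∧
        ∀ a ∈ A, ρ (a * x * a⁻¹) = ρ x → ρ (a * (x * g) ^ p * a⁻¹) = ρ ((x * g) ^ p) := by
    intro g hgA hgF x hx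
    have hgi : ∀ m : ℕ, (x * g) ^ m * (g ^ m)⁻¹ ∈ Z ∧ χe ((x * g) ^ m * (g ^ m)⁻¹) = χe x ^ m := by
      intro m
      induction m with
      | zero => simp [hχ1]
      | succ m ih =>
        have hgm : g ^ m ∈ F := pow_mem hgF m
        have hstep : (x * g) ^ (m + 1) * (g ^ (m + 1))⁻¹ =
            ((x * g) ^ m * (g ^ m)⁻¹) * (g ^ m * x * (g ^ m)⁻¹) := by
          rw [pow_succ, pow_succ]; group
        have h2 : g ^ m * x * (g ^ m)⁻¹ ∈ Z := (Subgroup.mem_normalizer_iff.mp hgm.1 x).mp hx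
        rw [hstep]
        exact ⟨mul_mem ih.1 h2, by rw [hmulχ ih.1 h2, ih.2, hgm.2 x hx, pow_succ]⟩
    obtain ⟨hyZ, hyχ⟩ := hgi p
    rw [hexp g hgA, inv_one, mul_one] at hyZ hyχ
    refine ⟨hyZ, hyχ, ?_, fun a ha hax => ?_⟩
    · have h1 : g * (x * g) ^ p * g⁻¹ = x⁻¹ * (x * g) ^ p * x := by
        rw [← conj_pow]
        conv_rhs => rw [show x⁻¹ * (x * g) ^ p * x = x⁻¹ * (x * g) ^ p * (x⁻¹)⁻¹ by rw [inv_inv], ← conj_pow]
        congr 1
        group
      rw [h1, map_mul, map_mul, ((inv_mem hx : x⁻¹ ∈ Z).2 _ (hZD hyZ)).eq, mul_assoc, ← map_mul,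
        inv_mul_cancel, map_one, mul_one]
    · rw [← conj_pow, map_pow, map_pow]
      congr 1
      rw [show a * (x * g) * a⁻¹ = (a * x * a⁻¹) * (a * g * a⁻¹) by group, map_mul, hax,
        mem_centralizer_of_comm ha hgA, mul_inv_cancel_right, ← map_mul]
  -- no other element of `A` fixes the weight
  have hnofix : ∀ d ∈ A, d ∉ Subgroup.zpowers c → d ∉ F := by
    intro d hd hdc hdF
    obtain ⟨hy₁, hy₁χ, hy₁c, -⟩ := hnorm c hcA hcF z hzZ
    obtain ⟨hy₂, hy₂χ, hy₂d, hy₂a⟩ := hnorm d hd hdF _ hy₁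
    set y₂ := ((z * c) ^ p * d) ^ p with hy₂def
    let T : Subgroup Γ :=
      { carrier := {g | g ∈ A ∧ ρ (g * y₂ * g⁻¹) = ρ y₂}
        one_mem' := ⟨one_mem _, by simp⟩
        mul_mem' := fun {g₁ g₂} h₁ h₂ => ⟨mul_mem h₁.1 h₂.1, by
          rw [show g₁ * g₂ * y₂ * (g₁ * g₂)⁻¹ = g₁ * (g₂ * y₂ * g₂⁻¹) * g₁⁻¹ by group,
            map_mul, map_mul, h₂.2, ← map_mul, ← map_mul, h₁.2]⟩
        inv_mem' := fun {g} h => ⟨inv_mem h.1, by
          rw [inv_inv, map_mul, map_mul]; conv_lhs => rw [← h.2]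
          rw [← map_mul, ← map_mul]; congr 1; group⟩ }
    have hAT : A ≤ T := by
      rw [← sup_zpowers_eq hp hcard hexp hcA hd hc1 hdc]
      exact sup_le (Subgroup.zpowers_le.mpr ⟨hcA, hy₂a c hcA hy₁c⟩)
        (Subgroup.zpowers_le.mpr ⟨hd, hy₂d⟩)
    obtain ⟨y, hyD, hyρ, hyc⟩ := hlift A le_rfl y₂ hy₂ (fun a ha => (hAT ha).2)
    have h1 : χe y₂ = 1 := by
      rw [← hχ1]
      exact hρeq hy₂ (one_mem _) (by rw [← hyρ, hQA y (hDQ hyD) hyc, map_one])
    rw [hy₂χ, hy₁χ, ← pow_mul] at h1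
    apply hχz
    have hz' : χe z = χ ⟨z, hzZ⟩ := by simp [χe, hzZ]
    rw [← hz']
    obtain ⟨j, hj⟩ := hχq z hzZ
    have h2 : χe z ^ p = 1 := hroot (x := χe z ^ p) (y := 1) j 0
      (by rw [← pow_mul, mul_comm, pow_mul, hj, one_pow]) (by simp)
      (by rw [← pow_mul, h1, one_pow])
    exact hroot j 0 hj (by simp) (by rw [h2, one_pow])
  have hzp : ∀ {d : Γ}, d ∈ A → d ≠ 1 → ∀ {a : Γ}, a ∈ Subgroup.zpowers d → a ≠ 1 →
      d ∈ Subgroup.zpowers a := by
    intro d hd hd1 a ha ha1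
    have : Subgroup.zpowers a = Subgroup.zpowers d := by
      refine Coprime.eq_of_le_of_card_le (Subgroup.zpowers_le.mpr ha) ?_
      rw [Nat.card_zpowers, Nat.card_zpowers,
        orderOf_eq_prime (hexp a (Subgroup.zpowers_le.mpr hd ha)) ha1,
        orderOf_eq_prime (hexp d hd) hd1]
    exact this ▸ Subgroup.mem_zpowers d
  set f : R₀ → R₀ := fun y => ⟨(y : Γ) * c * (y : Γ)⁻¹ * c⁻¹, by
    have h1 := (Subgroup.mem_normalizer_iff.mp (hAR₀ hcA) _).mp (inv_mem y.2)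
    simpa [mul_assoc] using mul_mem y.2 h1⟩ with hf
  have hfsurj : c ∉ Subgroup.zpowers b → Function.Surjective f := by
    intro hcb
    refine Finite.surjective_of_injective fun y₁ y₂ h => ?_
    have h1 : (y₁ : Γ) * c * (y₁ : Γ)⁻¹ = (y₂ : Γ) * c * (y₂ : Γ)⁻¹ :=
      mul_right_cancel (congrArg Subtype.val h)
    set w := ((y₂ : Γ)⁻¹ * y₁) with hw
    have hwc : c * w = w * c := by
      calc c * w = (y₂ : Γ)⁻¹ * ((y₂ : Γ) * c * (y₂ : Γ)⁻¹) * y₁ := by rw [hw]; group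
        _ = (y₂ : Γ)⁻¹ * ((y₁ : Γ) * c * (y₁ : Γ)⁻¹) * y₁ := by rw [h1]
        _ = _ := by rw [hw]; group
    have hwR : w ∈ R₀ := mul_mem (inv_mem y₂.2) y₁.2
    have hw1 : w = 1 := hRA w (hR₀R hwR) fun a ha => by
      have hA' : A ≤ Subgroup.centralizer {w} := by
        rw [← sup_zpowers_eq hp hcard hexp hbA hcA hb1 hcb]
        refine sup_le (Subgroup.zpowers_le.mpr ?_) (Subgroup.zpowers_le.mpr ?_)
        · exact Subgroup.mem_centralizer_iff.mpr fun g hg => by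
            rw [Set.mem_singleton_iff.mp hg]; exact (hR₀b w hwR).symm
        · exact Subgroup.mem_centralizer_iff.mpr fun g hg => by
            rw [Set.mem_singleton_iff.mp hg]; exact hwc.symm
      exact (Subgroup.mem_centralizer_iff.mp (hA' ha) w rfl).symm
    exact Subtype.ext (inv_mul_eq_one.mp hw1).symm
  -- `R₀` fixes the weight
  have hR₀F : R₀ ≤ F := by
    intro y hy
    by_cases hcb : c ∈ Subgroup.zpowers b
    · have hbF : b ∈ F := (Subgroup.zpowers_le.mpr hcF) (hzp hbA hb1 hcb hc1)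
      refine ⟨hNZ (hR₀D hy), fun x hx => ?_⟩
      obtain ⟨hx', hx'χ, hx'b, -⟩ := hnorm b hbA hbF x hx
      have hxy : y * x * y⁻¹ ∈ Z := (Subgroup.mem_normalizer_iff.mp (hNZ (hR₀D hy)) x).mp hx
      obtain ⟨hy', hy'χ, -, -⟩ := hnorm b hbA hbF _ hxy
      obtain ⟨x'', hx''D, hx''ρ, hx''b⟩ := hlift (Subgroup.zpowers b) (Subgroup.zpowers_le.mpr hbA)
        _ hx' (by
          let T : Subgroup Γ :=
            { carrier := {g | ρ (g * (x * b) ^ p * g⁻¹) = ρ ((x * b) ^ p)}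
              one_mem' := by simp
              mul_mem' := fun {g₁ g₂} h₁ h₂ => by
                show ρ (g₁ * g₂ * (x * b) ^ p * (g₁ * g₂)⁻¹) = _
                rw [show g₁ * g₂ * (x * b) ^ p * (g₁ * g₂)⁻¹ =
                    g₁ * (g₂ * (x * b) ^ p * g₂⁻¹) * g₁⁻¹ by group,
                  map_mul, map_mul, h₂, ← map_mul, ← map_mul, h₁]
              inv_mem' := fun {g} h => by
                show ρ (g⁻¹ * (x * b) ^ p * g⁻¹⁻¹) = _
                rw [inv_inv, map_mul, map_mul]; conv_lhs => rw [← h]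
                rw [← map_mul, ← map_mul]; congr 1; group }
          exact Subgroup.zpowers_le.mpr (show b ∈ T from hx'b))
      have hcomm := hRd b hbA hb1 x'' (hDQ hx''D) y (hR₀R hy)
        (hx''b b (Subgroup.mem_zpowers b)) (hR₀b y hy)
      rw [hx''ρ] at hcomm
      obtain ⟨j, hj⟩ := hχq x hx
      obtain ⟨j', hj'⟩ := hχq _ hxy
      refine hroot j' j hj' hj ?_
      rw [← hy'χ, ← hx'χ]
      refine hρeq hy' hx' ?_
      have e : y * x * y⁻¹ * b = y * (x * b) * y⁻¹ := by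
        rw [show y * (x * b) * y⁻¹ = (y * x * y⁻¹) * (y * b * y⁻¹) by group,
          ← hR₀b y hy, mul_inv_cancel_right]
      rw [e, conj_pow, map_mul, map_mul, ← hcomm.eq, mul_assoc, ← map_mul, mul_inv_cancel, map_one,
        mul_one]
    · obtain ⟨⟨y₀, hy₀⟩, hfy⟩ := hfsurj hcb ⟨y, hy⟩
      have hyv : y₀ * c * y₀⁻¹ * c⁻¹ = y := congrArg Subtype.val hfy
      -- the weight conjugated by `y₀`
      have hy₀Z := hNZ (hR₀D hy₀)
      have hy₀mem : ∀ x : Z, y₀ * x * y₀⁻¹ ∈ Z := fun x =>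
        (Subgroup.mem_normalizer_iff.mp hy₀Z x).mp x.2
      obtain ⟨c', hc'A, hc'1, hc'fix⟩ := exists_fix_weight ρ A Z hsum (hAD.trans hNZ)
        (fun x => χe (y₀ * x * y₀⁻¹)) (ρ y₀⁻¹ v)
        (fun e => hv0 (by
          have h1 := congrArg (ρ y₀) e
          rw [map_zero, ← End.mul_apply, ← map_mul, mul_inv_cancel, map_one] at h1
          exact h1))
        (fun x => by
          rw [← End.mul_apply, ← map_mul, show (x : Γ) * y₀⁻¹ = y₀⁻¹ * (y₀ * x * y₀⁻¹) by group,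
            map_mul, End.mul_apply, hχe (hy₀mem x), map_smul])
      have hc'F : y₀ * c' * y₀⁻¹ ∈ F := by
        have hn : y₀ * c' * y₀⁻¹ ∈ Subgroup.normalizer (Z : Set Γ) :=
          mul_mem (mul_mem hy₀Z (hNZ (hAD hc'A))) (inv_mem hy₀Z)
        refine ⟨hn, fun x hx => ?_⟩
        have h1 : y₀⁻¹ * x * y₀ ∈ Z := (Subgroup.mem_normalizer_iff''.mp hy₀Z x).mp hx
        have h2 := hc'fix ⟨_, h1⟩ ((Subgroup.mem_normalizer_iff.mp (hNZ (hAD hc'A)) _).mp h1)
        dsimp only at h2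
        rw [show y₀ * (c' * (y₀⁻¹ * x * y₀) * c'⁻¹) * y₀⁻¹ =
            y₀ * c' * y₀⁻¹ * x * (y₀ * c' * y₀⁻¹)⁻¹ by group,
          show y₀ * (y₀⁻¹ * x * y₀) * y₀⁻¹ = x by group] at h2
        exact h2
      have hc'b : c' ∉ Subgroup.zpowers b := fun h => by
        have hfixb : y₀ * c' * y₀⁻¹ = c' := by
          have : ∀ g ∈ Subgroup.zpowers b, g ∈ Subgroup.centralizer {y₀} := fun g hg =>
            (Subgroup.zpowers_le.mpr (Subgroup.mem_centralizer_iff.mpr fun g hg => by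
              rw [Set.mem_singleton_iff.mp hg]; exact (hR₀b y₀ hy₀).symm)) hg
          rw [Subgroup.mem_centralizer_iff.mp (this c' h) y₀ rfl, mul_inv_cancel_right]
        rw [hfixb] at hc'F
        have h1 : c' ∈ Subgroup.zpowers c := by_contra fun hn => hnofix c' hc'A hn hc'F
        exact hcb ((Subgroup.zpowers_le.mpr h) (hzp hcA hc1 h1 hc'1))
      have hcmem : c ∈ Subgroup.zpowers c' ⊔ Subgroup.zpowers b :=
        (sup_zpowers_eq hp hcard hexp hc'A hbA hc'1 (fun h => hc'b (hzp hc'A hc'1 h hb1))).symm ▸ hcA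
      obtain ⟨n, hn, h, hh, hnh⟩ := Coprime.exists_mul_of_mem_sup
        ((Subgroup.zpowers_le.mpr hbA).trans
          (le_normalizer_of_comm A (Subgroup.zpowers_le.mpr hc'A))) hcmem
      have hnF : y₀ * n * y₀⁻¹ ∈ F := by
        obtain ⟨m, rfl⟩ := (isOfFinOrder_of_finite c').mem_powers_iff_mem_zpowers.mpr hn
        show y₀ * c' ^ m * y₀⁻¹ ∈ F
        rw [← conj_pow]
        exact pow_mem hc'F m
      have hhA : h ∈ A := Subgroup.zpowers_le.mpr hbA hh
      have hhy : h * y₀ = y₀ * h := by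
        have : ∀ g ∈ Subgroup.zpowers b, g ∈ Subgroup.centralizer {y₀} := fun g hg =>
          (Subgroup.zpowers_le.mpr (Subgroup.mem_centralizer_iff.mpr fun g hg => by
            rw [Set.mem_singleton_iff.mp hg]; exact (hR₀b y₀ hy₀).symm)) hg
        exact (Subgroup.mem_centralizer_iff.mp (this h hh) y₀ rfl).symm
      have hhyy : Commute h⁻¹ y := by
        refine (Commute.inv_left ?_)
        rw [← hyv]
        have h1 : Commute h y₀ := hhy
        have h2 : Commute h c := mem_centralizer_of_comm hhA hcA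
        exact ((h1.mul_right h2).mul_right h1.inv_right).mul_right h2.inv_right
      have huh : y * h⁻¹ ∈ F := by
        have : y₀ * n * y₀⁻¹ * c⁻¹ = y * h⁻¹ := by
          rw [show n = c * h⁻¹ by rw [hnh, mul_inv_cancel_right], ← hyv]
          have h1 : h⁻¹ * y₀⁻¹ = y₀⁻¹ * h⁻¹ := by rw [← mul_inv_rev, ← hhy, mul_inv_rev]
          have h2 : h⁻¹ * c⁻¹ = c⁻¹ * h⁻¹ :=
            mem_centralizer_of_comm (inv_mem hhA) (inv_mem hcA)
          calc y₀ * (c * h⁻¹) * y₀⁻¹ * c⁻¹ = y₀ * c * (h⁻¹ * y₀⁻¹) * c⁻¹ := by group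
            _ = y₀ * c * y₀⁻¹ * (h⁻¹ * c⁻¹) := by rw [h1]; group
            _ = _ := by rw [h2]; group
        rw [← this]
        exact mul_mem hnF (inv_mem hcF)
      have hyp : y ^ p ∈ F := by
        have := pow_mem huh p
        rwa [hhyy.symm.mul_pow, inv_pow, hexp h hhA, inv_one, mul_one] at this
      obtain ⟨m, hm⟩ := exists_pow_eq_self_of_coprime (x := y) (n := p) (by
        refine Nat.Coprime.coprime_dvd_right (Subgroup.orderOf_dvd_natCard R (hR₀R hy)) ?_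
        exact hcopR.coprime_dvd_left (hcard ▸ dvd_pow_self p two_ne_zero))
      rw [← hm]
      exact pow_mem hyp m
  -- the weight space
  let P : W → Prop := fun w => ∀ x ∈ Z, ρ x w = χe x • w
  have hPF : ∀ {g : Γ}, g ∈ F → ∀ {w}, P w → P (ρ g w) := by
    intro g hg w hw x hx
    have h1 : g⁻¹ * x * g ∈ Z := (Subgroup.mem_normalizer_iff''.mp hg.1 x).mp hx
    have h2 := (inv_mem hg).2 x hx
    rw [inv_inv] at h2
    rw [← End.mul_apply, ← map_mul, show x * g = g * (g⁻¹ * x * g) by group, map_mul,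
      End.mul_apply, hw _ h1, map_smul, h2]
  have hPD : ∀ {g : Γ}, g ∈ D → ∀ {w}, P w → P (ρ g w) := by
    intro g hg w hw x hx
    rw [← End.mul_apply, (hx.2 g hg).eq, End.mul_apply, hw x hx, map_smul]
  have hinvρ : ∀ (g : Γ) (w : W), ρ g (ρ g⁻¹ w) = w := fun g w => by
    rw [← End.mul_apply, ← map_mul, mul_inv_cancel, map_one]; rfl
  have hKd : ∀ d ∈ A, d ∉ Subgroup.zpowers c → ∀ x ∈ D, d * x = x * d → ∀ w, P w → ρ x w = w := by
    intro d hd hdc x hx hdx w hw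
    have hd1 : d ≠ 1 := fun e => hdc (e ▸ one_mem _)
    have h1 := congrArg (fun e : End k W => e w) (hQd d hd hd1 x (hDQ hx) hdx)
    simp only [LinearMap.sum_apply] at h1
    have hsum' : ∑ m ∈ Finset.range p, ρ (d ^ m) (ρ x w - w) = 0 := by
      simp only [map_sub, Finset.sum_sub_distrib, ← End.mul_apply, ← map_mul]
      rw [sub_eq_zero, ← h1]
      refine Finset.sum_congr rfl fun m _ => ?_
      rw [(Commute.pow_left hdx m).eq]
    have hP' : P (ρ x w - w) := fun y hy => by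
      rw [map_sub, hPD hx hw y hy, hw y hy, smul_sub]
    have hdN : ∀ m : ℕ, d ^ m ∈ Subgroup.normalizer (Z : Set Γ) := fun m => pow_mem (hNZ (hAD hd)) m
    have h2 := eq_zero_of_sum_eq_zero (fun y : Z => ρ y) (Finset.range p)
      (fun m => ρ (d ^ m) (ρ x w - w)) (fun m (y : Z) => χe ((d ^ m)⁻¹ * y * d ^ m))
      (fun m _ y => by
        rw [← End.mul_apply, ← map_mul,
          show (y : Γ) * d ^ m = d ^ m * ((d ^ m)⁻¹ * y * d ^ m) by group, map_mul, End.mul_apply,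
          hP' _ ((Subgroup.mem_normalizer_iff''.mp (hdN m) _).mp y.2), map_smul])
      (fun m hm m' hm' he => by
        by_contra hne
        have hg : d ^ m' * (d ^ m)⁻¹ ∈ F := by
          refine ⟨mul_mem (hdN m') (inv_mem (hdN m)), fun y hy => ?_⟩
          have hy' : (d ^ m) * y * (d ^ m)⁻¹ ∈ Z := (Subgroup.mem_normalizer_iff.mp (hdN m) y).mp hy
          have hc' : Commute (d ^ m') (d ^ m)⁻¹ := ((Commute.refl d).pow_pow m' m).inv_right
          have hy'' : d ^ m' * y * (d ^ m')⁻¹ ∈ Z := (Subgroup.mem_normalizer_iff.mp (hdN m') y).mp hy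
          have e := congrFun he ⟨_, hy''⟩
          dsimp only at e
          rw [show (d ^ m')⁻¹ * (d ^ m' * y * (d ^ m')⁻¹) * d ^ m' = y by group] at e
          rw [← e]
          congr 1
          rw [hc'.eq]
          group
        refine hnofix d hd hdc ?_
        have hg1 : d ^ m' * (d ^ m)⁻¹ ≠ 1 := by
          rw [Ne, mul_inv_eq_one]
          intro e
          refine hne (pow_injOn_Iio_orderOf ?_ ?_ e.symm) <;>
            rw [Set.mem_Iio, orderOf_eq_prime (hexp d hd) hd1]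
          · exact Finset.mem_range.mp hm
          · exact Finset.mem_range.mp hm'
        exact (Subgroup.zpowers_le.mpr hg) (hzp hd hd1
          (mul_mem (pow_mem (Subgroup.mem_zpowers d) _)
            (inv_mem (pow_mem (Subgroup.mem_zpowers d) _))) hg1))
      hsum' 0 (Finset.mem_range.mpr hp.pos)
    simpa [sub_eq_zero] using h2
  -- a subgroup criterion on `D`
  have hgen : ∀ g : Γ, g ∈ Subgroup.normalizer (D : Set Γ) → g ∈ F →
      (∀ d ∈ A, d ≠ 1 → ∀ x ∈ D, d * x = x * d → ∀ w, P w → ρ (g * x * g⁻¹) w = ρ x w) →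
      ∀ x ∈ D, ∀ w, P w → ρ (g * x * g⁻¹) w = ρ x w := by
    intro g hgD hgF hd
    let H : Subgroup Γ :=
      { carrier := {x | x ∈ D ∧ ∀ w, P w → ρ (g * x * g⁻¹) w = ρ x w}
        one_mem' := ⟨one_mem _, fun w _ => by simp⟩
        mul_mem' := fun {x₁ x₂} h₁ h₂ => ⟨mul_mem h₁.1 h₂.1, fun w hw => by
          rw [show g * (x₁ * x₂) * g⁻¹ = (g * x₁ * g⁻¹) * (g * x₂ * g⁻¹) by group, map_mul,
            End.mul_apply, h₂.2 w hw, h₁.2 _ (hPD h₂.1 hw), ← End.mul_apply, ← map_mul]⟩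
        inv_mem' := fun {x} h => ⟨inv_mem h.1, fun w hw => by
          have h1 := h.2 _ (hPD (inv_mem h.1) hw)
          rw [hinvρ] at h1
          calc ρ (g * x⁻¹ * g⁻¹) w = ρ (g * x⁻¹ * g⁻¹) (ρ (g * x * g⁻¹) (ρ x⁻¹ w)) := by rw [h1]
            _ = ρ x⁻¹ w := by
              rw [← End.mul_apply, ← map_mul, show g * x⁻¹ * g⁻¹ * (g * x * g⁻¹) = 1 by group,
                map_one]; rfl⟩ }
    have hDH : D ≤ H := by
      rw [← Coprime.iSup_centralizer_eq hnc hAD (hcopQ.coprime_dvd_right (Subgroup.card_dvd_of_le hDQ))]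
      refine iSup₂_le fun d hd' x hx => ?_
      rw [Subgroup.mem_inf] at hx
      exact ⟨hx.1, hd d hd'.1 hd'.2 x hx.1 (Subgroup.mem_centralizer_iff.mp hx.2 d rfl)⟩
    exact fun x hx => (hDH hx).2
  have hcD : ∀ x ∈ D, ∀ w, P w → ρ (c * x * c⁻¹) w = ρ x w :=
    hgen c (hAD hcA) hcF fun d hd hd1 x hx hdx w hw => by
      by_cases hdc : d ∈ Subgroup.zpowers c
      · obtain ⟨m, hm⟩ := (isOfFinOrder_of_finite d).mem_powers_iff_mem_zpowers.mpr
          (hzp hcA hc1 hdc hd1)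
        dsimp only at hm
        rw [← hm, (Commute.pow_left hdx m).eq, mul_inv_cancel_right]
      · have hx' : c * x * c⁻¹ ∈ D := (Subgroup.mem_normalizer_iff.mp (hAD hcA) x).mp hx
        have hdc' : Commute d c := mem_centralizer_of_comm hd hcA
        rw [hKd d hd hdc x hx hdx w hw,
          hKd d hd hdc _ hx' ((hdc'.mul_right hdx).mul_right hdc'.inv_right).eq w hw]
  have hyD : ∀ y ∈ R₀, ∀ x ∈ D, ∀ w, P w → ρ (y * x * y⁻¹) w = ρ x w := by
    intro y hy
    by_cases hcb : c ∈ Subgroup.zpowers b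
    · refine hgen y (hR₀D hy) (hR₀F hy) fun d hd hd1 x hx hdx w hw => ?_
      by_cases hdc : d ∈ Subgroup.zpowers c
      · have hdb : d ∈ Subgroup.zpowers b := (Subgroup.zpowers_le.mpr hcb) hdc
        obtain ⟨m, hm⟩ := (isOfFinOrder_of_finite d).mem_powers_iff_mem_zpowers.mpr
          (hzp hbA hb1 hdb hd1)
        dsimp only at hm
        have hbx : b * x = x * b := by rw [← hm]; exact (Commute.pow_left hdx m).eq
        have hcomm := hRd b hbA hb1 x (hDQ hx) y (hR₀R hy) hbx (hR₀b y hy)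
        rw [map_mul, map_mul, ← hcomm.eq, mul_assoc, ← map_mul, mul_inv_cancel, map_one, mul_one]
      · rw [hKd d hd hdc x hx hdx w hw, map_mul, map_mul, End.mul_apply, End.mul_apply,
          hKd d hd hdc x hx hdx _ (hPF (hR₀F (inv_mem hy)) hw), hinvρ]
    · obtain ⟨⟨y₀, hy₀⟩, hfy⟩ := hfsurj hcb ⟨y, hy⟩
      have hyv : y₀ * c * y₀⁻¹ * c⁻¹ = y := congrArg Subtype.val hfy
      intro x hx w hw
      set x₁ := c⁻¹ * x * c with hx₁def
      have hx₁ : x₁ ∈ D := (Subgroup.mem_normalizer_iff''.mp (hAD hcA) x).mp hx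
      set x₂ := y₀⁻¹ * x₁ * y₀ with hx₂def
      have hx₂ : x₂ ∈ D := (Subgroup.mem_normalizer_iff''.mp (hR₀D hy₀) x₁).mp hx₁
      calc ρ (y * x * y⁻¹) w = ρ (y₀ * (c * x₂ * c⁻¹) * y₀⁻¹) w := by
            rw [← hyv, hx₂def, hx₁def]; congr 2; group
        _ = ρ y₀ (ρ (c * x₂ * c⁻¹) (ρ y₀⁻¹ w)) := by rw [map_mul, map_mul]; rfl
        _ = ρ y₀ (ρ x₂ (ρ y₀⁻¹ w)) := by rw [hcD x₂ hx₂ _ (hPF (hR₀F (inv_mem hy₀)) hw)]
        _ = ρ x₁ w := by
            rw [← End.mul_apply, ← End.mul_apply, ← map_mul, ← map_mul, hx₂def]; congr 2; group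
        _ = ρ x w := by
            rw [← hcD x₁ hx₁ w hw, hx₁def]; congr 2; group
  let K : Subgroup Γ :=
    { carrier := {x | x ∈ D ∧ ∀ w, P w → ρ x w = w}
      one_mem' := ⟨one_mem _, fun w _ => by simp⟩
      mul_mem' := fun {x₁ x₂} h₁ h₂ => ⟨mul_mem h₁.1 h₂.1, fun w hw => by
        rw [map_mul, End.mul_apply, h₂.2 w hw, h₁.2 w hw]⟩
      inv_mem' := fun {x} h => ⟨inv_mem h.1, fun w hw => by
        have h1 := h.2 _ (hPD (inv_mem h.1) hw)
        rw [hinvρ] at h1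
        exact h1.symm⟩ }
  have hDK : ⁅D, R₀⁆ ≤ K := by
    rw [Subgroup.commutator_le]
    intro x hx y hy
    refine ⟨Coprime.commutator_le_of_le_normalizer hR₀D (Subgroup.commutator_mem_commutator hx hy),
      fun w hw => ?_⟩
    rw [show ⁅x, y⁆ = x * (y * x⁻¹ * y⁻¹) by rw [commutatorElement_def]; group, map_mul,
      End.mul_apply, hyD y hy _ (inv_mem hx) w hw, hinvρ]
  obtain ⟨z', hz', hzz'⟩ := (hDD ▸ Subgroup.mem_map_of_mem ι hzD : ι z ∈ (⁅D, R₀⁆ : Subgroup Γ).map ι)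
  have h1 : ρ z' v = v := (hDK hz').2 v (fun x hx => hχe hx)
  rw [hιρ.mp hzz', hχe hzZ] at h1
  refine hχz ?_
  have h2 : χe z = 1 := smul_left_injective k hv0 (show χe z • v = (1 : k) • v by rw [h1, one_smul])
  simpa [χe, hzZ] using h2

end Cfsg.Agent.Lib.Solvable.FPF
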