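import Cfsg.Agent.Lib.Solvable.FPF.Elementary
import Cfsg.Agent.Lib.Solvable.FPF.WardCore
import Cfsg.Agent.Lib.Solvable.FixedPointFree
import Cfsg.Agent.S1459
import Cfsg.Agent.Lib.Coprime.External

/-!
Ward's theorem: a solvable group with a fixed-point-free elementary group of operators of order `p²`
has Fitting height at most two.
-/

set_option autoImplicit false

open scoped commutatorElement

universe u v

namespace Cfsg.Agent.Lib.Solvable.FPF

open Module Cfsg.Agent.Lib SemidirectProduct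

section Basic

variable {G : Type u} [Group G] [Finite G] {A : Type v} [Group A] [Finite A]

theorem fixed_of_two (φ : A →* MulAut G) (hcomm : IsMulCommutative A) {p : ℕ} (hp : p.Prime)
    (hcard : Nat.card A = p ^ 2) (hexp : ∀ a : A, a ^ p = 1) {a d : A} (hd : d ≠ 1)
    (had : a ∉ Subgroup.zpowers d) {g : G} (hag : φ a g = g) (hdg : φ d g = g) :
    ∀ x : A, φ x g = g := by
  haveI := hcomm
  haveI : IsMulCommutative (⊤ : Subgroup A) :=
    ⟨⟨fun x y => Subtype.ext (IsMulCommutative.is_comm.comm (x : A) y)⟩⟩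
  let T : Subgroup A :=
    { carrier := {x | φ x g = g}
      one_mem' := by simp
      mul_mem' := fun {x y} hx hy => by
        show φ (x * y) g = g
        rw [map_mul, MulAut.mul_apply, hy, hx]
      inv_mem' := fun {x} hx => by
        show φ x⁻¹ g = g
        conv_lhs => rw [← show φ x g = g from hx]
        rw [← MulAut.mul_apply, ← map_mul, inv_mul_cancel, map_one, MulAut.one_apply] }
  have h : (⊤ : Subgroup A) ≤ T := by
    rw [← sup_zpowers_eq (A := (⊤ : Subgroup A)) hp (by rw [Subgroup.card_top, hcard])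
      (fun x _ => hexp x) (Subgroup.mem_top d) (Subgroup.mem_top a) hd had]
    exact sup_le (Subgroup.zpowers_le.mpr hdg) (Subgroup.zpowers_le.mpr hag)
  exact fun x => h (Subgroup.mem_top x)

theorem fixed_isNilpotent (φ : A →* MulAut G) (hcomm : IsMulCommutative A) {p : ℕ} (hp : p.Prime)
    (hcard : Nat.card A = p ^ 2) (hexp : ∀ a : A, a ^ p = 1)
    (hfpf : ∀ g, (∀ a, φ a g = g) → g = 1) {d : A} (hd : d ≠ 1) :
    Group.IsNilpotent ↥(MonoidHom.eqLocus (φ d).toMonoidHom (MonoidHom.id G)) := by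
  haveI := Fact.mk hp
  set C := MonoidHom.eqLocus (φ d).toMonoidHom (MonoidHom.id G)
  have hC : ∀ g, g ∈ C ↔ φ d g = g := fun g => Iff.rfl
  obtain ⟨a, ha⟩ : ∃ a, a ∉ Subgroup.zpowers d := by
    by_contra h
    push Not at h
    have h1 : Nat.card (Subgroup.zpowers d) = p ^ 2 := by
      rw [(Subgroup.eq_top_iff' _).mpr h, Subgroup.card_top, hcard]
    rw [Nat.card_zpowers, orderOf_eq_prime (hexp d) hd] at h1
    have h2 : p ^ 1 = p ^ 2 := by rw [pow_one]; exact h1
    exact absurd (Nat.pow_right_injective hp.two_le h2) (by norm_num)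
  have hinv : C.map (φ a).toMonoidHom = C := FixedPointFree.map_eq_of_le fun x hx => by
    rw [hC] at hx ⊢
    rw [← MulAut.mul_apply, ← map_mul, hcomm.is_comm.comm d a, map_mul, MulAut.mul_apply, hx]
  refine FixedPointFree.isNilpotent_of_fixedPointFree hp (FixedPointFree.restrict (φ a) C hinv) ?_ ?_
  · refine MulEquiv.ext fun x => Subtype.ext ?_
    rw [FixedPointFree.restrict_pow, ← map_pow, hexp a, map_one]
    rfl
  · intro x hx
    exact Subtype.ext (hfpf x (fixed_of_two φ hcomm hp hcard hexp hd ha (congrArg Subtype.val hx) x.2))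

theorem not_dvd_card_of_fpf (φ : A →* MulAut G) {p : ℕ} [Fact p.Prime] (hA : IsPGroup p A)
    (hfpf : ∀ g, (∀ a, φ a g = g) → g = 1) : ¬ p ∣ Nat.card G := by
  intro hd
  letI : MulAction A G := MulAction.compHom G φ
  have h1 := hA.card_modEq_card_fixedPoints (α := G)
  have hfix : MulAction.fixedPoints A G = {1} := by
    ext g
    simp only [MulAction.mem_fixedPoints, Set.mem_singleton_iff]
    refine ⟨fun h => hfpf g h, fun h a => ?_⟩
    subst h
    exact map_one (φ a)
  rw [hfix, Nat.card_coe_set_eq, Set.ncard_singleton] at h1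
  exact (Fact.out : p.Prime).one_lt.ne' (Nat.dvd_one.mp ((h1.dvd_iff dvd_rfl).mp hd))

end Basic

/-- An element whose order is prime to `s` together with an `s`-power determines the element. -/
theorem commute_of_commute_pow {Γ : Type*} [Group Γ] {x y : Γ} {m n : ℕ} (hmn : m.Coprime n)
    (hm : Commute (x ^ m) y) (hn : Commute (x ^ n) y) : Commute x y := by
  have h1 := Nat.gcd_eq_gcd_ab m n
  rw [Nat.coprime_iff_gcd_eq_one.mp hmn] at h1
  have h2 : x = (x ^ m) ^ (Nat.gcdA m n) * (x ^ n) ^ (Nat.gcdB m n) := by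
    rw [← zpow_natCast, ← zpow_natCast x n, ← zpow_mul, ← zpow_mul, ← zpow_add, ← h1]
    simp
  rw [h2]
  exact (hm.zpow_left _).mul_left (hn.zpow_left _)

theorem ward_aux : ∀ (n : ℕ) (G : Type u) [Group G] [Finite G] (A : Type v) [Group A] [Finite A]
    (φ : A →* MulAut G) (p : ℕ), Nat.card G = n → Group.IsSolvable G → p.Prime →
    IsMulCommutative A → Nat.card A = p ^ 2 → (∀ a : A, a ^ p = 1) →
    (∀ g, (∀ a, φ a g = g) → g = 1) →
    Group.IsNilpotent (G ⧸ Cfsg.fittingSubgroup G) := by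
  intro n
  induction n using Nat.strongRecOn with
  | ind n IH =>
  intro G _ _ A _ _ φ p hn hsol hp hcomm hcard hexp hfpf
  classical
  haveI := hcomm
  haveI := Fact.mk hp
  rcases subsingleton_or_nontrivial G with hG | hG
  · haveI : Subsingleton (G ⧸ Cfsg.fittingSubgroup G) :=
      (QuotientGroup.mk_surjective).subsingleton
    exact Group.IsNilpotent.mk ⟨0, Subsingleton.elim _ _⟩
  have hAp : IsPGroup p A := IsPGroup.of_card hcard
  have hpG : ¬ p ∣ Nat.card G := not_dvd_card_of_fpf φ hAp hfpf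
  have hcopG : (Nat.card A).Coprime (Nat.card G) := by
    rw [hcard]; exact Nat.Coprime.pow_left 2 (hp.coprime_iff_not_dvd.mpr hpG)
  have hAsolv : Group.IsSolvable A := Group.isSolvable_of_comm fun a b => hcomm.is_comm.comm a b
  obtain ⟨s, V, hs, hVc, hV0, hVcomm, hVexp, hVF⟩ := exists_elementary_char hsol
  haveI := Fact.mk hs
  set F := Cfsg.fittingSubgroup G with hF
  haveI : F.Normal := Cores.fittingSubgroup_normal G
  let π := QuotientGroup.mk' V
  have hVφ : ∀ a, ∀ x ∈ V, φ a x ∈ V := fun a x hx => apply_mem_of_characteristic (φ a) V hx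
  -- the quotient by `V`
  let φV : A →* MulAut (G ⧸ V) :=
    { toFun := fun a => quotAut (φ a) V (hVφ a)
      map_one' := MulEquiv.ext fun y => by
        induction y using QuotientGroup.induction_on with
        | H y => rw [quotAut_mk, map_one]; rfl
      map_mul' := fun a b => MulEquiv.ext fun y => by
        induction y using QuotientGroup.induction_on with
        | H y => rw [MulAut.mul_apply, quotAut_mk, quotAut_mk, quotAut_mk, map_mul]; rfl }
  have hlt : Nat.card (G ⧸ V) < n := by
    rw [← hn, Subgroup.card_eq_card_quotient_mul_card_subgroup V]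
    exact lt_mul_of_one_lt_right Nat.card_pos (V.one_lt_card_iff_ne_bot.mpr hV0)
  haveI hIH := IH _ hlt (G ⧸ V) A φV p rfl
    (Coprime.isSolvable_of_surjective' (QuotientGroup.mk'_surjective V) hsol) hp hcomm hcard hexp
    (fun y hy => by
      induction y using QuotientGroup.induction_on with
      | H y =>
        have hk : ∀ a, φ a y * y⁻¹ ∈ V := fun a => by
          have h1 := hy a
          change quotAut (φ a) V (hVφ a) (y : G ⧸ V) = y at h1
          rw [quotAut_mk, QuotientGroup.eq_iff_div_mem, div_eq_mul_inv] at h1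
          exact h1
        obtain ⟨m, hm, hfix⟩ := Coprime.exists_fixed_of_fixed_coset φ hcopG (Or.inl hAsolv) hVφ y hk
        have h2 := hfpf _ hfix
        rw [QuotientGroup.eq_one_iff, eq_inv_of_mul_eq_one_left h2]
        exact inv_mem hm)
  set M := (Cfsg.fittingSubgroup (G ⧸ V)).comap π with hM
  haveI : M.Normal := Subgroup.Normal.comap inferInstance π
  -- the semidirect product
  haveI : Finite (G ⋊[φ] A) := Coprime.finite_semidirect φ
  set V' := V.map (inl : G →* G ⋊[φ] A) with hV'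
  haveI : V'.Normal := by
    refine ⟨?_⟩
    rintro _ ⟨x, hx, rfl⟩ g
    refine ⟨g.left * φ g.right x * g.left⁻¹, ?_, ?_⟩
    · exact Subgroup.Normal.conj_mem inferInstance _ (hVφ _ x hx) _
    · conv_rhs => rw [← inl_left_mul_inr_right g]
      rw [mul_inv_rev, map_mul, map_mul, map_inv, inl_aut]
      simp only [map_inv, mul_assoc]
  letI : CommGroup V' := { (inferInstance : Group V') with
    mul_comm := by
      rintro ⟨_, a, ha, rfl⟩ ⟨_, b, hb, rfl⟩
      exact Subtype.ext (by
        show inl a * inl b = inl b * inl a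
        rw [← map_mul, ← map_mul, (hVcomm a ha b hb).eq]) }
  obtain ⟨ρ₀, hρ₀, hnormρ⟩ := exists_representation (V := V') (s := s) (by
    rintro ⟨_, a, ha, rfl⟩
    exact Subtype.ext (by show (inl a) ^ s = 1; rw [← map_pow, hVexp a ha, map_one]))
  let ψ : G ⋊[φ] A →* MulAut V' := MulAut.conjNormal
  let ρ := ρ₀.comp ψ
  have hρker : ∀ {x : G}, ρ (inl x) = 1 → x ∈ Subgroup.centralizer (V : Set G) := fun {x} hx =>
    Subgroup.mem_centralizer_iff.mpr fun w hw => by
      have h1 : ψ (inl x) = 1 := hρ₀ (hx.trans (map_one ρ₀).symm)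
      have h2 := congrArg Subtype.val (DFunLike.congr_fun h1 (⟨inl w, w, hw, rfl⟩ : V'))
      simp only [ψ, MulAut.conjNormal_apply, MulAut.one_apply] at h2
      rw [← map_inv, ← map_mul, ← map_mul] at h2
      exact (mul_inv_eq_iff_eq_mul.mp (inl_injective h2)).symm
  set A' := (inr : A →* G ⋊[φ] A).range with hA'
  haveI hA'c : IsMulCommutative A' := ⟨⟨by
    rintro ⟨_, a, rfl⟩ ⟨_, b, rfl⟩
    exact Subtype.ext (by
      show inr a * inr b = inr b * inr a
      rw [← map_mul, ← map_mul, hcomm.is_comm.comm a b])⟩⟩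
  have hA'card : Nat.card A' = p ^ 2 := by
    rw [← hcard]
    exact (Nat.card_congr (MonoidHom.ofInjective (f := (inr : A →* G ⋊[φ] A)) inr_injective).toEquiv).symm
  have hA'exp : ∀ a ∈ A', a ^ p = 1 := by
    rintro _ ⟨a, rfl⟩
    rw [← map_pow, hexp a, map_one]
  haveI := Fintype.ofFinite A'
  have hfix_inl : ∀ (a : A) (g : G),
      (inr a * inl g : G ⋊[φ] A) = inl g * inr a ↔ φ a g = g := by
    intro a g
    rw [← inl_inj (φ := φ), inl_aut, map_inv, mul_inv_eq_iff_eq_mul]
  have hsum : ∑ a : A', ρ a = 0 := by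
    let e := (Fintype.equivFin A').symm
    rw [← Fintype.sum_equiv e (fun i => ρ (e i)) _ (fun i => rfl)]
    have h1 := hnormρ (fun i => ψ (e i)) (fun i : Fin 0 => (1 : MulAut V')) (fun w => by
      refine Eq.trans ?_ (Fin.prod_univ_zero (fun _ : Fin 0 => (1 : MulAut V') w)).symm
      refine (Fintype.prod_equiv e (fun i => ψ (e i) w) (fun a => ψ a w) (fun i => rfl)).trans ?_
      set u := ∏ a : A', ψ a w with hu
      have huA : ∀ b : A', ψ b u = u := fun b => by
        rw [hu, map_prod]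
        exact Fintype.prod_equiv (Equiv.mulLeft b) _ _ (fun a => by
          rw [Equiv.coe_mulLeft, Subgroup.coe_mul, map_mul, MulAut.mul_apply])
      obtain ⟨g, hg, hgu⟩ := u.2
      have hg1 : g = 1 := hfpf g fun a => (hfix_inl a g).mp (by
        have h2 := congrArg Subtype.val (huA ⟨inr a, a, rfl⟩)
        simp only [ψ, MulAut.conjNormal_apply] at h2
        rw [← hgu] at h2
        exact mul_inv_eq_iff_eq_mul.mp h2)
      exact Subtype.ext (by rw [← hgu, hg1, map_one]; rfl))
    simpa [ρ] using h1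
  have hnil : ∀ d : A, d ≠ 1 → ∀ x y : G, φ d x = x → φ d y = y →
      (orderOf x).Coprime (orderOf y) → Commute x y := by
    intro d hd x y hx hy hco
    haveI := fixed_isNilpotent φ hcomm hp hcard hexp hfpf hd
    have := Cfsg.Agent.S1459.commute_of_coprime_orderOf
      (N := ↥(MonoidHom.eqLocus (φ d).toMonoidHom (MonoidHom.id G))) ⟨x, hx⟩ ⟨y, hy⟩
      (by rwa [← Subgroup.orderOf_coe, ← Subgroup.orderOf_coe])
    exact congrArg Subtype.val this
  -- the parts of `M`
  have key : ∀ (q r : ℕ), q.Prime → r.Prime → r ≠ q → ∀ (R : Subgroup G), IsPGroup r R →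
      (∀ a, ∀ y ∈ R, φ a y ∈ R) → ∀ x ∈ (Cfsg.pCore q (G ⧸ V)).comap π, ∀ y ∈ R, ⁅x, y⁆ ∈ F := by
    intro q r hq hr hrq R hR hRφ x hx y hy
    haveI := Fact.mk hq
    haveI := Fact.mk hr
    set Mq := (Cfsg.pCore q (G ⧸ V)).comap π with hMq
    haveI : Mq.Normal := Subgroup.Normal.comap inferInstance π
    have hMqφ : ∀ a, ∀ z ∈ Mq, φ a z ∈ Mq := fun a z hz => by
      have h1 := apply_mem_of_characteristic (quotAut (φ a) V (hVφ a)) (Cfsg.pCore q (G ⧸ V))
        (show ((z : G) : G ⧸ V) ∈ Cfsg.pCore q (G ⧸ V) from hz)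
      rw [quotAut_mk] at h1
      exact h1
    have hpow : ∀ z ∈ Mq, ∃ i, z ^ q ^ i ∈ V := fun z hz => by
      obtain ⟨i, hi⟩ := Cores.pCore_isPGroup q (G ⧸ V) ⟨π z, hz⟩
      refine ⟨i, (QuotientGroup.eq_one_iff _).mp ?_⟩
      simpa [π] using congrArg Subtype.val hi
    have hcomm' : ⁅x, y⁆ ∈ Mq := by
      rw [commutatorElement_def, show x * y * x⁻¹ * y⁻¹ = x * (y * x⁻¹ * y⁻¹) by group]
      exact mul_mem hx (Subgroup.Normal.conj_mem inferInstance _ (inv_mem hx) y)
    by_cases hqs : q = s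
    · subst hqs
      have hMp : IsPGroup q Mq := fun z => by
        obtain ⟨i, hi⟩ := hpow z z.2
        refine ⟨i + 1, Subtype.ext ?_⟩
        rw [SubmonoidClass.coe_pow, pow_succ, pow_mul]
        exact hVexp _ hi
      exact ((Cores.le_pCore inferInstance hMp).trans (Cores.pCore_le_fittingSubgroup q)) hcomm'
    have hinl : ∀ {S : Subgroup G}, (∀ a, ∀ z ∈ S, φ a z ∈ S) →
        A' ≤ Subgroup.normalizer ((S.map inl : Subgroup (G ⋊[φ] A)) : Set (G ⋊[φ] A)) :=
      fun {S} hS => Coprime.inr_le_normalizer_map φ hS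
    have hρV : ∀ z ∈ V, ρ (inl z) = 1 := fun z hz => by
      show ρ₀ (ψ (inl z)) = 1
      have : ψ (inl z) = 1 := MulEquiv.ext fun w => Subtype.ext (by
        obtain ⟨w', hw', hw''⟩ := w.2
        simp only [ψ, MulAut.conjNormal_apply, MulAut.one_apply, ← hw'']
        rw [← map_inv, ← map_mul, ← map_mul, (hVcomm z hz w' hw').eq, mul_inv_cancel_right])
      rw [this, map_one]
    have hqk : (q : AlgebraicClosure (ZMod s)) ≠ 0 := fun e =>
      hqs ((Nat.prime_dvd_prime_iff_eq hs hq).mp
        ((CharP.cast_eq_zero_iff (AlgebraicClosure (ZMod s)) s q).mp e)).symm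
    have hcop' : ∀ (S : Subgroup G),
        (Nat.card A').Coprime (Nat.card (S.map inl : Subgroup (G ⋊[φ] A))) := fun S => by
      rw [hA'card, Subgroup.card_map_of_injective inl_injective, ← hcard]
      exact hcopG.coprime_dvd_right (Subgroup.card_subgroup_dvd_card S)
    have hcent : ∀ z : G, (∀ a ∈ A', a * inl z = inl z * a) → z = 1 := fun z hz =>
      hfpf z fun a => (hfix_inl a z).mp (hz _ ⟨a, rfl⟩)
    have hc := ward_core ρ A' hp hA'card hA'exp hsum hq hr hrq hqk (Mq.map inl) (R.map inl)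
      (hinl hMqφ) (hinl hRφ)
      (fun z hz => by
        obtain ⟨z', -, rfl⟩ := hz
        exact Subgroup.le_normalizer_map (inl : G →* G ⋊[φ] A)
          ⟨z', (Subgroup.normalizer_eq_top_iff.mpr ‹Mq.Normal›).symm ▸ Subgroup.mem_top z', rfl⟩)
      (by
        rintro _ ⟨z, hz, rfl⟩
        obtain ⟨i, hi⟩ := hpow z hz
        exact ⟨i, by rw [← map_pow, ← map_pow, hρV _ hi]⟩)
      (hR.map inl) (hcop' Mq) (hcop' R)
      (by
        rintro _ ⟨z, -, rfl⟩ hz
        rw [hcent z hz, map_one, map_one])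
      (by
        rintro _ ⟨z, -, rfl⟩ hz
        rw [hcent z hz, map_one])
      (by
        rintro _ ⟨d, rfl⟩ hd1 _ ⟨z, hz, rfl⟩ hdz
        have hd : d ≠ 1 := fun e => hd1 (by rw [e, map_one])
        have hφz := (hfix_inl d z).mp hdz
        rw [← Fin.sum_univ_eq_sum_range (fun i => ρ (inl z * inr d ^ i)),
          ← Fin.sum_univ_eq_sum_range (fun i => ρ (inr d ^ i))]
        refine hnormρ (fun i : Fin p => ψ (inl z * inr d ^ (i : ℕ))) (fun i : Fin p => ψ (inr d ^ (i : ℕ)))
          fun w => ?_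
        simp only [map_mul, MulAut.mul_apply]
        rw [← map_prod]
        set u := ∏ i : Fin p, ψ (inr d ^ (i : ℕ)) w with hu
        have hdu : ψ (inr d) u = u := by
          have hz0 : p ≠ 0 := hp.ne_zero
          obtain ⟨p', rfl⟩ : ∃ p', p = p' + 1 := ⟨p - 1, by omega⟩
          rw [hu, map_prod]
          refine Fintype.prod_equiv (finRotate (p' + 1)) _ _ (fun i => ?_)
          rw [← MulAut.mul_apply, ← map_mul, ← pow_succ', finRotate_succ_apply, Fin.val_add_one]
          split_ifs with h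
          · rw [h, Fin.val_last, ← map_pow, hexp d, map_one, pow_zero]
          · rfl
        obtain ⟨u', hu', huu⟩ := u.2
        refine Subtype.ext ?_
        simp only [ψ, MulAut.conjNormal_apply] at hdu ⊢
        have hφu : φ d u' = u' := (hfix_inl d u').mp (by
          have h2 := congrArg Subtype.val hdu
          simp only [MulAut.conjNormal_apply] at h2
          rw [← huu] at h2
          exact mul_inv_eq_iff_eq_mul.mp h2)
        have hcz : Commute z u' := by
          obtain ⟨i, hi⟩ := hpow z hz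
          refine commute_of_commute_pow (m := q ^ i) (n := s ^ (orderOf z).factorization s)
            (Nat.Coprime.pow _ _ ((Nat.coprime_primes hq hs).mpr hqs)) (hVcomm _ hi _ hu') ?_
          refine hnil d hd _ _ (by rw [map_pow, hφz]) hφu ?_
          have hord : orderOf u' ∣ s := orderOf_dvd_of_pow_eq_one (hVexp _ hu')
          refine Nat.Coprime.coprime_dvd_right hord ?_
          rw [orderOf_pow' _ (pow_ne_zero _ hs.ne_zero),
            Nat.gcd_eq_right (Nat.ordProj_dvd (orderOf z) s)]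
          exact (Nat.coprime_ordCompl hs (orderOf_pos z).ne').symm
        rw [← huu, ← map_inv, ← map_mul, ← map_mul, hcz.eq, mul_inv_cancel_right])
      (by
        rintro _ ⟨d, rfl⟩ hd1 _ ⟨z, hz, rfl⟩ _ ⟨y', hy', rfl⟩ hdz hdy
        have hd : d ≠ 1 := fun e => hd1 (by rw [e, map_one])
        obtain ⟨i, hi⟩ := hpow z hz
        obtain ⟨j, hj⟩ := hR ⟨y', hy'⟩
        have hj' : y' ^ r ^ j = 1 := congrArg Subtype.val hj
        refine Commute.map (commute_of_commute_pow (Γ := MulAut V') (x := ψ (inl z)) (y := ψ (inl y'))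
          (m := q ^ i) (n := r ^ (orderOf z).factorization r)
          (Nat.Coprime.pow _ _ ((Nat.coprime_primes hq hr).mpr (Ne.symm hrq))) ?_ ?_) ρ₀
        · rw [← map_pow, ← map_pow, show ψ (inl (z ^ q ^ i)) = 1 from
            hρ₀ ((hρV _ hi).trans (map_one ρ₀).symm)]
          exact Commute.one_left _
        · rw [← map_pow, ← map_pow]
          refine ((hnil d hd _ _ (by rw [map_pow, (hfix_inl d z).mp hdz]) ((hfix_inl d y').mp hdy)
            ?_).map inl).map ψ
          refine Nat.Coprime.coprime_dvd_right (orderOf_dvd_of_pow_eq_one hj') ?_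
          rw [orderOf_pow' _ (pow_ne_zero _ hr.ne_zero),
            Nat.gcd_eq_right (Nat.ordProj_dvd (orderOf z) r)]
          exact Nat.Coprime.pow_right _ (Nat.coprime_ordCompl hr (orderOf_pos z).ne').symm)
    have hρxy : Commute (ρ (inl x)) (ρ (inl y)) :=
      hc _ (Subgroup.mem_map_of_mem _ hx) _ (Subgroup.mem_map_of_mem _ hy)
    let C := Subgroup.centralizer (V : Set G) ⊓ Mq
    haveI : C.Normal := inferInstance
    have hC : Group.IsNilpotent C := by
      haveI := (Cores.pCore_isPGroup q (G ⧸ V)).isNilpotent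
      refine Subgroup.isNilpotent_of_ker_le_center
        ((π.comp C.subtype).codRestrict (Cfsg.pCore q (G ⧸ V)) fun c => (Subgroup.mem_inf.mp c.2).2) ?_
      intro c hc
      rw [MonoidHom.mem_ker] at hc
      have hcV : (c : G) ∈ V := (QuotientGroup.eq_one_iff _).mp (congrArg Subtype.val hc)
      exact Subgroup.mem_center_iff.mpr fun d => Subtype.ext
        (Subgroup.mem_centralizer_iff.mp (Subgroup.mem_inf.mp d.2).1 c hcV).symm
    refine Cores.le_fittingSubgroup inferInstance hC (Subgroup.mem_inf.mpr ⟨hρker ?_, hcomm'⟩)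
    have hinvρ : ∀ g : G, ρ (inl g) * ρ (inl g⁻¹) = 1 := fun g => by
      rw [← map_mul, ← map_mul, mul_inv_cancel, map_one, map_one]
    rw [commutatorElement_def, map_mul, map_mul, map_mul, map_mul, map_mul, map_mul, hρxy.eq,
      mul_assoc (ρ (inl y)), hinvρ, mul_one, hinvρ]
  -- the quotient by the Fitting subgroup
  let mk := QuotientGroup.mk' F
  have hmk : Function.Surjective mk := QuotientGroup.mk'_surjective F
  obtain ⟨c, hc⟩ := Subgroup.nilpotent_iff_lowerCentralSeries.mp hIH
  refine (Group.isNilpotent_of_finite_tfae.out 0 3 rfl rfl).mpr ?_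
  intro r hr P
  haveI := hr
  have hGM : (⊤ : Subgroup G).lowerCentralSeries c ≤ M := by
    intro x hx
    rw [hM, Subgroup.mem_comap, ← QuotientGroup.eq_one_iff]
    have h1 := Subgroup.mem_map_of_mem ((QuotientGroup.mk' (Cfsg.fittingSubgroup (G ⧸ V))).comp π) hx
    have hsurj : Function.Surjective
        ((QuotientGroup.mk' (Cfsg.fittingSubgroup (G ⧸ V))).comp π) :=
      (QuotientGroup.mk'_surjective (Cfsg.fittingSubgroup (G ⧸ V))).comp (QuotientGroup.mk'_surjective V)
    rw [Subgroup.map_lowerCentralSeries, Subgroup.map_top_of_surjective _ hsurj, hc,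
      Subgroup.mem_bot] at h1
    exact h1
  haveI hGMn : Group.IsNilpotent (G ⧸ M) := by
    rw [Subgroup.nilpotent_iff_lowerCentralSeries]
    refine ⟨c, ?_⟩
    rw [← Subgroup.map_top_of_surjective _ (QuotientGroup.mk'_surjective M),
      ← Subgroup.map_lowerCentralSeries, eq_bot_iff, Subgroup.map_le_iff_le_comap,
      MonoidHom.comap_bot, QuotientGroup.ker_mk']
    exact hGM
  -- an invariant Sylow subgroup
  obtain ⟨R, -, hR⟩ := Coprime.exists_invariant_sylow_external φ hcopG (Or.inl hAsolv) r ⊥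
    (IsPGroup.of_bot) (fun a u hu => by rw [Subgroup.mem_bot] at hu ⊢; rw [hu, map_one])
  set Rb : Sylow r (G ⧸ F) := R.mapSurjective hmk with hRb
  have hRbc : (Rb : Subgroup (G ⧸ F)) = (R : Subgroup G).map mk := rfl
  have hnorm : M.map mk ≤ Subgroup.normalizer ((Rb : Subgroup (G ⧸ F)) : Set (G ⧸ F)) := by
    rintro _ ⟨m, hm, rfl⟩
    rw [SetLike.mem_coe, hM, Subgroup.mem_comap, Cores.fittingSubgroup_eq_iSup] at hm
    let T : Subgroup G := (Subgroup.normalizer ((Rb : Subgroup (G ⧸ F)) : Set (G ⧸ F))).comap mk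
    have h1 : ⨆ q : Nat.Primes, Cfsg.pCore (q : ℕ) (G ⧸ V) ≤ T.map π := iSup_le fun q z hz => by
      obtain ⟨x, rfl⟩ := QuotientGroup.mk'_surjective V z
      refine ⟨x, ?_, rfl⟩
      show mk x ∈ Subgroup.normalizer ((Rb : Subgroup (G ⧸ F)) : Set (G ⧸ F))
      haveI : Fact (q : ℕ).Prime := ⟨q.2⟩
      by_cases hqr : (q : ℕ) = r
      · refine Subgroup.le_normalizer ?_
        have hx' : mk x ∈ Cfsg.pCore r (G ⧸ F) := by
          refine (Cores.le_pCore (N := ((Cfsg.pCore (q : ℕ) (G ⧸ V)).comap π).map mk)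
            ((Subgroup.Normal.comap inferInstance π).map mk hmk) ?_) (Subgroup.mem_map_of_mem mk hz)
          rintro ⟨_, w, hw, rfl⟩
          obtain ⟨i, hi⟩ := Cores.pCore_isPGroup (q : ℕ) (G ⧸ V) ⟨π w, hw⟩
          refine ⟨i, Subtype.ext ?_⟩
          show mk w ^ r ^ i = 1
          rw [← map_pow, ← hqr]
          refine (QuotientGroup.eq_one_iff _).mpr (hVF ((QuotientGroup.eq_one_iff _).mp ?_))
          simpa [π] using congrArg Subtype.val hi
        exact Cores.pCore_le_sylow Rb hx'
      · rw [Subgroup.mem_normalizer_iff]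
        have hcx : ∀ x' ∈ (Cfsg.pCore (q : ℕ) (G ⧸ V)).comap π, ∀ w ∈ (Rb : Subgroup (G ⧸ F)),
            mk x' * w * (mk x')⁻¹ = w := by
          rintro x' hx' _ ⟨y, hy, rfl⟩
          rw [mul_inv_eq_iff_eq_mul, ← map_mul, ← map_mul]
          refine QuotientGroup.eq_iff_div_mem.mpr ?_
          rw [div_eq_mul_inv, show x' * y * (y * x')⁻¹ = ⁅x', y⁆ by rw [commutatorElement_def]; group]
          exact key q r q.2 hr.out (Ne.symm hqr) R R.2 hR x' hx' y hy
        intro w
        refine ⟨fun hw => by rw [hcx x hz w hw]; exact hw, fun hw => ?_⟩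
        have h2 := hcx x⁻¹ (inv_mem hz) _ hw
        rw [map_inv] at h2
        have h3 : w = mk x * w * (mk x)⁻¹ := by
          conv_rhs => rw [← h2]
          group
        rwa [h3]
    obtain ⟨t, ht, htm⟩ := h1 hm
    have h2 : t⁻¹ * m ∈ T := by
      show mk (t⁻¹ * m) ∈ Subgroup.normalizer ((Rb : Subgroup (G ⧸ F)) : Set (G ⧸ F))
      rw [show mk (t⁻¹ * m) = 1 from (QuotientGroup.eq_one_iff _).mpr (hVF ((QuotientGroup.eq).mp htm))]
      exact one_mem _
    have h3 := mul_mem ht h2
    rw [mul_inv_cancel_left] at h3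
    exact h3
  -- `Rb` is subnormal
  set Y := (R : Subgroup G) ⊔ M with hY
  haveI : Y.Normal := by
    have h1 : Y = ((R : Subgroup G).map (QuotientGroup.mk' M)).comap (QuotientGroup.mk' M) := by
      rw [Subgroup.comap_map_eq, QuotientGroup.ker_mk']
    rw [h1]
    refine Subgroup.Normal.comap ?_ _
    exact (Group.isNilpotent_of_finite_tfae.out 0 3 rfl rfl).mp hGMn r hr
      (R.mapSurjective (QuotientGroup.mk'_surjective M))
  have hYn : (Y.map mk).Normal := ‹Y.Normal›.map mk hmk
  have hsub : (Rb : Subgroup (G ⧸ F)).IsSubnormal := by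
    refine Subgroup.IsSubnormal.step _ (Y.map mk) (Subgroup.map_mono le_sup_left)
      (Subgroup.Normal.isSubnormal hYn) (Subgroup.normal_subgroupOf_of_le_normalizer ?_)
    rw [hY, Subgroup.map_sup]
    exact sup_le Subgroup.le_normalizer hnorm
  have hle : (Rb : Subgroup (G ⧸ F)) ≤ Cfsg.pCore r (G ⧸ F) :=
    Cores.le_pCore_of_isSubnormal hsub Rb.2
  have hPeq : (P : Subgroup (G ⧸ F)) = Cfsg.pCore r (G ⧸ F) := by
    refine (Coprime.eq_of_le_of_card_le (Cores.pCore_le_sylow P) ?_).symm
    exact (Sylow.card_eq_multiplicity P).trans (Sylow.card_eq_multiplicity Rb).symm |>.le.trans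
      (Nat.le_of_dvd Nat.card_pos (Subgroup.card_dvd_of_le hle))
  rw [hPeq]
  infer_instance

/-- Ward's theorem. -/
theorem ward {G : Type u} [Group G] [Finite G] {A : Type v} [Group A] [Finite A] (φ : A →* MulAut G)
    {p : ℕ} (hp : p.Prime) (hsol : Group.IsSolvable G) (hcomm : IsMulCommutative A)
    (hcard : Nat.card A = p ^ 2) (hexp : ∀ a : A, a ^ p = 1)
    (hfpf : ∀ g, (∀ a, φ a g = g) → g = 1) :
    Group.IsNilpotent (G ⧸ Cfsg.fittingSubgroup G) :=
  ward_aux _ G A φ p rfl hsol hp hcomm hcard hexp hfpf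

end Cfsg.Agent.Lib.Solvable.FPF
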