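import Cfsg.Agent.Lib.Solvable.FPF.FrobeniusAux
import Cfsg.Agent.Lib.Solvable.FixedPointFree
import Cfsg.Agent.Lib.Coprime.PxQ
import Cfsg.Agent.Lib.Cores

/-!
The action on the symplectic layer in the theorem on fixed-point-free groups of order `np`.
-/

set_option autoImplicit false

open Pointwise
open scoped commutatorElement

namespace Cfsg.Agent.Lib.Solvable.FPF

open Cfsg.Agent.Lib

/-- The norm is multiplicative on an abelian group of operators normalised by `f`. -/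
theorem norm_mul_mem {G : Type*} [Group G] (S : Subgroup G) (hS : ∀ a ∈ S, ∀ b ∈ S, Commute a b)
    {f : G} (hf : f ∈ Subgroup.normalizer (S : Set G)) {u v : G} (hu : u ∈ S) (hv : v ∈ S) (m : ℕ) :
    (u * f) ^ m * (f ^ m)⁻¹ ∈ S ∧ (v * f) ^ m * (f ^ m)⁻¹ ∈ S ∧
      (u * v * f) ^ m * (f ^ m)⁻¹ = ((u * f) ^ m * (f ^ m)⁻¹) * ((v * f) ^ m * (f ^ m)⁻¹) := by
  induction m with
  | zero => simp
  | succ m ih =>
    have hstep : ∀ x : G, (x * f) ^ (m + 1) * (f ^ (m + 1))⁻¹ =
        ((x * f) ^ m * (f ^ m)⁻¹) * (f ^ m * x * (f ^ m)⁻¹) := fun x => by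
      rw [pow_succ, pow_succ]; group
    have hc : ∀ x ∈ S, f ^ m * x * (f ^ m)⁻¹ ∈ S := fun x hx =>
      (Subgroup.mem_normalizer_iff.mp (pow_mem hf m) x).mp hx
    obtain ⟨h1, h2, h3⟩ := ih
    rw [hstep u, hstep v, hstep (u * v), h3]
    refine ⟨mul_mem h1 (hc u hu), mul_mem h2 (hc v hv), ?_⟩
    rw [show f ^ m * (u * v) * (f ^ m)⁻¹ = (f ^ m * u * (f ^ m)⁻¹) * (f ^ m * v * (f ^ m)⁻¹) by group]
    generalize (u * f) ^ m * (f ^ m)⁻¹ = a at *
    generalize (v * f) ^ m * (f ^ m)⁻¹ = b at *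
    generalize hx : f ^ m * u * (f ^ m)⁻¹ = x
    generalize f ^ m * v * (f ^ m)⁻¹ = y
    have hbx : Commute b x := hS b h2 x (hx ▸ hc u hu)
    calc a * b * (x * y) = a * (b * x) * y := by group
      _ = a * (x * b) * y := by rw [hbx.eq]
      _ = a * x * (b * y) := by group

/-- `[R, b]` acts trivially on the layer. -/
theorem commutator_acts_trivially {G : Type*} [Group G] [Finite G] {M : Type*} [CommGroup M]
    [Finite M] (θ : G →* MulAut M) (R : Subgroup G) {b : G} {l r q : ℕ} (hl : l.Prime) (hr : r.Prime)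
    (hlr : l ≠ r) (hrq : r ≠ q) (hbl : b ^ l = 1) (hbR : b ∈ Subgroup.normalizer (R : Set G))
    (hR : IsPGroup r R) (hθc : ∀ g ∈ R, ∀ h ∈ R, Commute (θ g) (θ h))
    {K : Type*} [CommGroup K] (β : M → M → K) (hl1 : ∀ u v w, β (u * v) w = β u w * β v w)
    (hr1 : ∀ u v w, β u (v * w) = β u v * β u w) (hself : ∀ u, β u u = 1)
    (hnd : ∀ u, (∀ v, β u v = 1) → u = 1) (hinv : ∀ g u v, β (θ g u) (θ g v) = β u v)
    (V : Subgroup M) (hVF : ∀ m : M, ∃ v ∈ V, θ b (v⁻¹ * m) = v⁻¹ * m)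
    (horth : ∀ v ∈ V, ∀ f, θ b f = f → β f v = 1) (hexp : ∀ m : M, m ^ q = 1)
    (hexc : θ b ≠ 1 → q = 2 ∧ l ≠ 2 ∧ Nat.card V ≤ (l - 1) ^ 2) :
    ∀ y ∈ ⁅R, Subgroup.zpowers b⁆, θ y = 1 := by
  classical
  haveI := Fact.mk hr
  have hbRn : Subgroup.zpowers b ≤ Subgroup.normalizer (R : Set G) := Subgroup.zpowers_le.mpr hbR
  have hR1R : ⁅R, Subgroup.zpowers b⁆ ≤ R := Coprime.commutator_le_of_le_normalizer hbRn
  intro y hy
  by_cases h1 : θ b = 1
  · have hle : ⁅R, Subgroup.zpowers b⁆ ≤ θ.ker := Subgroup.commutator_le.mpr fun g hg t ht => by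
      obtain ⟨i, rfl⟩ := ht
      rw [MonoidHom.mem_ker, map_commutatorElement, map_zpow, h1, one_zpow, commutatorElement_one_right]
    exact hle hy
  obtain ⟨hq2, hl2, hV⟩ := hexc h1
  set φ := θ b with hφ
  set S := R.map θ with hS
  have hScomm : ∀ u ∈ S, ∀ v ∈ S, Commute u v := by
    rintro _ ⟨g, hg, rfl⟩ _ ⟨h, hh, rfl⟩
    exact hθc g hg h hh
  have hφS : φ ∈ Subgroup.normalizer (S : Set (MulAut M)) :=
    Subgroup.le_normalizer_map θ ⟨b, hbR, rfl⟩
  have hφl : φ ^ l = 1 := by rw [hφ, ← map_pow, hbl, map_one]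
  -- elements whose norm is trivial
  let P : Subgroup G :=
    { carrier := {g | g ∈ R ∧ (θ g * φ) ^ l = 1}
      one_mem' := ⟨one_mem _, by rw [map_one, one_mul, hφl]⟩
      mul_mem' := fun {g₁ g₂} ⟨h₁, e₁⟩ ⟨h₂, e₂⟩ => ⟨mul_mem h₁ h₂, by
        have hh := (norm_mul_mem S hScomm hφS (u := θ g₁) (v := θ g₂)
          ⟨_, h₁, rfl⟩ ⟨_, h₂, rfl⟩ l).2.2
        rw [e₁, e₂, hφl, inv_one, mul_one, mul_one] at hh
        rw [map_mul]
        exact hh⟩
      inv_mem' := fun {g} ⟨hg, e⟩ => ⟨inv_mem hg, by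
        have hh := (norm_mul_mem S hScomm hφS (u := θ g) (v := θ g⁻¹)
          ⟨_, hg, rfl⟩ ⟨_, inv_mem hg, rfl⟩ l).2.2
        rw [e, hφl, inv_one, mul_one, one_mul, ← map_mul, mul_inv_cancel, map_one, one_mul, hφl,
          mul_one] at hh
        exact hh.symm⟩ }
  have hPle : ⁅R, Subgroup.zpowers b⁆ ≤ P := by
    refine Subgroup.commutator_le.mpr fun g hg t ht => ?_
    obtain ⟨i, rfl⟩ := (isOfFinOrder_of_finite b).mem_powers_iff_mem_zpowers.mpr ht
    dsimp only
    clear ht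
    induction i with
    | zero => rw [pow_zero, commutatorElement_one_right]; exact one_mem P
    | succ i ih =>
      rw [show ⁅g, b ^ (i + 1)⁆ = ⁅g, b⁆ * (b * ⁅g, b ^ i⁆ * b⁻¹) by
        simp only [commutatorElement_def, pow_succ']; group]
      refine mul_mem ⟨hR1R (Subgroup.commutator_mem_commutator hg (Subgroup.mem_zpowers b)), ?_⟩
        ⟨(Subgroup.mem_normalizer_iff.mp hbR _).mp ih.1, ?_⟩
      · rw [map_commutatorElement, ← hφ, commutatorElement_def, inv_mul_cancel_right, conj_pow, hφl,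
          mul_one, mul_inv_cancel]
      · rw [map_mul, map_mul, map_inv, ← hφ, inv_mul_cancel_right]
        have e := ih.2
        generalize θ ⁅g, b ^ i⁆ = x at e ⊢
        rw [show φ * x = φ * (x * φ) * φ⁻¹ by group, conj_pow, e, mul_one, mul_inv_cancel]
  obtain ⟨e', he'⟩ := IsPGroup.iff_card.mp (hR.to_le hR1R)
  have hUdvd : Nat.card (⁅R, Subgroup.zpowers b⁆.map θ) ∣ r ^ e' := he' ▸ Subgroup.card_map_dvd _ θ
  have hnd' : ∀ {x : ℕ}, x.Prime → x ≠ r → ¬ x ∣ Nat.card (⁅R, Subgroup.zpowers b⁆.map θ) :=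
    fun hx hxr h => hxr ((Nat.prime_dvd_prime_iff_eq hx hr).mp (hx.dvd_of_dvd_pow (h.trans hUdvd)))
  have htriv := trivial_of_frobenius_isometries (fun m => hq2 ▸ hexp m) hl hl2 β hl1 hr1 hself hnd φ
    hφl h1 (⁅R, Subgroup.zpowers b⁆.map θ) (hnd' Nat.prime_two (fun e => hrq (e.symm.trans hq2.symm)))
    (hnd' hl hlr)
    (Subgroup.le_normalizer_map θ ⟨b,
      Subgroup.normalizer_commutator_ge_right R _ (Subgroup.mem_zpowers b), rfl⟩)
    (by
      rintro _ ⟨g, hg, rfl⟩ hcom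
      obtain ⟨hgR, e⟩ := hPle hg
      rw [(show Commute (θ g) φ from hcom.symm).mul_pow, hφl, mul_one] at e
      obtain ⟨i, hi⟩ := hR ⟨g, hgR⟩
      exact orderOf_eq_one_iff.mp (Nat.eq_one_of_dvd_coprimes
        (Nat.Coprime.pow_right i ((Nat.coprime_primes hl hr).mpr hlr)) (orderOf_dvd_of_pow_eq_one e)
        (orderOf_dvd_of_pow_eq_one (n := r ^ i) (by
          rw [← map_pow, show g ^ r ^ i = 1 from congrArg Subtype.val hi, map_one]))))
    (fun u hu a c => by obtain ⟨g, -, rfl⟩ := hu; exact hinv g a c)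
    V hVF horth hV
  exact htriv _ ⟨y, hy, rfl⟩

/-- An isometry of `r`-power order commuting with `φ` is trivial on the exceptional moved part. -/
theorem trivial_on_moved {M : Type*} [CommGroup M] [Finite M] (hexp : ∀ m : M, m ^ 2 = 1) {j l r i : ℕ}
    (hj : 1 ≤ j) (hl : l = 2 ^ j + 1) (hlp : l.Prime) (hr : r.Prime) (hlr : l ≠ r)
    {K : Type*} [CommGroup K] (β : M → M → K) (hl1 : ∀ u v w, β (u * v) w = β u w * β v w)
    (hr1 : ∀ u v w, β u (v * w) = β u v * β u w) (hswap : ∀ u v, β u v * β v u = 1)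
    (hnd : ∀ u, (∀ v, β u v = 1) → u = 1) (φ α : MulAut M) (hφ : φ ^ l = 1)
    (hα : α ^ r ^ i = 1) (hcomm : Commute φ α) (hβφ : ∀ u v, β (φ u) (φ v) = β u v)
    (hβα : ∀ u v, β (α u) (α v) = β u v) (V : Subgroup M)
    (hVF : ∀ m : M, ∃ v ∈ V, φ (v⁻¹ * m) = v⁻¹ * m) (horth : ∀ v ∈ V, ∀ f, φ f = f → β f v = 1)
    (hφV : ∀ v ∈ V, φ v ∈ V) (hαV : ∀ v ∈ V, α v ∈ V) (hcard : Nat.card V = 2 ^ (2 * j)) :
    ∀ v ∈ V, α v = v := by
  intro v hv
  let φV : MulAut V := FixedPointFree.restrict φ V (map_eq_of_mem hφV)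
  let αV : MulAut V := FixedPointFree.restrict α V (map_eq_of_mem hαV)
  have hsym : ∀ u ∈ V, ∀ f, φ f = f → β u f = 1 := fun u hu f hf => by
    have h := hswap u f
    rwa [horth u hu f hf, mul_one] at h
  have hVnd : ∀ v : V, (∀ u : V, β (u : M) v = 1) → v = 1 := by
    intro v hv'
    refine Subtype.ext (hnd _ fun w => ?_)
    obtain ⟨u, hu, hfw⟩ := hVF w
    have h := hswap u (v : M)
    rw [hv' ⟨u, hu⟩, one_mul] at h
    rw [← mul_inv_cancel_left u w, hr1, hsym v v.2 _ hfw, mul_one, h]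
  have hleft : ∀ u, β 1 u = 1 := fun u => by
    have h := hl1 1 1 u
    rw [one_mul] at h
    exact left_eq_mul.mp h
  have hright : ∀ u, β u 1 = 1 := fun u => by
    have h := hr1 u 1 1
    rw [one_mul] at h
    exact left_eq_mul.mp h
  have hαl := pow_eq_one_of_commute_isometry (V := V)
    (fun u => Subtype.ext (by rw [← sq, SubmonoidClass.coe_pow]; exact hexp _))
    hj hl hlp hcard φV αV
    (MulEquiv.ext fun u => Subtype.ext (by rw [FixedPointFree.restrict_pow, hφ]; rfl))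
    (fun u hu => hVnd u fun u' => hsym u' u'.2 u (congrArg Subtype.val hu))
    (MulEquiv.ext fun u => Subtype.ext (DFunLike.congr_fun hcomm.eq (u : M)))
    (fun a c => β (a : M) c) (fun a b c => hl1 _ _ _) (fun a b c => hr1 _ _ _)
    (fun a => hright _) (fun a => hleft _) hVnd (fun a c => hβφ _ _) (fun a c => hβα _ _)
  have hαr : αV ^ r ^ i = 1 := MulEquiv.ext fun u => Subtype.ext (by
    rw [FixedPointFree.restrict_pow, hα]; rfl)
  have hα1 : αV = 1 := orderOf_eq_one_iff.mp (Nat.eq_one_of_dvd_coprimes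
    (Nat.Coprime.pow_right i ((Nat.coprime_primes hlp hr).mpr hlr)) (orderOf_dvd_of_pow_eq_one hαl)
    (orderOf_dvd_of_pow_eq_one hαr))
  exact congrArg Subtype.val (DFunLike.congr_fun hα1 ⟨v, hv⟩)

/-- Averaged classes modulo the centre are fixed by `C_R(b)`. -/
theorem average_fixed_mod_center {Γ : Type*} [Group Γ] [Finite Γ] (A D R R₁ : Subgroup Γ) [D.Normal]
    [Fintype R₁] {b c : Γ} (hR₁ : R₁ = ⁅R, Subgroup.zpowers b⁆) {n : ℕ} (hn : n.Prime)
    (hcn : c ^ n = 1) (hc1 : c ≠ 1) (hcA : c ∈ A) (hbA : b ∈ A) (hnbc : b * c ≠ c * b)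
    (hgen : Subgroup.zpowers c ⊔ Subgroup.zpowers b = A)
    (hAT : A ≤ Subgroup.normalizer (Subgroup.zpowers c : Set Γ))
    (hAR : A ≤ Subgroup.normalizer (R : Set Γ)) (hAsolv : Group.IsSolvable A)
    (hcopD : (Nat.card A).Coprime (Nat.card D)) (hcopR : (Nat.card A).Coprime (Nat.card R))
    (hcopRD : (Nat.card R).Coprime (Nat.card D))
    (hDA : ∀ x ∈ D, (∀ a ∈ A, a * x = x * a) → x = 1)
    (hRA : ∀ x ∈ R, (∀ a ∈ A, a * x = x * a) → x = 1) (hDR : ⁅D, R⁆ = D)
    (hcomm : ∀ x ∈ D, ∀ y ∈ D, ∀ z ∈ D, Commute ⁅x, y⁆ z)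
    (hRR : ∀ x ∈ D, ∀ g ∈ ⁅R, R⁆, Commute x g) {y : Γ} (hy : y ∈ R) (hby : b * y = y * b) (x : D)
    (hbx : b * x = x * b) {M : Type*} [CommGroup M] (π : D →* M) (hπ : Subgroup.center D ≤ π.ker)
    (hR₁fix : ∀ g ∈ R₁, π (MulAut.conjNormal g x) = π x ∧
        π (MulAut.conjNormal y (MulAut.conjNormal g x)) = π (MulAut.conjNormal y x)) :
    π (MulAut.conjNormal y x) ^ Fintype.card R₁ = π x ^ Fintype.card R₁ := by
  classical
  haveI := Fact.mk hn
  have hordc : orderOf c = n := orderOf_eq_prime hcn hc1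
  set Z₀ := Subgroup.center D with hZ₀
  letI : CommGroup (D ⧸ Z₀) := { (inferInstance : Group (D ⧸ Z₀)) with
    mul_comm := fun u v => by
      induction u using QuotientGroup.induction_on with
      | H u =>
        induction v using QuotientGroup.induction_on with
        | H v =>
          refine QuotientGroup.eq_iff_div_mem.mpr ?_
          rw [hZ₀, Subgroup.mem_center_iff, div_eq_mul_inv]
          intro w
          refine Subtype.ext ?_
          have h := hcomm u u.2 v v.2 w w.2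
          simp only [Subgroup.coe_mul, Subgroup.coe_inv]
          rw [show (u : Γ) * v * ((v : Γ) * u)⁻¹ = ⁅(u : Γ), (v : Γ)⁆ by
            rw [commutatorElement_def]; group]
          exact h.eq.symm }
  let conjD : Γ →* MulAut D := MulAut.conjNormal
  have hconjD : ∀ (g : Γ) (u : D), ((conjD g u : D) : Γ) = g * u * g⁻¹ := fun g u => rfl
  have hZ₀inv : ∀ g : Γ, ∀ u ∈ Z₀, conjD g u ∈ Z₀ := fun g u hu =>
    apply_mem_of_characteristic (conjD g) Z₀ hu
  let θW : Γ →* MulAut (D ⧸ Z₀) := quotHom conjD Z₀ hZ₀inv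
  have hθW : ∀ (g : Γ) (u : D), θW g (u : D ⧸ Z₀) = ((conjD g u : D) : D ⧸ Z₀) := fun g u => rfl
  letI := Fintype.ofFinite R
  let NR : D ⧸ Z₀ →* D ⧸ Z₀ :=
    { toFun := fun w => ∏ g : R, θW g w
      map_one' := Finset.prod_eq_one fun g _ => map_one _
      map_mul' := fun u v => by simp only [map_mul, Finset.prod_mul_distrib] }
  have hNR : ∀ u : D, NR (u : D ⧸ Z₀) = 1 := by
    let P : Subgroup Γ :=
      (((NR.comp (QuotientGroup.mk' Z₀))).ker).map D.subtype
    have hle : D ≤ P := by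
      conv_lhs => rw [← hDR]
      refine Subgroup.commutator_le.mpr fun d hd g hg => ?_
      have hd' : g * d⁻¹ * g⁻¹ ∈ D := (Subgroup.mem_normalizer_iff.mp (by rw [Subgroup.normalizer_eq_top_iff.mpr ‹D.Normal›]; exact Subgroup.mem_top g) _).mp (inv_mem hd)
      refine ⟨⟨d, hd⟩ * ⟨_, hd'⟩, ?_, by
        show d * (g * d⁻¹ * g⁻¹) = ⁅d, g⁆
        rw [commutatorElement_def]; group⟩
      rw [SetLike.mem_coe, MonoidHom.mem_ker, MonoidHom.comp_apply, map_mul, map_mul]
      have e : NR (QuotientGroup.mk' Z₀ ⟨_, hd'⟩) = NR (QuotientGroup.mk' Z₀ (⟨d, hd⟩⁻¹)) := by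
        show ∏ h : R, θW h _ = ∏ h : R, θW h _
        refine Fintype.prod_equiv (Equiv.mulRight ⟨g, hg⟩) _ _ fun h => ?_
        show θW h _ = θW ((h : Γ) * g) _
        rw [map_mul, MulAut.mul_apply]
        congr 1
      rw [e, ← map_mul, ← map_mul, mul_inv_cancel, map_one, map_one]
    intro u
    obtain ⟨u', hu', huu⟩ := hle u.2
    rw [← Subtype.ext huu (a2 := u)]
    exact hu'
  have hcopW : ∀ w : D ⧸ Z₀, (Nat.card R).Coprime (orderOf w) := fun w => by
    obtain ⟨u, rfl⟩ := QuotientGroup.mk'_surjective Z₀ w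
    exact hcopRD.coprime_dvd_right
      ((orderOf_map_dvd (QuotientGroup.mk' Z₀) u).trans (orderOf_dvd_natCard u))
  have havg := fixed_average θW A R R₁ hR₁ hbA hcA hgen
    (fun f hf => (Subgroup.mem_normalizer_iff.mp (hAT hbA) f).mp hf)
    (fun f hf hf1 => by
      have hgenf : c ∈ Subgroup.zpowers f := by
        have : Subgroup.zpowers f = Subgroup.zpowers c := by
          refine Coprime.eq_of_le_of_card_le (Subgroup.zpowers_le.mpr hf) ?_
          obtain ⟨i, rfl⟩ := (isOfFinOrder_of_finite c).mem_powers_iff_mem_zpowers.mpr hf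
          rw [Nat.card_zpowers, Nat.card_zpowers, hordc, orderOf_eq_prime (show (c ^ i) ^ n = 1 by
            rw [← pow_mul, mul_comm, pow_mul, hcn, one_pow]) hf1]
        rw [this]; exact Subgroup.mem_zpowers c
      refine ⟨hgenf, fun e => hnbc ?_⟩
      obtain ⟨i, hi⟩ := hgenf
      dsimp only at hi
      rw [← hi]
      exact ((show Commute f b from e).zpow_left i).eq.symm)
    hAR hAsolv hcopR hRA
    (fun w hw' => by
      obtain ⟨u, hu, hfix⟩ := exists_fixed_lift conjD Z₀ hZ₀inv A hAsolv hcopD w hw'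
      have h1 : u = 1 := Subtype.ext (hDA u u.2 fun a ha => by
        have := congrArg Subtype.val (hfix a ha)
        rw [hconjD] at this
        exact mul_inv_eq_iff_eq_mul.mp this)
      rw [← hu, h1]; rfl)
    (fun w hw' => by
      induction w using QuotientGroup.induction_on with
      | H u =>
        have h1 := hNR u
        change ∏ g : R, θW g (u : D ⧸ Z₀) = 1 at h1
        rw [Finset.prod_eq_pow_card (b := (u : D ⧸ Z₀)) (fun (g : R) _ => hw' g g.2),
          Finset.card_univ, ← Nat.card_eq_fintype_card] at h1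
        exact orderOf_eq_one_iff.mp (Nat.eq_one_of_dvd_coprimes (hcopW _)
          (orderOf_dvd_of_pow_eq_one h1) dvd_rfl))
    (fun g hg h hh => by
      rw [← commutatorElement_eq_one_iff_commute, ← map_commutatorElement]
      refine MulEquiv.ext fun w => ?_
      induction w using QuotientGroup.induction_on with
      | H u =>
        rw [hθW, MulAut.one_apply]
        congr 1
        refine Subtype.ext ?_
        rw [hconjD, ← (hRR u u.2 _ (Subgroup.commutator_mem_commutator hg hh)).eq,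
          mul_inv_cancel_right])
    hcopW hy hby (w := (x : D ⧸ Z₀)) (by
      rw [hθW]
      congr 1
      refine Subtype.ext ?_
      rw [hconjD, hbx, mul_inv_cancel_right])
  let πb : D ⧸ Z₀ →* M := QuotientGroup.lift Z₀ π hπ
  have h1 := congrArg πb havg
  simp only [map_prod] at h1
  change (∏ g : R₁, π (MulAut.conjNormal y (MulAut.conjNormal (g : Γ) x))) =
    ∏ g : R₁, π (MulAut.conjNormal (g : Γ) x) at h1
  rw [Finset.prod_eq_pow_card (b := π (MulAut.conjNormal y x)) (fun (g : R₁) _ =>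
      (hR₁fix g g.2).2),
    Finset.prod_eq_pow_card (b := π x) (fun (g : R₁) _ => (hR₁fix g g.2).1), Finset.card_univ] at h1
  exact h1

end Cfsg.Agent.Lib.Solvable.FPF
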