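import Cfsg.Agent.Lib.Solvable.FPF.Module
import Cfsg.Agent.Lib.Coprime.Generation
import Cfsg.Agent.Lib.Cores

/-!
An element of order three without fixed points centralizes a `q`-group, `q ≥ 5`.
-/

set_option autoImplicit false

open scoped commutatorElement

namespace Cfsg.Agent.Lib.Solvable.FPF

open Module Cfsg.Agent.Lib

variable {k : Type*} [Field k] [IsAlgClosed k] {W : Type*} [AddCommGroup W] [Module k W]
  [FiniteDimensional k W]

/-- The computation in the quantum torus. -/
theorem eq_bot_of_quantum (X Y C : End k W) (U : Submodule k W) {ω : k} {q : ℕ} (hq : 5 ≤ q)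
    (hω : orderOf ω = q)
    (hX : ∀ u ∈ U, X u ∈ U) (hY : ∀ u ∈ U, Y u ∈ U) (hC : ∀ u ∈ U, C u ∈ U)
    (hXinj : Function.Injective X) (hYinj : Function.Injective Y) (hCinj : Function.Injective C)
    (hXY : ∀ u ∈ U, X (Y u) = ω • Y (X u)) (hCX : ∀ u ∈ U, C (X u) = Y (C u))
    (hCY : ∀ u ∈ U, X (Y (C (Y u))) = C u) (hC3 : ∀ u ∈ U, u + C u + C (C u) = 0) : U = ⊥ := by
  by_contra hU
  haveI := Submodule.nontrivial_iff_ne_bot.mpr hU
  obtain ⟨ν, hν⟩ := End.exists_eigenvalue (X.restrict hX)
  obtain ⟨⟨w, hw⟩, hwv⟩ := hν.exists_hasEigenvector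
  have hw0 : w ≠ 0 := fun e => hwv.2 (Subtype.ext e)
  have hXw : X w = ν • w := congrArg Subtype.val (End.mem_eigenspace_iff.mp hwv.1)
  have hν0 : ν ≠ 0 := fun e => hw0 (hXinj (by rw [hXw, e, zero_smul, map_zero]))
  set v := C w with hv
  have hvU : v ∈ U := hC w hw
  have hv0 : v ≠ 0 := fun e => hw0 (hCinj (by rw [map_zero]; exact e))
  have hYv : Y v = ν • v := by rw [hv, ← hCX w hw, hXw, map_smul]
  have hv3 : ν • X (Y (C v)) = C v := by
    have h1 := hCY v hvU
    rw [hYv, map_smul, map_smul, map_smul] at h1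
    exact h1
  have h3 : C v = -w - v := by
    have h1 := hC3 w hw
    rw [← hv] at h1
    linear_combination (norm := module) h1
  rw [h3, map_sub, map_neg, hYv, map_sub, map_neg, map_smul, hXY w hw, hXw, map_smul] at hv3
  -- `hv3` expresses `(ν² X - 1) v` in terms of `w` and `Y w`
  have hkill : (X - (ν * ω) • 1) ((X - ν • 1) ((((ν * ν) • X - 1) : End k W) v)) = 0 := by
    have h4 : (((ν * ν) • X - 1) : End k W) v = w - (ν * ν * ω) • Y w := by
      simp only [LinearMap.sub_apply, LinearMap.smul_apply, End.one_apply]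
      linear_combination (norm := module) -hv3
    have hXYw : X (Y w) = (ω * ν) • Y w := by rw [hXY w hw, hXw, map_smul, smul_smul]
    rw [h4]
    simp only [LinearMap.sub_apply, LinearMap.smul_apply, End.one_apply, map_sub, map_smul, hXw,
      hXYw, smul_sub, smul_smul]
    module
  let f : k → End k W := fun t => ((t • X - (ν * ω) • 1) * (t • X - ν • 1)) *
    ((ν * ν) • t • X - 1)
  have hf1 : f 1 v = 0 := by
    simpa [f, one_smul, End.mul_apply] using hkill
  have hstep : ∀ t, f t v = 0 → f (t * ω) v = 0 := by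
    intro t ht
    have key : ∀ (t' a b : k), ∀ u ∈ U, (t' • X - a • 1 : End k W) (b • Y u) ∈ U := by
      intro t' a b u hu
      simp only [LinearMap.sub_apply, LinearMap.smul_apply, End.one_apply]
      exact sub_mem (U.smul_mem _ (hX _ (U.smul_mem _ (hY u hu)))) (U.smul_mem _ (U.smul_mem _ (hY u hu)))
    -- move the factors across `Y`
    have hmove : ∀ (t' a : k), ∀ u ∈ U,
        (t' • X - a • 1 : End k W) (Y u) = Y ((((t' * ω) • X - a • 1) : End k W) u) := by
      intro t' a u hu
      simp only [LinearMap.sub_apply, LinearMap.smul_apply, End.one_apply, map_sub, map_smul]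
      rw [hXY u hu, smul_smul]
    have hmem : ∀ (t' a : k), ∀ u ∈ U, (t' • X - a • 1 : End k W) u ∈ U := by
      intro t' a u hu
      simp only [LinearMap.sub_apply, LinearMap.smul_apply, End.one_apply]
      exact sub_mem (U.smul_mem _ (hX _ hu)) (U.smul_mem _ hu)
    have e : ∀ t' : k, ((ν * ν) • t' • X - 1 : End k W) = ((ν * ν * t') • X - (1 : k) • 1) := by
      intro t'; rw [smul_smul, one_smul]
    have h1 : f t (Y v) = Y (f (t * ω) v) := by
      simp only [f, End.mul_apply, e]
      rw [hmove _ _ v hvU, hmove _ _ _ (hmem _ _ v hvU),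
        hmove _ _ _ (hmem _ _ _ (hmem _ _ v hvU))]
      rw [mul_assoc (ν * ν) t ω]
    rw [hYv, map_smul, ht, smul_zero] at h1
    exact hYinj (by rw [map_zero]; exact h1.symm)
  have hall : ∀ i : ℕ, f (ω ^ i) v = 0 := by
    intro i
    induction i with
    | zero => rw [pow_zero]; exact hf1
    | succ i ih => rw [pow_succ]; exact hstep _ ih
  have hcomm : ∀ t, Commute (f t) X := by
    intro t
    have h1 : ∀ a b : k, Commute (a • X - b • (1 : End k W)) X := fun a b =>
      ((Commute.refl X).smul_left a).sub_left ((Commute.one_left X).smul_left b)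
    have h2 : Commute ((ν * ν) • t • X - (1 : End k W)) X := by
      have := h1 (ν * ν * t) 1
      rwa [one_smul, ← smul_smul] at this
    exact (((h1 t (ν * ω)).mul_left (h1 t ν)).mul_left h2)
  let K : Submodule k W := ⨅ i : ℕ, LinearMap.ker (f (ω ^ i))
  have hvK : v ∈ K := (Submodule.mem_iInf _).mpr fun i => hall i
  haveI : Nontrivial K := Submodule.nontrivial_iff_ne_bot.mpr fun e => hv0 ((Submodule.eq_bot_iff _).mp e v hvK)
  have hKX : ∀ u ∈ K, X u ∈ K := fun u hu => (Submodule.mem_iInf _).mpr fun i => by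
    rw [LinearMap.mem_ker, ← End.mul_apply, (hcomm _).eq, End.mul_apply,
      LinearMap.mem_ker.mp ((Submodule.mem_iInf _).mp hu i), map_zero]
  obtain ⟨r, hr⟩ := End.exists_eigenvalue (X.restrict hKX)
  obtain ⟨⟨u, hu⟩, huv⟩ := hr.exists_hasEigenvector
  have hu0 : u ≠ 0 := fun e => huv.2 (Subtype.ext e)
  have hXu : X u = r • u := congrArg Subtype.val (End.mem_eigenspace_iff.mp huv.1)
  have hr0 : r ≠ 0 := fun e => hu0 (hXinj (by rw [hXu, e, zero_smul, map_zero]))
  have hroots : ∀ i : ℕ, ω ^ i * r ∈ ({ν * ω, ν, (ν * ν)⁻¹} : Set k) := by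
    intro i
    have h1 := LinearMap.mem_ker.mp ((Submodule.mem_iInf _).mp hu i)
    have h2 : f (ω ^ i) u =
        ((ω ^ i * r - ν * ω) * (ω ^ i * r - ν) * (ν * ν * (ω ^ i * r) - 1)) • u := by
      simp only [f, End.mul_apply, LinearMap.sub_apply, LinearMap.smul_apply, End.one_apply, hXu,
        map_sub, map_smul, smul_sub, smul_smul]
      module
    rw [h2, smul_eq_zero] at h1
    have h3 := h1.resolve_right hu0
    simp only [mul_eq_zero, sub_eq_zero] at h3
    rcases h3 with (h | h) | h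
    · exact Or.inl h
    · exact Or.inr (Or.inl h)
    · exact Or.inr (Or.inr (eq_inv_of_mul_eq_one_right h))
  classical
  have hinj : Set.InjOn (fun i : ℕ => ω ^ i * r) (Finset.range 4 : Finset ℕ) := by
    intro i hi j hj hij
    simp only [Finset.coe_range, Set.mem_Iio] at hi hj
    have h1 : ω ^ i = ω ^ j := mul_right_cancel₀ hr0 hij
    refine pow_injOn_Iio_orderOf ?_ ?_ h1 <;> rw [Set.mem_Iio, hω] <;> omega
  have hle : (Finset.range 4).card ≤ ({ν * ω, ν, (ν * ν)⁻¹} : Finset k).card :=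
    Finset.card_le_card_of_injOn _ (fun i _ => by
      have := hroots i
      simpa using this) hinj
  have h3 : ({ν * ω, ν, (ν * ν)⁻¹} : Finset k).card ≤ 3 := Finset.card_le_three
  simp only [Finset.card_range] at hle
  omega

/-- Hall–Higman for order three. -/
theorem hallHigman_three {Γ : Type*} [Group Γ] [Finite Γ] (ρ : Γ →* End k W) {c : Γ}
    (hc3 : c ^ 3 = 1) (hsum : 1 + ρ c + ρ c * ρ c = 0) {q : ℕ} (hq : q.Prime) (hq5 : 5 ≤ q)
    (hqk : (q : k) ≠ 0) :
    ∀ (n : ℕ) (D : Subgroup Γ), Nat.card D = n → c ∈ Subgroup.normalizer (D : Set Γ) →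
      IsPGroup q D → ∀ x ∈ D, Commute (ρ c) (ρ x) := by
  intro n
  induction n using Nat.strongRecOn with
  | ind n IH =>
  intro D hn hcD hDq
  haveI := Fact.mk hq
  by_contra hne
  set T := Subgroup.zpowers c with hT
  have hTD : T ≤ Subgroup.normalizer (D : Set Γ) := Subgroup.zpowers_le.mpr hcD
  set D₁ := ⁅D, T⁆ with hD₁
  have hD₁D : D₁ ≤ D := Coprime.commutator_le_of_le_normalizer hTD
  have hcD₁ : c ∈ Subgroup.normalizer (D₁ : Set Γ) :=
    Subgroup.normalizer_commutator_ge_right D T (Subgroup.mem_zpowers c)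
  have hqpow : ∀ {e : End k W} {x : Γ}, x ∈ D → ρ x = e → e ^ 3 = 1 → e = 1 := by
    intro e x hx hxe he
    obtain ⟨i, hi⟩ := hDq ⟨x, hx⟩
    have h1 : e ^ q ^ i = 1 := by
      rw [← hxe, ← map_pow, show x ^ q ^ i = 1 from congrArg Subtype.val hi, map_one]
    rw [← orderOf_eq_one_iff]
    exact Nat.eq_one_of_dvd_coprimes
      (Nat.Coprime.pow_right i ((Nat.coprime_primes Nat.prime_three hq).mpr (by omega)))
      (orderOf_dvd_of_pow_eq_one he) (orderOf_dvd_of_pow_eq_one h1)
  -- `D = [D, c]`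
  have htop : D₁ = D := by
    by_contra hne'
    apply hne
    intro x hx
    have hlt : Nat.card D₁ < n := hn ▸ lt_of_le_of_ne (Subgroup.card_le_of_le hD₁D)
      (fun e => hne' (Coprime.eq_of_le_of_card_le hD₁D e.ge))
    have h1 := IH _ hlt D₁ rfl hcD₁ (hDq.to_le hD₁D) ⁅x, c⁆
      (Subgroup.commutator_mem_commutator hx (Subgroup.mem_zpowers c))
    have he : ρ ⁅x, c⁆ * ρ c = ρ (x * c * x⁻¹) := by
      rw [← map_mul, commutatorElement_def, inv_mul_cancel_right]
    have h3 : ρ ⁅x, c⁆ ^ 3 = 1 := by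
      have h4 : (ρ ⁅x, c⁆ * ρ c) ^ 3 = 1 := by
        rw [he, ← map_pow, conj_pow, hc3, mul_one, mul_inv_cancel, map_one]
      rwa [h1.symm.mul_pow, ← map_pow ρ c, hc3, map_one, mul_one] at h4
    have h5 := hqpow (hD₁D (Subgroup.commutator_mem_commutator hx (Subgroup.mem_zpowers c))) rfl h3
    rw [h5, one_mul] at he
    show ρ c * ρ x = ρ x * ρ c
    rw [← map_mul ρ x c, show x * c = (x * c * x⁻¹) * x by group, map_mul ρ (x * c * x⁻¹), ← he]
  haveI hnil : Group.IsNilpotent D := hDq.isNilpotent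
  haveI : Nontrivial D := by
    by_contra h
    rw [not_nontrivial_iff_subsingleton] at h
    apply hne
    intro x hx
    rw [show x = 1 from congrArg Subtype.val (Subsingleton.elim (⟨x, hx⟩ : D) 1), map_one]
    exact Commute.one_right _
  set Φ := (frattini D).map D.subtype with hΦ
  have hΦD : Φ ≤ D := Subgroup.map_subtype_le _
  have hcΦ : c ∈ Subgroup.normalizer (Φ : Set Γ) :=
    Cores.normalizer_le_normalizer_map_subtype D (frattini D) hcD
  have hΦlt : Nat.card Φ < n := by
    rw [hΦ, Subgroup.card_map_of_injective D.subtype_injective, ← hn]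
    exact lt_of_le_of_ne (Subgroup.card_le_card_group _) fun e =>
      Cores.frattini_ne_top (Subgroup.eq_top_of_card_eq _ e)
  have hΦc := IH _ hΦlt Φ rfl hcΦ (hDq.to_le hΦD)
  -- `Φ` is central in the image
  have hcent : ∀ f ∈ Φ, ∀ x ∈ D, Commute (ρ f) (ρ x) := by
    intro f hf
    let S : Subgroup Γ :=
      { carrier := {x | Commute (ρ f) (ρ x)}
        one_mem' := by show Commute _ _; rw [map_one]; exact Commute.one_right _
        mul_mem' := fun {a b} (ha : Commute _ _) (hb : Commute _ _) => by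
          show Commute _ _; rw [map_mul]; exact ha.mul_right hb
        inv_mem' := fun {a} (ha : Commute _ _) => by
          show ρ f * ρ a⁻¹ = ρ a⁻¹ * ρ f
          calc ρ f * ρ a⁻¹ = ρ a⁻¹ * (ρ a * ρ f) * ρ a⁻¹ := by
                simp only [← map_mul]; congr 1; group
            _ = ρ a⁻¹ * (ρ f * ρ a) * ρ a⁻¹ := by rw [ha.eq]
            _ = _ := by simp only [← map_mul]; congr 1; group }
    have hcS : c ∈ S := (hΦc f hf).symm
    have hDS : D₁ ≤ S := by
      rw [hD₁, Subgroup.commutator_le]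
      intro u hu g hg
      obtain ⟨m, rfl⟩ := (isOfFinOrder_of_finite c).mem_powers_iff_mem_zpowers.mpr hg
      show Commute (ρ f) (ρ (u * c ^ m * u⁻¹ * (c ^ m)⁻¹))
      have hfu : u⁻¹ * f * u ∈ Φ := by
        obtain ⟨f', hf', rfl⟩ := hf
        exact ⟨⟨u, hu⟩⁻¹ * f' * ⟨u, hu⟩, by
          simpa using (inferInstance : (frattini D).Normal).conj_mem f' hf' (⟨u, hu⟩⁻¹), rfl⟩
      have h1 : Commute (ρ f) (ρ (u * c ^ m * u⁻¹)) := by
        have h2 : Commute (ρ c ^ m) (ρ (u⁻¹ * f * u)) := (hΦc _ hfu).pow_left m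
        show ρ f * ρ (u * c ^ m * u⁻¹) = ρ (u * c ^ m * u⁻¹) * ρ f
        calc ρ f * ρ (u * c ^ m * u⁻¹) = ρ u * (ρ (u⁻¹ * f * u) * ρ c ^ m) * ρ u⁻¹ := by
              simp only [← map_pow, ← map_mul]; congr 1; group
          _ = ρ u * (ρ c ^ m * ρ (u⁻¹ * f * u)) * ρ u⁻¹ := by rw [h2.eq]
          _ = _ := by simp only [← map_pow, ← map_mul]; congr 1; group
      rw [map_mul]
      exact h1.mul_right (S.inv_mem (S.pow_mem hcS m))
    intro x hx
    exact hDS (htop.symm ▸ hx)
  apply hne
  intro u hu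
  set x := u * (c * u * c⁻¹)⁻¹ with hx
  have hcu : c * u * c⁻¹ ∈ D := (Subgroup.mem_normalizer_iff.mp hcD u).mp hu
  have hxD : x ∈ D := mul_mem hu (inv_mem hcu)
  set y := c * x * c⁻¹ with hy
  have hyD : y ∈ D := (Subgroup.mem_normalizer_iff.mp hcD x).mp hxD
  have hc3' : c * c * c = 1 := by rw [← hc3, pow_succ, sq]
  have hexact : x * y * (c * y * c⁻¹) = 1 := by
    rw [hy, hx]
    have e : c * (c * (c * u * c⁻¹) * c⁻¹) * c⁻¹ = u := by
      calc c * (c * (c * u * c⁻¹) * c⁻¹) * c⁻¹ = (c * c * c) * u * (c * c * c)⁻¹ := by group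
        _ = u := by rw [hc3']; group
    calc u * (c * u * c⁻¹)⁻¹ * (c * (u * (c * u * c⁻¹)⁻¹) * c⁻¹) *
          (c * (c * (u * (c * u * c⁻¹)⁻¹) * c⁻¹) * c⁻¹)
        = u * (c * (c * (c * u * c⁻¹) * c⁻¹) * c⁻¹)⁻¹ := by
          simp only [mul_assoc, mul_inv_rev, inv_inv, inv_mul_cancel_left]
      _ = 1 := by rw [e, mul_inv_cancel]
  have hX1 : ρ x = 1 → Commute (ρ c) (ρ u) := fun e => by
    have h1 : ρ (c * u * c⁻¹) = ρ u := by
      rw [← one_mul (ρ (c * u * c⁻¹)), ← e, ← map_mul, hx, inv_mul_cancel_right]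
    show ρ c * ρ u = ρ u * ρ c
    calc ρ c * ρ u = ρ (c * u * c⁻¹) * ρ c := by
          rw [← map_mul, ← map_mul, inv_mul_cancel_right]
      _ = ρ u * ρ c := by rw [h1]
  apply hX1
  set z := x * y * x⁻¹ * y⁻¹ with hz
  have hzΦ : z ∈ Φ := by
    refine ⟨⁅(⟨x, hxD⟩ : D), ⟨y, hyD⟩⁆, Cores.commutator_le_frattini
      (Subgroup.commutator_mem_commutator (Subgroup.mem_top _) (Subgroup.mem_top _)), ?_⟩
    rw [map_commutatorElement, commutatorElement_def]; rfl
  by_cases hz1 : ρ z = 1
  · -- commuting case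
    have hXY : Commute (ρ x) (ρ y) := by
      show ρ x * ρ y = ρ y * ρ x
      rw [← one_mul (ρ y * ρ x), ← hz1, ← map_mul, ← map_mul, ← map_mul]
      congr 1
      rw [hz]; group
    let B := Subgroup.closure ({x, y} : Set Γ)
    have hBD : B ≤ D := Subgroup.closure_le _ |>.mpr (by
      rintro g (rfl | rfl)
      · exact hxD
      · exact hyD)
    have hBc : ∀ a ∈ B, ∀ b ∈ B, Commute (ρ a) (ρ b) := by
      let Cz : Γ → Prop := fun a => ∀ b ∈ B, Commute (ρ a) (ρ b)
      have key : ∀ g : Γ, Commute (ρ g) (ρ x) → Commute (ρ g) (ρ y) → ∀ b ∈ B, Commute (ρ g) (ρ b) := by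
        intro g hgx hgy b hb
        induction hb using Subgroup.closure_induction with
        | mem b hb => rcases hb with rfl | rfl <;> assumption
        | one => rw [map_one]; exact Commute.one_right _
        | mul a b _ _ ha hb => rw [map_mul]; exact ha.mul_right hb
        | inv a _ ha =>
          show ρ g * ρ a⁻¹ = ρ a⁻¹ * ρ g
          calc ρ g * ρ a⁻¹ = ρ a⁻¹ * (ρ a * ρ g) * ρ a⁻¹ := by simp only [← map_mul]; congr 1; group
            _ = ρ a⁻¹ * (ρ g * ρ a) * ρ a⁻¹ := by rw [ha.eq]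
            _ = _ := by simp only [← map_mul]; congr 1; group
      intro a ha b hb
      have hax : Commute (ρ x) (ρ a) := key x (Commute.refl _) hXY a ha
      have hay : Commute (ρ y) (ρ a) := key y hXY.symm (Commute.refl _) a ha
      exact key a hax.symm hay.symm b hb
    have hcy : c * y * c⁻¹ ∈ B := by
      have : c * y * c⁻¹ = (x * y)⁻¹ := eq_inv_of_mul_eq_one_right hexact
      rw [this]
      exact inv_mem (mul_mem (Subgroup.subset_closure (by simp)) (Subgroup.subset_closure (by simp)))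
    have hcB : c ∈ Subgroup.normalizer (B : Set Γ) := by
      refine Coprime.mem_normalizer_of_conj_smul_eq (Coprime.eq_of_le_of_card_le ?_
        (Coprime.card_conj_smul c B).ge)
      intro g hg
      rw [Coprime.mem_conj_smul] at hg
      have : g = c * (c⁻¹ * g * c) * c⁻¹ := by group
      rw [this]
      generalize c⁻¹ * g * c = g' at hg
      induction hg using Subgroup.closure_induction with
      | mem b hb =>
        rcases hb with rfl | rfl
        · exact Subgroup.subset_closure (by simp [hy])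
        · exact hcy
      | one => simp
      | mul a b _ _ ha hb =>
        rw [show c * (a * b) * c⁻¹ = (c * a * c⁻¹) * (c * b * c⁻¹) by group]
        exact mul_mem ha hb
      | inv a _ ha =>
        rw [show c * a⁻¹ * c⁻¹ = (c * a * c⁻¹)⁻¹ by group]
        exact inv_mem ha
    by_contra hxne
    have hd : ρ (x⁻¹ * y) ≠ 1 := fun e => hxne (by
      refine hqpow hxD rfl ?_
      have hxy : ρ y = ρ x := by rw [← mul_one (ρ x), ← e, ← map_mul, mul_inv_cancel_left]
      have hyy : ρ (c * y * c⁻¹) = ρ x := by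
        rw [map_mul, map_mul, hxy, ← map_mul, ← map_mul, ← hy, hxy]
      calc ρ x ^ 3 = ρ x * ρ x * ρ x := by rw [pow_succ, sq]
        _ = ρ (x * y * (c * y * c⁻¹)) := by rw [map_mul ρ (x * y), map_mul ρ x y, hxy, hyy]
        _ = 1 := by rw [hexact, map_one])
    have hmem : x⁻¹ * y ∈ B := mul_mem (inv_mem (Subgroup.subset_closure (by simp)))
      (Subgroup.subset_closure (by simp))
    obtain ⟨i, hi⟩ := hDq ⟨_, hBD hmem⟩
    obtain ⟨χ, v, hv0, hv, hχ⟩ := exists_weight' ρ B hBc hmem (n := q ^ i)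
      (by rw [Nat.cast_pow]; exact pow_ne_zero _ hqk)
      (by rw [← map_pow, show (x⁻¹ * y) ^ q ^ i = 1 from congrArg Subtype.val hi, map_one]) hd
    haveI := Fintype.ofFinite T
    have hord : orderOf c = 3 := by
      refine @orderOf_eq_prime _ _ _ 3 ⟨Nat.prime_three⟩ hc3 fun e => hxne ?_
      rw [hx, e]; simp
    have hT0 : ∑ a : T, ρ a = 0 := by
      let e : Fin 3 ≃ T := (finCongr hord.symm).trans (finEquivZPowers (isOfFinOrder_of_finite c))
      have he : ∀ i : Fin 3, ((e i : T) : Γ) = c ^ (i : ℕ) := fun i => by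
        simp [e, finEquivZPowers_apply, T]
      rw [← Fintype.sum_equiv e (fun i => ρ (e i : Γ)) _ (fun i => rfl), ← hsum, Fin.sum_univ_three,
        he, he, he]
      simp [sq]
    obtain ⟨a, ha, ha1, hfix⟩ := exists_fix_weight ρ T B hT0 (Subgroup.zpowers_le.mpr hcB) χ v hv0 hv
    -- the weight is fixed by `c`
    classical
    let χe : Γ → k := fun g => if h : g ∈ B then χ ⟨g, h⟩ else 0
    have hxB : x ∈ B := Subgroup.subset_closure (by simp)
    have hyB : y ∈ B := Subgroup.subset_closure (by simp)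
    have hcfix : ∀ g ∈ B, χe (c * g * c⁻¹) = χe g := by
      have hafix : ∀ g ∈ B, χe (a * g * a⁻¹) = χe g := fun g hg => by
        have h' : a * g * a⁻¹ ∈ B :=
          (Subgroup.mem_normalizer_iff.mp (Subgroup.zpowers_le.mpr hcB ha) g).mp hg
        simp only [χe, dif_pos hg, dif_pos h']
        exact hfix ⟨g, hg⟩ h'
      obtain ⟨m, rfl⟩ := (isOfFinOrder_of_finite c).mem_powers_iff_mem_zpowers.mpr ha
      have hm : c ^ m = c ∨ (c ^ m) * (c ^ m) = c := by
        have e : c ^ m = c ^ (m % 3) := by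
          conv_lhs => rw [← Nat.mod_add_div m 3, pow_add, pow_mul, hc3, one_pow, mul_one]
        have : m % 3 ≠ 0 := fun h0 => ha1 (by
          show c ^ m = 1
          rw [e, h0, pow_zero])
        rcases (show m % 3 = 1 ∨ m % 3 = 2 by omega) with h | h
        · left; rw [e, h, pow_one]
        · right; rw [e, h, ← pow_add, show 2 + 2 = 3 + 1 from rfl, pow_add, hc3, one_mul, pow_one]
      rcases hm with e | e
      · intro g hg
        have := hafix g hg
        simpa only [e] using this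
      · intro g hg
        have h' : c ^ m * g * (c ^ m)⁻¹ ∈ B :=
          (Subgroup.mem_normalizer_iff.mp (Subgroup.zpowers_le.mpr hcB ha) g).mp hg
        have h1 := hafix g hg
        have h2 := hafix _ h'
        dsimp only at h1 h2
        rw [show c ^ m * (c ^ m * g * (c ^ m)⁻¹) * (c ^ m)⁻¹ = (c ^ m * c ^ m) * g * (c ^ m * c ^ m)⁻¹ by
          group, e, h1] at h2
        exact h2
    apply hχ
    have e : χe y = χe x := by rw [hy]; exact hcfix x hxB
    simp only [χe, dif_pos hyB, dif_pos hxB] at e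
    refine smul_left_injective k hv0 (show χ ⟨_, hmem⟩ • v = (1 : k) • v from ?_)
    rw [← hv ⟨_, hmem⟩, one_smul, show ((⟨x⁻¹ * y, hmem⟩ : B) : Γ) = x⁻¹ * y from rfl, map_mul,
      End.mul_apply, hv ⟨y, hyB⟩, e, ← hv ⟨x, hxB⟩, ← End.mul_apply, ← map_mul, inv_mul_cancel,
      map_one]
    rfl
  · exfalso
    obtain ⟨i, hi⟩ := hDq ⟨z, hΦD hzΦ⟩
    have hzq : ρ z ^ q = 1 := by
      -- `x ^ q` is in `Φ`, hence central
      have hxq : x ^ q ∈ Φ := ⟨⟨x, hxD⟩ ^ q, Cores.pow_mem_frattini hDq _, rfl⟩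
      have hzc : Commute (ρ z) (ρ x) := hcent z hzΦ x hxD
      have hconj : ∀ m : ℕ, ρ (x ^ m * y * (x ^ m)⁻¹) = ρ z ^ m * ρ y := by
        intro m
        induction m with
        | zero => simp
        | succ m ih =>
          rw [show x ^ (m + 1) * y * (x ^ (m + 1))⁻¹ = x * (x ^ m * y * (x ^ m)⁻¹) * x⁻¹ by
            rw [pow_succ']; group, map_mul, map_mul, ih]
          calc ρ x * (ρ z ^ m * ρ y) * ρ x⁻¹ = ρ z ^ m * (ρ x * ρ y * ρ x⁻¹) := by
                rw [← mul_assoc (ρ x), ← (hzc.pow_left m).eq]; simp only [mul_assoc]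
            _ = ρ z ^ m * (ρ z * ρ y) := by
                simp only [← map_mul]; congr 2; rw [hz]; group
            _ = ρ z ^ (m + 1) * ρ y := by rw [pow_succ, mul_assoc]
      have h1 := hconj q
      rw [map_mul, map_mul, (hcent _ hxq y hyD).eq, mul_assoc, ← map_mul, mul_inv_cancel, map_one,
        mul_one] at h1
      have h2 := congrArg (· * ρ y⁻¹) h1
      simp only [mul_assoc, ← map_mul, mul_inv_cancel, map_one, mul_one] at h2
      exact h2.symm
    obtain ⟨ω, hω1, w, hw0, hw⟩ := exists_eigenvalue_ne_one (ρ z) hqk hzq hz1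
    have hωq : orderOf ω = q := by
      refine orderOf_eq_prime ?_ hω1
      have h1 : ∀ m : ℕ, (ρ z ^ m) w = ω ^ m • w := by
        intro m
        induction m with
        | zero => simp
        | succ m ih => rw [pow_succ', End.mul_apply, ih, map_smul, hw, smul_smul, pow_succ]
      have h2 := h1 q
      rw [hzq, End.one_apply] at h2
      exact smul_left_injective k hw0 (show ω ^ q • w = (1 : k) • w by rw [one_smul, ← h2])
    let U := End.eigenspace (ρ z) ω
    have hinv : ∀ g : Γ, Commute (ρ g) (ρ z) → ∀ u ∈ U, ρ g u ∈ U := fun g hg u hu => by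
      rw [End.mem_eigenspace_iff] at hu ⊢
      rw [← End.mul_apply, ← hg.eq, End.mul_apply, hu, map_smul]
    have hinj : ∀ g : Γ, Function.Injective (ρ g) := fun g a b hab => by
      have := congrArg (ρ g⁻¹) hab
      simpa only [← End.mul_apply, ← map_mul, inv_mul_cancel, map_one, End.one_apply] using this
    have hU := eq_bot_of_quantum (ρ x) (ρ y) (ρ c) U hq5 hωq
      (hinv x (hcent z hzΦ x hxD).symm) (hinv y (hcent z hzΦ y hyD).symm) (hinv c (hΦc z hzΦ))
      (hinj x) (hinj y) (hinj c)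
      (fun u hu => by
        have h1 : ρ z (ρ y (ρ x u)) = ω • ρ y (ρ x u) := End.mem_eigenspace_iff.mp
          (hinv y (hcent z hzΦ y hyD).symm _ (hinv x (hcent z hzΦ x hxD).symm u hu))
        rw [← h1]
        simp only [← End.mul_apply, ← map_mul]
        congr 2
        rw [hz]; group)
      (fun u _ => by
        simp only [← End.mul_apply, ← map_mul]
        congr 2
        rw [hy]; group)
      (fun u _ => by
        simp only [← End.mul_apply, ← map_mul]
        congr 2
        calc x * (y * (c * y)) = x * y * (c * y * c⁻¹) * c := by group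
          _ = c := by rw [hexact, one_mul])
      (fun u _ => by
        have := congrArg (fun e : End k W => e u) hsum
        simpa using this)
    have : w ∈ U := End.mem_eigenspace_iff.mpr hw
    rw [hU] at this
    exact hw0 ((Submodule.mem_bot k).mp this)

end Cfsg.Agent.Lib.Solvable.FPF
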