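import Cfsg.Agent.Lib.Solvable.FPF.Basic
import Cfsg.Agent.Lib.Solvable.FPF.Module
import Cfsg.Agent.Lib.Coprime.Action

/-!
Solvable groups with a fixed-point-free automorphism whose fourth power is trivial.
-/

set_option autoImplicit false

open scoped commutatorElement

universe u

namespace Cfsg.Agent.Lib.Solvable.FPF

open Module Cfsg.Agent.Lib

/-- The linear kernel of the argument. -/
theorem core {k : Type*} [Field k] [IsAlgClosed k] {W : Type*} [AddCommGroup W] [Module k W]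
    [FiniteDimensional k W] {Γ : Type*} [Group Γ] [Finite Γ] (ρ : Γ →* End k W)
    (hρ : Function.Injective ρ) (h2 : (2 : k) ≠ 0) (s : Γ) (hs : s ^ 4 = 1)
    (A : Subgroup Γ) [Fintype A] (hA : A = Subgroup.zpowers s) (hsum : ∑ a : A, ρ a = 0)
    (hrel : ∀ u : W, u + ρ s u + ρ (s ^ 2) u + ρ (s ^ 3) u = 0)
    (Q : Subgroup Γ) [Group.IsNilpotent Q] (hsQ : s ∈ Subgroup.normalizer (Q : Set Γ))
    (hodd : ¬ 2 ∣ Nat.card Q) (hk : (Nat.card Q : k) ≠ 0)
    (hfix : ∀ x ∈ Q, s * x * s⁻¹ = x → x = 1) : ∀ x ∈ Q, Commute (s ^ 2) x := by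
  set T := Subgroup.zpowers (s ^ 2) with hT
  have htt : s ^ 2 * s ^ 2 = 1 := by rw [← pow_add, hs]
  have hTQ : T ≤ Subgroup.normalizer (Q : Set Γ) := by
    rw [hT, Subgroup.zpowers_le]; exact pow_mem hsQ 2
  by_cases hQ0 : ⁅Q, T⁆ = ⊥
  · intro x hx
    have h1 : x ∈ Subgroup.centralizer (T : Set Γ) := by
      rw [Subgroup.commutator_eq_bot_iff_le_centralizer] at hQ0; exact hQ0 hx
    exact Subgroup.mem_centralizer_iff.mp h1 _ (Subgroup.mem_zpowers _)
  exfalso
  set Q0 := ⁅Q, T⁆ with hQ0def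
  have hQ0le : Q0 ≤ Q := Coprime.commutator_le_of_le_normalizer hTQ
  have hcop : (Nat.card T).Coprime (Nat.card Q) := by
    have h1 : Nat.card T ∣ 2 := by
      rw [hT, Nat.card_zpowers]
      exact orderOf_dvd_of_pow_eq_one (by rw [← pow_mul]; exact hs)
    exact ((Nat.prime_two.coprime_iff_not_dvd).mpr hodd).coprime_dvd_left h1
  have hQ0T : ⁅Q0, T⁆ = Q0 :=
    Coprime.commutator_commutator_eq hTQ hcop (Or.inl (Coprime.isSolvable_zpowers _))
  have hsQ0 : s ∈ Subgroup.normalizer (Q0 : Set Γ) := by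
    have hsT : (T.map (MulAut.conj s).toMonoidHom) = T := by
      rw [hT, MonoidHom.map_zpowers]
      congr 1
      simp [pow_succ, mul_assoc]
    rw [Subgroup.mem_normalizer_iff_map_conj_eq] at hsQ ⊢
    rw [hQ0def, Subgroup.map_commutator, hsQ]
    exact congrArg _ hsT
  haveI : Group.IsNilpotent Q0 :=
    Cores.isNilpotent_of_injective (Subgroup.inclusion hQ0le) (Subgroup.inclusion_injective hQ0le)
  haveI : Nontrivial Q0 := (Subgroup.nontrivial_iff_ne_bot _).mpr hQ0
  set Z := (Subgroup.center Q0).map Q0.subtype with hZdef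
  have hZQ : Z ≤ Q := (Subgroup.map_subtype_le _).trans hQ0le
  have hZcomm : ∀ a ∈ Z, ∀ b ∈ Q0, Commute a b := by
    rintro _ ⟨a, ha, rfl⟩ b hb
    exact (congrArg Subtype.val (Subgroup.mem_center_iff.mp ha ⟨b, hb⟩)).symm
  have hsZ : s ∈ Subgroup.normalizer (Z : Set Γ) :=
    Cores.normalizer_le_normalizer_map_subtype Q0 (Subgroup.center Q0) hsQ0
  have hcardZ : (Nat.card Z : k) ≠ 0 := by
    obtain ⟨c, hc⟩ := Subgroup.card_dvd_of_le hZQ
    intro e
    apply hk
    rw [hc, Nat.cast_mul, e, zero_mul]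
  -- the involution centralizes `Z`
  have hτZ : ∀ z ∈ Z, s ^ 2 * z = z * s ^ 2 := by
    intro z hz
    have hzt : s ^ 2 * z * (s ^ 2)⁻¹ ∈ Z :=
      (Subgroup.mem_normalizer_iff.mp (pow_mem hsZ 2) z).mp hz
    set w := s ^ 2 * z * (s ^ 2)⁻¹ * z⁻¹ with hw
    have hwZ : w ∈ Z := mul_mem hzt (inv_mem hz)
    by_contra hne
    have hw1 : ρ w ≠ 1 := fun e => hne (by
      have h1 : w = 1 := hρ (e.trans (map_one ρ).symm)
      rw [hw, mul_inv_eq_one, mul_inv_eq_iff_eq_mul] at h1
      exact h1)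
    obtain ⟨χ, v, hv0, hv, hχ⟩ := exists_weight ρ Z
      (fun a ha b hb => hZcomm a ha b (Subgroup.map_subtype_le _ hb)) hcardZ hwZ hw1
    have hmul : ∀ a b : Z, χ (a * b) = χ a * χ b := fun a b => by
      refine smul_left_injective k hv0 ?_
      show χ (a * b) • v = (χ a * χ b) • v
      rw [← hv, Subgroup.coe_mul, map_mul, End.mul_apply, hv b, map_smul, hv a, smul_smul, mul_comm]
    obtain ⟨a, haA, ha1, ha⟩ := exists_fix_weight ρ A Z hsum
      (by rw [hA, Subgroup.zpowers_le]; exact hsZ) χ v hv0 hv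
    have htwice : ∀ y : Z, ∀ h : a * a * y * (a * a)⁻¹ ∈ Z, χ ⟨a * a * y * (a * a)⁻¹, h⟩ = χ y := by
      intro y h
      have haN : a ∈ Subgroup.normalizer (Z : Set Γ) := by
        rw [hA] at haA
        exact (Subgroup.zpowers_le.mpr hsZ) haA
      have h' : a * y * a⁻¹ ∈ Z := (Subgroup.mem_normalizer_iff.mp haN y).mp y.2
      rw [← ha y h', ← ha ⟨_, h'⟩ ((Subgroup.mem_normalizer_iff.mp haN _).mp h')]
      congr 1
      exact Subtype.ext (by simp [mul_assoc])
    have hfixτ : χ ⟨_, hzt⟩ = χ ⟨z, hz⟩ := by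
      rw [hA] at haA
      obtain ⟨i, hi0⟩ := (isOfFinOrder_of_finite s).mem_powers_iff_mem_zpowers.mpr haA
      dsimp only at hi0
      subst hi0
      have hpow : s ^ i = s ^ (i % 4) := by
        conv_lhs => rw [← Nat.mod_add_div i 4, pow_add, pow_mul, hs, one_pow, mul_one]
      have hi : i % 4 = 1 ∨ i % 4 = 2 ∨ i % 4 = 3 := by
        have : i % 4 ≠ 0 := fun e => ha1 (by rw [show s ^ i = 1 by rw [hpow, e, pow_zero]])
        omega
      rcases hi with e | e | e <;> rw [e] at hpow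
      · have e2 : s ^ i * s ^ i = s ^ 2 := by rw [hpow, ← pow_add]
        simpa only [e2] using htwice ⟨z, hz⟩ (by rw [e2]; exact hzt)
      · simpa only [hpow] using ha ⟨z, hz⟩ (by rw [hpow]; exact hzt)
      · have e2 : s ^ i * s ^ i = s ^ 2 := by
          rw [hpow, ← pow_add, show 3 + 3 = 4 + 2 from rfl, pow_add, hs, one_mul]
        simpa only [e2] using htwice ⟨z, hz⟩ (by rw [e2]; exact hzt)
    apply hχ
    have h1 : χ ⟨w, hwZ⟩ * χ ⟨z, hz⟩ = χ ⟨_, hzt⟩ := by
      rw [← hmul]; congr 1; exact Subtype.ext (by simp [hw])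
    rw [hfixτ] at h1
    have hz0 : χ ⟨z, hz⟩ ≠ 0 := fun e => hv0 (by
      have h2 := hv ⟨z, hz⟩
      rw [e, zero_smul] at h2
      have : ρ z⁻¹ (ρ z v) = v := by rw [← End.mul_apply, ← map_mul, inv_mul_cancel, map_one]; rfl
      rw [← this, h2, map_zero])
    exact (mul_eq_right₀ hz0).mp h1
  obtain ⟨⟨z, hz⟩, hz1'⟩ := Subgroup.ne_bot_iff_exists_ne_one.mp (show Z ≠ ⊥ by
    rw [hZdef, Ne, Subgroup.map_eq_bot_iff_of_injective _ Q0.subtype_injective]
    exact Group.IsNilpotent.center_ne_bot _)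
  have hz1 : z ≠ 1 := fun e => hz1' (Subtype.ext e)
  -- `s` inverts `z`
  have hinv : s * z * s⁻¹ = z⁻¹ := by
    have hszZ : s * z * s⁻¹ ∈ Z := (Subgroup.mem_normalizer_iff.mp hsZ z).mp hz
    have hc : Commute (s * z * s⁻¹) z := hZcomm _ hszZ z (Subgroup.map_subtype_le _ hz)
    have := hfix (s * z * s⁻¹ * z) (hZQ (mul_mem hszZ hz)) (by
      calc s * (s * z * s⁻¹ * z) * s⁻¹ = (s ^ 2 * z) * (s⁻¹ * z * s⁻¹) := by rw [sq]; group
        _ = z * (s * z * s⁻¹) := by rw [hτZ z hz, sq]; group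
        _ = _ := hc.eq.symm)
    exact eq_inv_of_mul_eq_one_left this
  have hρz : ρ z ≠ 1 := fun e => hz1 (hρ (e.trans (map_one ρ).symm))
  have hpowz : z ^ Nat.card Q = 1 := by
    have h1 := pow_card_eq_one' (x := (⟨z, hZQ hz⟩ : Q))
    exact congrArg Subtype.val h1
  obtain ⟨μ, hμ, v, hv0, hv⟩ := exists_eigenvalue_ne_one (ρ z) hk
    (by rw [← map_pow, hpowz, map_one]) hρz
  have hμn : μ ^ Nat.card Q = 1 := by
    have h1 : ∀ i : ℕ, (ρ z ^ i) v = μ ^ i • v := by
      intro i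
      induction i with
      | zero => simp
      | succ i ih => rw [pow_succ', End.mul_apply, ih, map_smul, hv, smul_smul, pow_succ]
    have h2 := h1 (Nat.card Q)
    rw [← map_pow, hpowz, map_one, End.one_apply] at h2
    exact smul_left_injective k hv0 (show μ ^ Nat.card Q • v = (1 : k) • v by rw [one_smul, ← h2])
  let U := End.eigenspace (ρ z) μ
  have hU : ∀ {g : Γ}, Commute g z → ∀ u ∈ U, ρ g u ∈ U := fun {g} hg u hu => by
    rw [End.mem_eigenspace_iff] at hu ⊢
    rw [← End.mul_apply, ← map_mul, ← hg.eq, map_mul, End.mul_apply, hu, map_smul]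
  have hτU : ∀ u ∈ U, ρ (s ^ 2) u = u → u = 0 := by
    intro u hu hfx
    have h3 : ρ (s ^ 3) u = ρ s u := by
      rw [show s ^ 3 = s * s ^ 2 by rw [← pow_succ'], map_mul, End.mul_apply, hfx]
    have h4 := hrel u
    rw [hfx, h3] at h4
    have h5 : ρ s u = -u := by
      have : (2 : k) • (u + ρ s u) = 0 := by rw [two_smul]; rw [← h4]; abel
      exact eq_neg_of_add_eq_zero_right ((smul_eq_zero.mp this).resolve_left h2)
    have hu' := End.mem_eigenspace_iff.mp hu
    have hzi : ρ z⁻¹ u = μ⁻¹ • u := by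
      have : ρ z⁻¹ (ρ z u) = u := by rw [← End.mul_apply, ← map_mul, inv_mul_cancel, map_one]; rfl
      rw [hu', map_smul] at this
      conv_rhs => rw [← this]
      rw [smul_smul, inv_mul_cancel₀, one_smul]
      intro e
      rw [e, zero_pow Nat.card_pos.ne'] at hμn
      exact zero_ne_one hμn
    have h6 : ρ z (ρ s u) = ρ s (ρ z⁻¹ u) := by
      rw [← End.mul_apply, ← map_mul, ← End.mul_apply, ← map_mul]
      congr 2
      have h7 : z = s * z⁻¹ * s⁻¹ := by
        have := congrArg (fun x => x⁻¹) hinv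
        simp only [mul_inv_rev, inv_inv] at this
        rw [← mul_assoc] at this
        exact this.symm
      conv_lhs => rw [h7]
      group
    rw [h5, map_neg, hu', hzi, map_smul, h5, smul_neg, neg_inj] at h6
    by_contra hu0
    have h8 : μ = μ⁻¹ := smul_left_injective k hu0 h6
    have h9 : μ ^ 2 = 1 := by
      rw [sq]; nth_rewrite 2 [h8]
      refine mul_inv_cancel₀ fun e => ?_
      rw [e, zero_pow Nat.card_pos.ne'] at hμn
      exact zero_ne_one hμn
    apply hμ
    obtain ⟨m, hm⟩ := Nat.odd_iff.mpr (Nat.two_dvd_ne_zero.mp hodd)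
    rw [hm, pow_succ, pow_mul, h9, one_pow, one_mul] at hμn
    exact hμn
  have hzc : ∀ g ∈ Q0, Commute g z := fun g hg => (hZcomm z hz g hg).symm
  have hneg : ∀ u ∈ U, ρ (s ^ 2) u = -u := by
    intro u hu
    refine eq_neg_of_add_eq_zero_left (hτU _ (add_mem (hU (hτZ z hz) u hu) hu) ?_)
    rw [map_add, ← End.mul_apply, ← map_mul, htt, map_one, End.one_apply, add_comm]
  let K : Subgroup Γ :=
    { carrier := {g | ∀ u ∈ U, ρ g u = u}
      one_mem' := fun u _ => by rw [map_one]; rfl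
      mul_mem' := fun {a b} ha hb u hu => by rw [map_mul, End.mul_apply, hb u hu, ha u hu]
      inv_mem' := fun {a} ha u hu => by
        conv_lhs => rw [← ha u hu]
        rw [← End.mul_apply, ← map_mul, inv_mul_cancel, map_one]; rfl }
  have hQ0K : Q0 ≤ K := by
    rw [← hQ0T, Subgroup.commutator_le]
    intro g hg t ht
    obtain ⟨i, rfl⟩ := (isOfFinOrder_of_finite (s ^ 2)).mem_powers_iff_mem_zpowers.mpr ht
    have ht' : (s ^ 2) ^ i = 1 ∨ (s ^ 2) ^ i = s ^ 2 := by
      rcases Nat.even_or_odd i with ⟨m, hm⟩ | ⟨m, hm⟩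
      · left; rw [hm, ← two_mul, pow_mul, sq, htt, one_pow]
      · right; rw [hm, pow_succ, pow_mul, sq, htt, one_pow, one_mul]
    rcases ht' with e | e <;> (show ⁅g, (s ^ 2) ^ i⁆ ∈ K) <;> rw [e]
    · rw [commutatorElement_one_right]; exact one_mem _
    · intro u hu
      have hti : (s ^ 2)⁻¹ = s ^ 2 := inv_eq_of_mul_eq_one_right htt
      rw [commutatorElement_def, hti, map_mul, map_mul, map_mul, End.mul_apply, End.mul_apply,
        End.mul_apply, hneg u hu, map_neg, map_neg, hneg _ (hU ((hzc g hg).inv_left) u hu), neg_neg,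
        ← End.mul_apply, ← map_mul, mul_inv_cancel, map_one]
      rfl
  have h1 := hQ0K (Subgroup.map_subtype_le _ hz) v (End.mem_eigenspace_iff.mpr hv)
  rw [hv] at h1
  exact hμ (smul_left_injective k hv0 (show μ • v = (1 : k) • v by rw [one_smul]; exact h1))

/-- The action on an elementary abelian group. -/
theorem core_mulAut {V : Type*} [CommGroup V] [Finite V] {s : ℕ} [Fact s.Prime] (hs2 : s ≠ 2)
    (hV : ∀ v : V, v ^ s = 1) (σ : MulAut V) (hσ : σ ^ 4 = 1) (hfpf : ∀ v, σ v = v → v = 1)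
    (Q : Subgroup (MulAut V)) [Group.IsNilpotent Q] (hsQ : σ ∈ Subgroup.normalizer (Q : Set (MulAut V)))
    (hodd : ¬ 2 ∣ Nat.card Q) (hk : ¬ s ∣ Nat.card Q)
    (hfix : ∀ x ∈ Q, σ * x * σ⁻¹ = x → x = 1) : ∀ x ∈ Q, Commute (σ ^ 2) x := by
  classical
  obtain ⟨ρ, hρ, hnorm⟩ := exists_representation (s := s) hV
  by_cases hσ2 : σ ^ 2 = 1
  · exact fun x _ => by rw [hσ2]; exact Commute.one_left x
  have hord : orderOf σ = 4 := orderOf_eq_prime_pow (p := 2) (n := 1) (by simpa using hσ2) hσ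
  haveI := Fintype.ofFinite (Subgroup.zpowers σ)
  let e : Fin 4 ≃ Subgroup.zpowers σ :=
    (finCongr hord.symm).trans (finEquivZPowers (isOfFinOrder_of_finite σ))
  have he : ∀ i : Fin 4, ((e i : Subgroup.zpowers σ) : MulAut V) = σ ^ (i : ℕ) := fun i => by
    simp [e, finEquivZPowers_apply]
  have hprod : ∀ v : V, ∏ i : Fin 4, (σ ^ (i : ℕ)) v = 1 := fun v => by
    rw [show (∏ i : Fin 4, (σ ^ (i : ℕ)) v) = ∏ a : Subgroup.zpowers σ, (a : MulAut V) v from
      Fintype.prod_equiv e _ _ fun i => by rw [he]]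
    refine hfpf _ ?_
    rw [map_prod]
    exact Fintype.prod_equiv (Equiv.mulLeft (⟨σ, Subgroup.mem_zpowers σ⟩ : Subgroup.zpowers σ)) _ _
      (fun _ => rfl)
  have hfin : ∑ i : Fin 4, ρ (σ ^ (i : ℕ)) = 0 := by
    have := hnorm (fun i : Fin 4 => σ ^ (i : ℕ)) (fun i : Fin 0 => (1 : MulAut V))
      (fun v => by rw [hprod v]; simp)
    simpa using this
  have hsum : ∑ a : Subgroup.zpowers σ, ρ a = 0 := by
    rw [← hfin]
    exact (Fintype.sum_equiv e _ _ fun i => by rw [he]).symm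
  have hrange : ∑ i ∈ Finset.range 4, ρ (σ ^ i) = 0 := by
    rw [← hfin, Fin.sum_univ_eq_sum_range (fun i => ρ (σ ^ i))]
  refine core ρ hρ ?_ σ hσ _ rfl hsum (fun u => ?_) Q hsQ hodd ?_ hfix
  · have : ((2 : ℕ) : AlgebraicClosure (ZMod s)) ≠ 0 := fun e =>
      hs2 ((Nat.prime_dvd_prime_iff_eq Fact.out Nat.prime_two).mp
        ((CharP.cast_eq_zero_iff (AlgebraicClosure (ZMod s)) s 2).mp e))
    simpa using this
  · have := congrArg (fun e : End _ _ => e u) hrange
    simpa [Finset.sum_range_succ] using this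
  · exact fun e => hk ((CharP.cast_eq_zero_iff (AlgebraicClosure (ZMod s)) s _).mp e)

section Group

variable {G : Type u} [Group G] [Finite G]

/-- `g ↦ σ²(g)` is trivial modulo the Fitting subgroup. -/
theorem sq_mod_fitting : ∀ (n : ℕ) (G : Type u) [Group G] [Finite G], Nat.card G = n →
    Group.IsSolvable G → ∀ σ : MulAut G, σ ^ 4 = 1 → (∀ g, σ g = g → g = 1) →
    ∀ g, (σ ^ 2) g * g⁻¹ ∈ Cfsg.fittingSubgroup G := by
  intro n
  induction n using Nat.strongRecOn with
  | ind n IH =>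
  intro G _ _ hn hsol σ hσ hfpf g
  classical
  rcases subsingleton_or_nontrivial G with hG | hG
  · rw [Subsingleton.elim ((σ ^ 2) g * g⁻¹) 1]; exact one_mem _
  haveI : Fact (Nat.Prime 2) := ⟨Nat.prime_two⟩
  have hoddG : ¬ 2 ∣ Nat.card G := card_mod_prime (k := 2) σ (by simpa using hσ) hfpf
  set F := Cfsg.fittingSubgroup G with hF
  -- an elementary abelian characteristic subgroup
  obtain ⟨s, hs, hs0⟩ : ∃ s : ℕ, s.Prime ∧ Cfsg.pCore s G ≠ ⊥ := by
    by_contra h
    push Not at h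
    exact Cores.fittingSubgroup_ne_bot_of_isSolvable hsol
      (le_bot_iff.mp (Cores.fittingSubgroup_le_of_pCore_le fun p hp => (h p hp).le))
  haveI := Fact.mk hs
  have hsp := Cores.pCore_isPGroup s G
  have hs2 : s ≠ 2 := by
    rintro rfl
    haveI := (Subgroup.nontrivial_iff_ne_bot _).mpr hs0
    exact hoddG ((hsp.card_eq_or_dvd.resolve_left
      fun h => hs0 (Subgroup.card_eq_one.mp h)).trans (Subgroup.card_subgroup_dvd_card _))
  let Z₁ := (Subgroup.center (Cfsg.pCore s G)).map (Cfsg.pCore s G).subtype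
  have hZ₁ : ∀ x ∈ Z₁, ∀ y ∈ Z₁, Commute x y := by
    rintro _ ⟨a, ha, rfl⟩ _ ⟨b, hb, rfl⟩
    exact (congrArg Subtype.val (Subgroup.mem_center_iff.mp hb a))
  let V : Subgroup G :=
    { carrier := {x | x ∈ Z₁ ∧ x ^ s = 1}
      one_mem' := ⟨one_mem _, one_pow _⟩
      mul_mem' := fun {a b} ha hb => ⟨mul_mem ha.1 hb.1, by
        rw [(hZ₁ a ha.1 b hb.1).mul_pow, ha.2, hb.2, mul_one]⟩
      inv_mem' := fun {a} ha => ⟨inv_mem ha.1, by rw [inv_pow, ha.2, inv_one]⟩ }
  haveI hVc : V.Characteristic := Cores.characteristic_of_map_le fun φ => by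
    rintro _ ⟨x, hx, rfl⟩
    refine ⟨?_, ?_⟩
    · obtain ⟨⟨a, ha⟩, hac, rfl⟩ := hx.1
      exact ⟨⟨φ a, apply_mem_of_characteristic φ _ ha⟩, Subgroup.mem_center_iff.mpr fun y => Subtype.ext (by
        have h1 := congrArg Subtype.val (Subgroup.mem_center_iff.mp hac
          ⟨φ.symm y, apply_mem_of_characteristic (φ.symm : MulAut G) _ y.2⟩)
        have h2 := congrArg φ h1
        simpa using h2), rfl⟩
    · show φ x ^ s = 1
      rw [← map_pow, hx.2, map_one]
  have hV0 : V ≠ ⊥ := by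
    haveI := (Subgroup.nontrivial_iff_ne_bot _).mpr hs0
    haveI := hsp.center_nontrivial
    have hd : s ∣ Nat.card (Subgroup.center (Cfsg.pCore s G)) :=
      ((hsp.to_subgroup _).card_eq_or_dvd).resolve_left fun h =>
        (Finite.one_lt_card (α := Subgroup.center (Cfsg.pCore s G))).ne' h
    obtain ⟨x, hx⟩ := exists_prime_orderOf_dvd_card' s hd
    intro e
    have hxs : x ^ s = 1 := orderOf_dvd_iff_pow_eq_one.mp hx.dvd
    have h1 : ((x : Cfsg.pCore s G) : G) ∈ V := ⟨⟨x, x.2, rfl⟩, by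
      rw [← SubmonoidClass.coe_pow, ← SubmonoidClass.coe_pow, hxs]; rfl⟩
    rw [e, Subgroup.mem_bot] at h1
    have : x = 1 := Subtype.ext (Subtype.ext h1)
    rw [this, orderOf_one] at hx
    exact hs.ne_one hx.symm
  have hVσ : ∀ v ∈ V, σ v ∈ V := fun v hv => apply_mem_of_characteristic σ V hv
  have hVF : V ≤ F := (show V ≤ Cfsg.pCore s G from fun x hx => Subgroup.map_subtype_le _ hx.1).trans
    (Cores.pCore_le_fittingSubgroup s)
  letI : CommGroup V := { (inferInstance : Group V) with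
    mul_comm := fun a b => Subtype.ext (hZ₁ a a.2.1 b b.2.1).eq }
  let π := QuotientGroup.mk' V
  let S : Subgroup G :=
    MonoidHom.eqLocus ((QuotientGroup.mk' F).comp (σ ^ 2).toMonoidHom) (QuotientGroup.mk' F)
  have hS : ∀ x, x ∈ S ↔ (σ ^ 2) x * x⁻¹ ∈ F := fun x => by
    show (((σ ^ 2) x : G) : G ⧸ F) = (x : G ⧸ F) ↔ _
    rw [QuotientGroup.eq_iff_div_mem, div_eq_mul_inv]
  have hFS : F ≤ S := fun x hx => (hS x).mpr
    (mul_mem (apply_mem_of_characteristic (σ ^ 2) F hx) (inv_mem hx))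
  -- the automorphism of `V`
  let σV : MulAut V := MulEquiv.ofBijective
    ({ toFun := fun v => ⟨σ v, hVσ v v.2⟩
       map_one' := Subtype.ext (map_one σ)
       map_mul' := fun a b => Subtype.ext (map_mul σ _ _) } : V →* V)
    (Finite.injective_iff_bijective.mp fun a b hab =>
      Subtype.ext (σ.injective (congrArg Subtype.val hab)))
  let ψ : G →* MulAut V := MulAut.conjNormal
  have hσV : ∀ (i : ℕ) (v : V), ((σV ^ i) v : G) = (σ ^ i) v := by
    intro i
    induction i with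
    | zero => exact fun _ => rfl
    | succ i ih => intro v; rw [pow_succ, pow_succ, MulAut.mul_apply, MulAut.mul_apply, ih]; rfl
  have hψσ : ∀ x, σV * ψ x * σV⁻¹ = ψ (σ x) := by
    intro x
    rw [mul_inv_eq_iff_eq_mul]
    refine MulEquiv.ext fun v => Subtype.ext ?_
    show σ ((ψ x v : V) : G) = ((ψ (σ x) (σV v) : V) : G)
    simp only [ψ, MulAut.conjNormal_apply, map_mul, map_inv]
    rfl
  have hψ1 : ∀ x, ψ x = 1 → x ∈ Subgroup.centralizer (V : Set G) := fun x hx =>
    Subgroup.mem_centralizer_iff.mpr fun v hv => by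
      have h1 : x * v * x⁻¹ = v := by
        have := congrArg Subtype.val (DFunLike.congr_fun hx (⟨v, hv⟩ : V))
        simpa [ψ, MulAut.conjNormal_apply] using this
      exact (mul_inv_eq_iff_eq_mul.mp h1).symm
  have hM : ∀ q : ℕ, q.Prime → (Cfsg.pCore q (G ⧸ V)).comap π ≤ S := by
    intro q hq
    haveI := Fact.mk hq
    set M := (Cfsg.pCore q (G ⧸ V)).comap π with hMdef
    haveI : M.Normal := Subgroup.Normal.comap inferInstance π
    have hMσ : ∀ x ∈ M, σ x ∈ M := fun x hx => by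
      have h1 := apply_mem_of_characteristic (quotAut σ V hVσ) (Cfsg.pCore q (G ⧸ V))
        (show ((x : G) : G ⧸ V) ∈ Cfsg.pCore q (G ⧸ V) from hx)
      rw [quotAut_mk] at h1
      exact h1
    have hVM : V ≤ M := fun x hx => by
      rw [hMdef, Subgroup.mem_comap, show π x = 1 from (QuotientGroup.eq_one_iff x).mpr hx]
      exact one_mem _
    have hMq : ∀ x ∈ M, ∃ i, x ^ q ^ i ∈ V := fun x hx => by
      obtain ⟨i, hi⟩ := Cores.pCore_isPGroup q (G ⧸ V) ⟨π x, hx⟩
      refine ⟨i, (QuotientGroup.eq_one_iff _).mp ?_⟩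
      have := congrArg Subtype.val hi
      simpa [π] using this
    by_cases hqs : q = s
    · subst hqs
      have hMp : IsPGroup q M := fun x => by
        obtain ⟨i, hi⟩ := hMq x x.2
        refine ⟨i + 1, Subtype.ext ?_⟩
        rw [SubmonoidClass.coe_pow, pow_succ, pow_mul]
        exact hi.2
      exact ((Cores.le_pCore inferInstance hMp).trans (Cores.pCore_le_fittingSubgroup q)).trans hFS
    intro x hx
    rw [hS]
    set L := M.map ψ with hL
    have hLq : IsPGroup q L := by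
      rintro ⟨_, y, hy, rfl⟩
      obtain ⟨i, hi⟩ := hMq y hy
      refine ⟨i, Subtype.ext ?_⟩
      show ψ y ^ q ^ i = 1
      rw [← map_pow]
      refine MulEquiv.ext fun v => Subtype.ext ?_
      simp only [ψ, MulAut.conjNormal_apply, MulAut.one_apply]
      rw [(hZ₁ _ hi.1 _ v.2.1).eq, mul_inv_cancel_right]
    haveI := hLq.isNilpotent
    have hLdvd : Nat.card L ∣ Nat.card G :=
      (Subgroup.card_map_dvd M ψ).trans (Subgroup.card_subgroup_dvd_card M)
    have hLs : ¬ s ∣ Nat.card L := fun hd => by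
      obtain ⟨j, hj⟩ := IsPGroup.iff_card.mp hLq
      rw [hj] at hd
      exact hqs ((Nat.prime_dvd_prime_iff_eq hs hq).mp (hs.dvd_of_dvd_pow hd)).symm
    have hcomm := core_mulAut hs2 (fun v : V => Subtype.ext v.2.2) σV
      (MulEquiv.ext fun v => Subtype.ext (by rw [hσV, hσ]; rfl))
      (fun v hv => Subtype.ext (hfpf v (congrArg Subtype.val hv))) L
      (Coprime.mem_normalizer_of_conj_smul_eq (Coprime.eq_of_le_of_card_le (fun y hy => by
        rw [Coprime.mem_conj_smul] at hy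
        obtain ⟨m, hm, hmy⟩ := hy
        refine ⟨σ m, hMσ m hm, ?_⟩
        rw [← hψσ, hmy]; group) (Coprime.card_conj_smul σV L).ge))
      (fun hd => hoddG (hd.trans hLdvd)) hLs
      (by
        rintro _ ⟨m, hm, rfl⟩ hfixm
        rw [hψσ] at hfixm
        have hmK : m ∈ M ⊓ ψ.ker := by
          refine mem_of_inv_mul_mem hfpf (fun y hy => Subgroup.mem_inf.mpr ⟨hMσ y (Subgroup.mem_inf.mp hy).1, ?_⟩) (Subgroup.mem_inf.mpr ⟨mul_mem (inv_mem hm) (hMσ m hm), ?_⟩)
          · rw [MonoidHom.mem_ker, ← hψσ, MonoidHom.mem_ker.mp (Subgroup.mem_inf.mp hy).2]; group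
          · rw [MonoidHom.mem_ker, map_mul, map_inv, hfixm, inv_mul_cancel]
        exact (Subgroup.mem_inf.mp hmK).2)
    have hx2 : ψ ((σ ^ 2) x) = ψ x := by
      have h1 := hcomm (ψ x) ⟨x, hx, rfl⟩
      have h2 : σV ^ 2 * ψ x * (σV ^ 2)⁻¹ = ψ ((σ ^ 2) x) := by
        rw [sq, sq, MulAut.mul_apply, ← hψσ, ← hψσ]; group
      rw [← h2, h1.eq, mul_inv_cancel_right]
    let C := Subgroup.centralizer (V : Set G) ⊓ M
    haveI : C.Normal := inferInstance
    have hC : Group.IsNilpotent C := by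
      haveI := (Cores.pCore_isPGroup q (G ⧸ V)).isNilpotent
      refine Subgroup.isNilpotent_of_ker_le_center
        ((π.comp C.subtype).codRestrict (Cfsg.pCore q (G ⧸ V)) fun c => (Subgroup.mem_inf.mp c.2).2) ?_
      intro c hc
      rw [MonoidHom.mem_ker] at hc
      have hcV : (c : G) ∈ V := (QuotientGroup.eq_one_iff _).mp (congrArg Subtype.val hc)
      exact Subgroup.mem_center_iff.mpr fun d => Subtype.ext
        (Subgroup.mem_centralizer_iff.mp d.2.1 c hcV).symm
    refine Cores.le_fittingSubgroup inferInstance hC (Subgroup.mem_inf.mpr ⟨hψ1 _ ?_, mul_mem ?_ (inv_mem hx)⟩)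
    · rw [map_mul, map_inv, hx2, mul_inv_cancel]
    · rw [sq, MulAut.mul_apply]; exact hMσ _ (hMσ x hx)
  -- the preimage of the Fitting subgroup of `G / V`
  have hMF : (Cfsg.fittingSubgroup (G ⧸ V)).comap π ≤ S := by
    intro x hx
    rw [Subgroup.mem_comap, Cores.fittingSubgroup_eq_iSup] at hx
    have h1 : ⨆ p : Nat.Primes, Cfsg.pCore (p : ℕ) (G ⧸ V) ≤ S.map π := iSup_le fun p y hy => by
      obtain ⟨m, rfl⟩ := QuotientGroup.mk'_surjective V y
      exact ⟨m, hM p p.2 hy, rfl⟩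
    obtain ⟨m, hm, hmx⟩ := h1 hx
    have h2 : m⁻¹ * x ∈ S := hFS (hVF ((QuotientGroup.eq).mp hmx))
    simpa using mul_mem hm h2
  set d := (σ ^ 2) g * g⁻¹ with hd
  have hdM : d ∈ S := hMF (by
    have hlt : Nat.card (G ⧸ V) < n := by
      rw [← hn, Subgroup.card_eq_card_quotient_mul_card_subgroup V]
      exact lt_mul_of_one_lt_right Nat.card_pos (V.one_lt_card_iff_ne_bot.mpr hV0)
    have hq4 : quotAut σ V hVσ ^ 4 = 1 := MulEquiv.ext fun y => by
      induction y using QuotientGroup.induction_on with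
      | H y => rw [quotAut_pow_mk, hσ]; rfl
    have h1 := IH _ hlt (G ⧸ V) rfl
      (Coprime.isSolvable_of_surjective' (QuotientGroup.mk'_surjective V) hsol)
      (quotAut σ V hVσ) hq4 (quotAut_fpf σ hfpf V hVσ) (g : G ⧸ V)
    rw [quotAut_pow_mk] at h1
    exact h1)
  rw [hS] at hdM
  have hdd : (σ ^ 2) d = d⁻¹ := by
    rw [hd, map_mul, map_inv, ← MulAut.mul_apply, ← pow_add, hσ, MulAut.one_apply, mul_inv_rev,
      inv_inv]
  rw [hdd] at hdM
  haveI : F.Normal := Cores.fittingSubgroup_normal G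
  have h2 : (d : G ⧸ F) ^ 2 = 1 := by
    rw [← QuotientGroup.mk_pow, QuotientGroup.eq_one_iff]
    have := inv_mem hdM
    simpa [sq] using this
  rw [← QuotientGroup.eq_one_iff, ← orderOf_eq_one_iff]
  refine Nat.eq_one_of_dvd_coprimes ((Nat.prime_two.coprime_iff_not_dvd).mpr hoddG)
    (orderOf_dvd_of_pow_eq_one h2) ((orderOf_dvd_natCard _).trans ?_)
  exact Subgroup.card_quotient_dvd_card F

/-- The derived subgroup of a solvable group with such an automorphism is nilpotent. -/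
theorem isNilpotent_commutator_of_order_four (hsol : Group.IsSolvable G) (σ : MulAut G)
    (hσ : σ ^ 4 = 1) (hfpf : ∀ g, σ g = g → g = 1) : Group.IsNilpotent (commutator G) := by
  refine Cores.isNilpotent_of_le ?_
  set F := Cfsg.fittingSubgroup G with hF
  haveI : F.Normal := Cores.fittingSubgroup_normal G
  have hFσ : ∀ n ∈ F, σ n ∈ F := fun n hn => apply_mem_of_characteristic σ F hn
  set a := quotAut σ F hFσ with ha
  have ha2 : ∀ y, a (a y) = y := fun y => by
    induction y using QuotientGroup.induction_on with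
    | H y =>
      rw [ha, quotAut_mk, quotAut_mk, QuotientGroup.eq_iff_div_mem, div_eq_mul_inv, ← MulAut.mul_apply,
        ← sq]
      exact sq_mod_fitting _ G rfl hsol σ hσ hfpf y
  have hinv : ∀ y, a y = y⁻¹ := by
    intro y
    have hinj : Function.Injective (fun x => x⁻¹ * a x) := by
      intro x z hxz
      refine mul_inv_eq_one.mp (quotAut_fpf σ hfpf F hFσ _ ?_)
      calc a (x * z⁻¹) = x * (x⁻¹ * a x) * (a z)⁻¹ := by rw [map_mul, map_inv]; group
        _ = x * (z⁻¹ * a z) * (a z)⁻¹ := by rw [show x⁻¹ * a x = z⁻¹ * a z from hxz]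
        _ = _ := by group
    obtain ⟨x, rfl⟩ := Finite.surjective_of_injective hinj y
    show a (x⁻¹ * a x) = (x⁻¹ * a x)⁻¹
    rw [map_mul, map_inv, ha2, mul_inv_rev, inv_inv]
  rw [commutator_def, Subgroup.commutator_le]
  intro x _ y _
  rw [← QuotientGroup.eq_one_iff, ← QuotientGroup.mk'_apply F, map_commutatorElement,
    commutatorElement_eq_one_iff_mul_comm]
  have h1 := map_mul a (x : G ⧸ F) (y : G ⧸ F)
  rw [hinv, hinv, hinv, ← mul_inv_rev, inv_inj] at h1
  exact h1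

end Group

end Cfsg.Agent.Lib.Solvable.FPF
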