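import Cfsg.Agent.Lib.Solvable.FPF.HallHigmanThree
import Cfsg.Agent.Lib.Coprime.Action

/-!
The symmetric group of degree three acting without fixed points on `V` and a `q`-group `D` acting
on `V`: the image of `D` is abelian.
-/

set_option autoImplicit false

open scoped commutatorElement
open Pointwise

namespace Cfsg.Agent.Lib.Solvable.FPF

open Module Cfsg.Agent.Lib

theorem central_pow_comm {Q : Type*} [Group Q] {u v : Q} (hc : ∀ g, Commute ⁅u, v⁆ g) :
    ∀ l m : ℕ, u ^ l * v ^ m = ⁅u, v⁆ ^ (l * m) * (v ^ m * u ^ l) := by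
  set z := ⁅u, v⁆ with hz
  have hone : ∀ l : ℕ, u ^ l * v = z ^ l * (v * u ^ l) := by
    intro l
    induction l with
    | zero => simp
    | succ l ih =>
      have huv : u * v = z * (v * u) := by rw [hz, commutatorElement_def]; group
      calc u ^ (l + 1) * v = u * (u ^ l * v) := by rw [pow_succ', mul_assoc]
        _ = (u * z ^ l) * (v * u ^ l) := by rw [ih, mul_assoc]
        _ = z ^ l * ((u * v) * u ^ l) := by rw [← ((hc u).pow_left l).eq]; simp only [mul_assoc]
        _ = z ^ (l + 1) * (v * u ^ (l + 1)) := by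
          rw [huv, pow_succ, pow_succ']; simp only [mul_assoc]
  intro l m
  induction m with
  | zero => simp
  | succ m ih =>
    calc u ^ l * v ^ (m + 1) = (u ^ l * v ^ m) * v := by rw [pow_succ, mul_assoc]
      _ = z ^ (l * m) * v ^ m * (u ^ l * v) := by rw [ih]; simp only [mul_assoc]
      _ = z ^ (l * m) * (v ^ m * z ^ l) * (v * u ^ l) := by rw [hone l]; simp only [mul_assoc]
      _ = z ^ (l * (m + 1)) * (v ^ (m + 1) * u ^ l) := by
        rw [← ((hc (v ^ m)).pow_left l).eq, mul_succ_eq l m, pow_add, pow_succ]; simp only [mul_assoc]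
where
  mul_succ_eq (l m : ℕ) : l * (m + 1) = l * m + l := Nat.mul_succ l m

variable {k : Type*} [Field k] [IsAlgClosed k] {W : Type*} [AddCommGroup W] [Module k W]
  [FiniteDimensional k W] {Γ : Type*} [Group Γ] [Finite Γ]

theorem image_commute_symThree (ρ : Γ →* End k W) (A : Subgroup Γ) [Fintype A] {c : Γ}
    (hcA : c ∈ A) (hc3 : c ^ 3 = 1) (hc1 : c ≠ 1) (hne : ¬ A ≤ Subgroup.zpowers c)
    (hout : ∀ g ∈ A, g ∉ Subgroup.zpowers c →
      g * g = 1 ∧ g * c * g⁻¹ = c⁻¹ ∧ Subgroup.zpowers c ⊔ Subgroup.zpowers g = A)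
    (hsum : ∑ a : A, ρ a = 0) (h2 : (2 : k) ≠ 0) (h3 : (3 : k) ≠ 0)
    {q : ℕ} (hq : q.Prime) (hq5 : 5 ≤ q) (hqk : (q : k) ≠ 0)
    (D : Subgroup Γ) (hAD : A ≤ Subgroup.normalizer (D : Set Γ)) (hDq : IsPGroup q D)
    (hcop : (Nat.card A).Coprime (Nat.card D))
    (hDA : ∀ x ∈ D, (∀ a ∈ A, a * x = x * a) → x = 1)
    (hDfix : ∀ x ∈ D, c * x = x * c →
      ∑ i ∈ Finset.range 3, ρ (x * c ^ i) = ∑ i ∈ Finset.range 3, ρ (c ^ i)) :
    ∀ x ∈ D, ∀ y ∈ D, Commute (ρ x) (ρ y) := by
  classical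
  haveI := Fact.mk hq
  haveI hF3 : Fact (Nat.Prime 3) := ⟨Nat.prime_three⟩
  haveI := hDq.isNilpotent
  set T := Subgroup.zpowers c with hT
  have hTA : T ≤ A := Subgroup.zpowers_le.mpr hcA
  have hTsolv : Group.IsSolvable T := Coprime.isSolvable_zpowers c
  have hord : orderOf c = 3 := orderOf_eq_prime hc3 hc1
  obtain ⟨b, hbA, hbT⟩ := Set.not_subset.mp hne
  obtain ⟨hbb, hbc, hgenb⟩ := hout b hbA hbT
  have hTgen : ∀ g ∈ T, g ≠ 1 → c ∈ Subgroup.zpowers g := by
    intro g hg hg1
    have : Subgroup.zpowers g = T := by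
      refine Coprime.eq_of_le_of_card_le (Subgroup.zpowers_le.mpr hg) ?_
      obtain ⟨i, rfl⟩ := (isOfFinOrder_of_finite c).mem_powers_iff_mem_zpowers.mpr hg
      rw [hT, Nat.card_zpowers, Nat.card_zpowers, hord]
      rw [orderOf_eq_prime (show (c ^ i) ^ 3 = 1 by rw [← pow_mul, mul_comm, pow_mul, hc3, one_pow]) hg1]
    exact this ▸ Subgroup.mem_zpowers c
  have hqpow : ∀ x ∈ D, ∀ m : ℕ, ¬ q ∣ m → x ^ m = 1 → x = 1 := by
    intro x hx m hm hxm
    obtain ⟨i, hi⟩ := hDq ⟨x, hx⟩
    rw [← orderOf_eq_one_iff]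
    exact Nat.eq_one_of_dvd_coprimes (Nat.Coprime.pow_right i ((hq.coprime_iff_not_dvd.mpr hm).symm))
      (orderOf_dvd_of_pow_eq_one hxm)
      (orderOf_dvd_of_pow_eq_one (congrArg Subtype.val hi))
  -- a reflection inverts the fixed points of `c`
  have hCinv : ∀ x ∈ D, c * x = x * c → b * x * b⁻¹ = x⁻¹ := by
    set C := D ⊓ Subgroup.centralizer (T : Set Γ) with hC
    have hbC : ∀ g ∈ C, b * g * b⁻¹ ∈ C := by
      intro g hg
      rw [hC, Subgroup.mem_inf] at hg ⊢
      refine ⟨(Subgroup.mem_normalizer_iff.mp (hAD hbA) g).mp hg.1,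
        Subgroup.mem_centralizer_iff.mpr fun t ht => ?_⟩
      obtain ⟨i, rfl⟩ := (isOfFinOrder_of_finite c).mem_powers_iff_mem_zpowers.mpr ht
      refine (Commute.pow_left ?_ i).eq
      have h4 := Subgroup.mem_centralizer_iff.mp hg.2 c⁻¹ (inv_mem (Subgroup.mem_zpowers c))
      rw [← hbc] at h4
      show c * (b * g * b⁻¹) = b * g * b⁻¹ * c
      have hb' : b⁻¹ = b := inv_eq_of_mul_eq_one_right hbb
      calc c * (b * g * b⁻¹) = b * ((b * c * b⁻¹) * g) * b⁻¹ := by
            simp only [hb', ← mul_assoc, hbb, one_mul]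
        _ = b * (g * (b * c * b⁻¹)) * b⁻¹ := by rw [h4]
        _ = b * g * b⁻¹ * c := by simp only [hb', mul_assoc, hbb, mul_one]
    intro x hx hcx
    have hxC : x ∈ C := Subgroup.mem_inf.mpr ⟨hx, Subgroup.mem_centralizer_iff.mpr fun t ht => by
      obtain ⟨i, rfl⟩ := (isOfFinOrder_of_finite c).mem_powers_iff_mem_zpowers.mpr ht
      exact (Commute.pow_left hcx i).eq⟩
    have hinj : Function.Injective (fun g : C => (⟨(g : Γ)⁻¹ * (b * g * b⁻¹),
        mul_mem (inv_mem g.2) (hbC g g.2)⟩ : C)) := by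
      intro g₁ g₂ e
      have e' : (g₁ : Γ)⁻¹ * (b * g₁ * b⁻¹) = (g₂ : Γ)⁻¹ * (b * g₂ * b⁻¹) := congrArg Subtype.val e
      set w := (g₂ : Γ) * (g₁ : Γ)⁻¹ with hw
      have hwC : w ∈ C := mul_mem g₂.2 (inv_mem g₁.2)
      have hwb : b * w = w * b := by
        calc b * w = (b * g₂ * b⁻¹) * (b * g₁ * b⁻¹)⁻¹ * b := by rw [hw]; group
          _ = (g₂ : Γ) * ((g₂ : Γ)⁻¹ * (b * g₂ * b⁻¹)) * (b * g₁ * b⁻¹)⁻¹ * b := by group
          _ = (g₂ : Γ) * ((g₁ : Γ)⁻¹ * (b * g₁ * b⁻¹)) * (b * g₁ * b⁻¹)⁻¹ * b := by rw [e']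
          _ = _ := by rw [hw]; group
      have hw1 : w = 1 := hDA w (Subgroup.mem_inf.mp hwC).1 fun g hg => by
        have hAw : A ≤ Subgroup.centralizer {w} := by
          rw [← hgenb]
          refine sup_le (fun t ht => Subgroup.mem_centralizer_iff.mpr fun g hg => ?_)
            (Subgroup.zpowers_le.mpr (Subgroup.mem_centralizer_iff.mpr fun g hg => ?_))
          · rw [Set.mem_singleton_iff.mp hg]
            exact (Subgroup.mem_centralizer_iff.mp (Subgroup.mem_inf.mp hwC).2 t ht).symm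
          · rw [Set.mem_singleton_iff.mp hg]; exact hwb.symm
        exact (Subgroup.mem_centralizer_iff.mp (hAw hg) w rfl).symm
      exact Subtype.ext (mul_inv_eq_one.mp hw1).symm
    obtain ⟨g, hg⟩ := Finite.surjective_of_injective hinj ⟨x, hxC⟩
    have hg' : (g : Γ)⁻¹ * (b * g * b⁻¹) = x := congrArg Subtype.val hg
    rw [← hg']
    have hb' : b⁻¹ = b := inv_eq_of_mul_eq_one_right hbb
    simp only [hb', mul_inv_rev, inv_inv, mul_assoc, hbb, mul_one]
  have hCcomm : ∀ x ∈ D, ∀ y ∈ D, c * x = x * c → c * y = y * c → x * y = y * x := by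
    intro x hx y hy hcx hcy
    have h1 := hCinv (x * y) (mul_mem hx hy) (Commute.mul_right hcx hcy).eq
    rw [show b * (x * y) * b⁻¹ = (b * x * b⁻¹) * (b * y * b⁻¹) by group, hCinv x hx hcx,
      hCinv y hy hcy, mul_inv_rev] at h1
    have := congrArg (fun g => g⁻¹) h1
    simpa using this.symm
  -- lifting fixed cosets
  have hlift : ∀ (x : Γ), x ∈ D → ∀ N : Subgroup Γ, N ≤ D → T ≤ Subgroup.normalizer (N : Set Γ) →
      x ∈ Subgroup.normalizer (N : Set Γ) → c * x * c⁻¹ * x⁻¹ ∈ N →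
      ∃ y ∈ D, c * y = y * c ∧ x⁻¹ * y ∈ N := by
    intro x hx N hND hTN hxN hfix
    obtain ⟨m, hm, hxm⟩ := Coprime.exists_mem_centralizer_of_fixed_coset (A := T) (N := N) (k := x)
      hTN ((hcop.coprime_dvd_left (Subgroup.card_dvd_of_le hTA)).coprime_dvd_right
        (Subgroup.card_dvd_of_le hND)) (Or.inl hTsolv) hxN (fun t ht => by
        obtain ⟨i, rfl⟩ := (isOfFinOrder_of_finite c).mem_powers_iff_mem_zpowers.mpr ht
        show c ^ i * x * (c ^ i)⁻¹ * x⁻¹ ∈ N
        induction i with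
        | zero => simp
        | succ i ih =>
          rw [show c ^ (i + 1) * x * (c ^ (i + 1))⁻¹ * x⁻¹ =
              (c * (c ^ i * x * (c ^ i)⁻¹ * x⁻¹) * c⁻¹) * (c * x * c⁻¹ * x⁻¹) by rw [pow_succ']; group]
          exact mul_mem ((Subgroup.mem_normalizer_iff.mp (hTN (Subgroup.mem_zpowers c)) _).mp
            (ih (pow_mem (Subgroup.mem_zpowers c) i))) hfix)
    exact ⟨x * m, mul_mem hx (hND hm), Subgroup.mem_centralizer_iff.mp hxm c (Subgroup.mem_zpowers c),
      by rwa [inv_mul_cancel_left]⟩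
  -- a central commutator acting nontrivially
  by_contra hnc
  set L : ℕ → Subgroup Γ := fun i => D.lowerCentralSeries i with hL
  have hLD : ∀ i, L i ≤ D := fun i => Subgroup.lowerCentralSeries_le_self D i
  obtain ⟨N0, hN0⟩ := Subgroup.nilpotent_iff_lowerCentralSeries.mp (inferInstance : Group.IsNilpotent D)
  have hLN : L N0 = ⊥ := by
    have h4 := Subgroup.map_lowerCentralSeries (S := (⊤ : Subgroup D)) D.subtype N0
    rw [hN0, Subgroup.map_bot, ← MonoidHom.range_eq_map, Subgroup.range_subtype] at h4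
    exact h4.symm
  obtain ⟨i, z, hzL, hz1, hzc⟩ : ∃ i, ∃ z ∈ L (i + 1), ρ z ≠ 1 ∧ ∀ y ∈ D, Commute (ρ z) (ρ y) := by
    push Not at hnc
    obtain ⟨x, hx, y, hy, hxy⟩ := hnc
    have h1 : ∃ z ∈ L 1, ρ z ≠ 1 := ⟨⁅x, y⁆, Subgroup.commutator_mem_commutator hx hy, fun e => hxy (by
      show ρ x * ρ y = ρ y * ρ x
      rw [← one_mul (ρ y * ρ x), ← e, ← map_mul, ← map_mul, ← map_mul, commutatorElement_def]
      congr 1
      group)⟩
    let P : ℕ → Prop := fun i => ∀ z ∈ L (i + 1), ρ z = 1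
    have hP : ∃ i, P i := ⟨N0, fun z hz => by
      have : z ∈ L N0 := Subgroup.lowerCentralSeries_antitone (S := D) (Nat.le_succ N0) hz
      rw [hLN, Subgroup.mem_bot] at this
      rw [this, map_one]⟩
    have h0 : ¬ P 0 := fun h => by obtain ⟨z, hz, hz1⟩ := h1; exact hz1 (h z hz)
    have hfind := Nat.find_spec hP
    obtain ⟨i, hi⟩ : ∃ i, Nat.find hP = i + 1 := ⟨Nat.find hP - 1, by
      have : Nat.find hP ≠ 0 := fun e => h0 (e ▸ hfind)
      omega⟩
    have hnot : ¬ P i := Nat.find_min hP (by omega)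
    simp only [P] at hnot
    push Not at hnot
    obtain ⟨z, hz, hz1⟩ := hnot
    refine ⟨i, z, hz, hz1, fun y hy => ?_⟩
    have h4 := hfind ⁅z, y⁆ (by
      rw [hi]
      exact Subgroup.commutator_mem_commutator hz hy)
    show ρ z * ρ y = ρ y * ρ z
    rw [← one_mul (ρ y * ρ z), ← h4, ← map_mul, ← map_mul, ← map_mul, commutatorElement_def]
    congr 1
    group
  have hzD' : z ∈ ⁅D, D⁆ := (Subgroup.lowerCentralSeries_antitone (S := D)
    (show 1 ≤ i + 1 by omega) : L (i + 1) ≤ L 1) hzL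
  let Z : Subgroup Γ :=
    { carrier := {x | x ∈ D ∧ ∀ y ∈ D, Commute (ρ x) (ρ y)}
      one_mem' := ⟨one_mem _, fun y _ => by rw [map_one]; exact Commute.one_left _⟩
      mul_mem' := fun {g h} hg hh => ⟨mul_mem hg.1 hh.1, fun y hy => by
        rw [map_mul]; exact (hg.2 y hy).mul_left (hh.2 y hy)⟩
      inv_mem' := fun {g} hg => ⟨inv_mem hg.1, fun y hy => by
        show ρ g⁻¹ * ρ y = ρ y * ρ g⁻¹
        calc ρ g⁻¹ * ρ y = ρ g⁻¹ * (ρ y * ρ g) * ρ g⁻¹ := by simp only [← map_mul]; congr 1; group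
          _ = ρ g⁻¹ * (ρ g * ρ y) * ρ g⁻¹ := by rw [(hg.2 y hy).eq]
          _ = _ := by simp only [← map_mul]; congr 1; group⟩ }
  have hNZ : Subgroup.normalizer (D : Set Γ) ≤ Subgroup.normalizer (Z : Set Γ) := by
    have key : ∀ g ∈ Subgroup.normalizer (D : Set Γ), ∀ x ∈ Z, g * x * g⁻¹ ∈ Z := by
      intro g hg x hx
      refine ⟨(Subgroup.mem_normalizer_iff.mp hg x).mp hx.1, fun y hy => ?_⟩
      have h1 := hx.2 _ ((Subgroup.mem_normalizer_iff''.mp hg y).mp hy)
      show ρ (g * x * g⁻¹) * ρ y = ρ y * ρ (g * x * g⁻¹)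
      calc ρ (g * x * g⁻¹) * ρ y = ρ g * (ρ x * ρ (g⁻¹ * y * g)) * ρ g⁻¹ := by
            simp only [← map_mul]; congr 1; group
        _ = ρ g * (ρ (g⁻¹ * y * g) * ρ x) * ρ g⁻¹ := by rw [h1.eq]
        _ = _ := by simp only [← map_mul]; congr 1; group
    intro g hg
    rw [Subgroup.mem_normalizer_iff]
    exact fun x => ⟨key g hg x, fun hx => by simpa [mul_assoc] using key g⁻¹ (inv_mem hg) _ hx⟩
  have hzZ : z ∈ Z := ⟨hLD _ hzL, hzc⟩
  obtain ⟨j, hj⟩ := hDq ⟨z, hzZ.1⟩
  obtain ⟨χ₀, v, hv0, hv, hχz⟩ := exists_weight' ρ Z (fun g hg h hh => hg.2 h hh.1) hzZ (n := q ^ j)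
    (by rw [Nat.cast_pow]; exact pow_ne_zero _ hqk)
    (by rw [← map_pow, show z ^ q ^ j = 1 from congrArg Subtype.val hj, map_one]) hz1
  let χ : Γ → k := fun g => if h : g ∈ Z then χ₀ ⟨g, h⟩ else 0
  have hχ : ∀ {g : Γ}, g ∈ Z → ρ g v = χ g • v := fun {g} hg => by
    simp only [χ, dif_pos hg]; exact hv ⟨g, hg⟩
  have hχmul : ∀ {g h : Γ}, g ∈ Z → h ∈ Z → χ (g * h) = χ g * χ h := fun {g h} hg hh => by
    refine smul_left_injective k hv0 (show χ (g * h) • v = (χ g * χ h) • v from ?_)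
    rw [← hχ (mul_mem hg hh), map_mul, End.mul_apply, hχ hh, map_smul, hχ hg, smul_smul, mul_comm]
  let U : Submodule k W := ⨅ x : Z, End.eigenspace (ρ (x : Γ)) (χ x)
  have hUmem : ∀ {w : W}, w ∈ U ↔ ∀ x ∈ Z, ρ x w = χ x • w := fun {w} => by
    simp only [U, Submodule.mem_iInf, End.mem_eigenspace_iff, Subtype.forall]
  have hvU : v ∈ U := hUmem.mpr fun x hx => hχ hx
  let K : Subgroup Γ :=
    { carrier := {x | x ∈ D ∧ ∀ w ∈ U, ρ x w = w}
      one_mem' := ⟨one_mem _, fun w _ => by simp⟩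
      mul_mem' := fun {g h} hg hh => ⟨mul_mem hg.1 hh.1, fun w hw => by
        rw [map_mul, End.mul_apply, hh.2 w hw, hg.2 w hw]⟩
      inv_mem' := fun {g} hg => ⟨inv_mem hg.1, fun w hw => by
        conv_lhs => rw [← hg.2 w hw]
        rw [← End.mul_apply, ← map_mul, inv_mul_cancel, map_one]; rfl⟩ }
  have hinvρ : ∀ (g : Γ) (w : W), ρ g (ρ g⁻¹ w) = w := fun g w => by
    rw [← End.mul_apply, ← map_mul, mul_inv_cancel, map_one]; rfl
  have hUD : ∀ g ∈ D, ∀ w ∈ U, ρ g w ∈ U := fun g hg w hw => hUmem.mpr fun x hx => by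
    rw [← End.mul_apply, (hx.2 g hg).eq, End.mul_apply, hUmem.mp hw x hx, map_smul]
  let F : Subgroup Γ :=
    { carrier := {g | g ∈ Subgroup.normalizer (Z : Set Γ) ∧ ∀ x ∈ Z, χ (g * x * g⁻¹) = χ x}
      one_mem' := ⟨one_mem _, fun x _ => by simp⟩
      mul_mem' := fun {g₁ g₂} h₁ h₂ => ⟨mul_mem h₁.1 h₂.1, fun x hx => by
        rw [show g₁ * g₂ * x * (g₁ * g₂)⁻¹ = g₁ * (g₂ * x * g₂⁻¹) * g₁⁻¹ by group,
          h₁.2 _ ((Subgroup.mem_normalizer_iff.mp h₂.1 x).mp hx), h₂.2 x hx]⟩
      inv_mem' := fun {g} h => ⟨inv_mem h.1, fun x hx => by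
        have h1 : g⁻¹ * x * g ∈ Z := (Subgroup.mem_normalizer_iff''.mp h.1 x).mp hx
        rw [inv_inv, ← h.2 _ h1]
        congr 1
        group⟩ }
  have hUF : ∀ g ∈ F, ∀ w ∈ U, ρ g w ∈ U := fun g hg w hw => hUmem.mpr fun x hx => by
    have h1 : g⁻¹ * x * g ∈ Z := (Subgroup.mem_normalizer_iff''.mp hg.1 x).mp hx
    have h4 := (inv_mem hg).2 x hx
    rw [inv_inv] at h4
    rw [← End.mul_apply, ← map_mul, show x * g = g * (g⁻¹ * x * g) by group, map_mul,
      End.mul_apply, hUmem.mp hw _ h1, map_smul, h4]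
  suffices hK : ⁅D, D⁆ ≤ K by
    have h1 := (hK hzD').2 v hvU
    rw [hχ hzZ] at h1
    refine hχz ?_
    have h4 : χ z = 1 := smul_left_injective k hv0 (show χ z • v = (1 : k) • v by rw [h1, one_smul])
    simpa [χ, hzZ] using h4
  have hsumA : ∀ u : W, ∑ a : A, ρ a u = 0 := fun u => by
    have := congrArg (fun e : End k W => e u) hsum
    simpa [LinearMap.sum_apply] using this
  have hcN : c ∈ Subgroup.normalizer (Z : Set Γ) := hNZ (hAD hcA)
  have hTfix : ∀ {g : Γ}, g ∈ T → g ≠ 1 → g ∈ F → c ∈ F := fun {g} hg hg1 hgF =>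
    (Subgroup.zpowers_le.mpr hgF) (hTgen g hg hg1)
  by_cases hcF : c ∈ F
  · -- `c` has no fixed point on the weight space
    have hbF : b ∉ F := by
      intro hbF
      apply hχz
      have hz1' : (z * c) ^ 3 ∈ Z ∧ χ ((z * c) ^ 3) = χ z ^ 3 := by
        have hcz : ∀ m : ℕ, c ^ m * z * (c ^ m)⁻¹ ∈ Z ∧ χ (c ^ m * z * (c ^ m)⁻¹) = χ z := fun m =>
          ⟨(Subgroup.mem_normalizer_iff.mp (pow_mem hcN m) z).mp hzZ, (pow_mem hcF m).2 z hzZ⟩
        have e : (z * c) ^ 3 = z * (c ^ 1 * z * (c ^ 1)⁻¹) * (c ^ 2 * z * (c ^ 2)⁻¹) * c ^ 3 := by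
          rw [show (z * c) ^ 3 = (z * c) * (z * c) * (z * c) by rw [pow_succ, sq]]
          rw [show c ^ 3 = c * c * c by rw [pow_succ, sq], sq, pow_one]
          group
        rw [e, hc3, mul_one]
        refine ⟨mul_mem (mul_mem hzZ (hcz 1).1) (hcz 2).1, ?_⟩
        rw [hχmul (mul_mem hzZ (hcz 1).1) (hcz 2).1, hχmul hzZ (hcz 1).1, (hcz 1).2, (hcz 2).2,
          pow_succ, sq]
      obtain ⟨hw, hwχ⟩ := hz1'
      let N : Subgroup Γ := D ⊓ ρ.toHomUnits.ker
      have hker : ∀ {g : Γ}, g ∈ N ↔ g ∈ D ∧ ρ g = 1 := fun {g} => by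
        simp only [N, Subgroup.mem_inf, MonoidHom.mem_ker, Units.ext_iff]; rfl
      have hNn : ∀ g ∈ Subgroup.normalizer (D : Set Γ), g ∈ Subgroup.normalizer (N : Set Γ) := by
        intro g hg
        rw [Subgroup.mem_normalizer_iff]
        intro x
        simp only [N, Subgroup.mem_inf]
        exact and_congr (Subgroup.mem_normalizer_iff.mp hg x)
          ⟨fun h => Subgroup.Normal.conj_mem inferInstance x h g, fun h => by
            simpa [mul_assoc] using Subgroup.Normal.conj_mem inferInstance _ h g⁻¹⟩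
      obtain ⟨y, hy, hcy, hyN⟩ := hlift _ hw.1 N inf_le_left (fun t ht => hNn t (hAD (hTA ht)))
        (hNn _ (Subgroup.le_normalizer hw.1)) (hker.mpr
          ⟨mul_mem ((Subgroup.mem_normalizer_iff.mp (hAD hcA) _).mp hw.1) (inv_mem hw.1), by
            have e : c * (z * c) ^ 3 * c⁻¹ = z⁻¹ * (z * c) ^ 3 * z := by
              rw [← conj_pow]
              conv_rhs => rw [show z⁻¹ * (z * c) ^ 3 * z = z⁻¹ * (z * c) ^ 3 * (z⁻¹)⁻¹ by rw [inv_inv],
                ← conj_pow]
              congr 1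
              group
            rw [map_mul, e, map_mul, map_mul, ((inv_mem hzZ : z⁻¹ ∈ Z).2 _ hw.1).eq, mul_assoc (ρ _),
              ← map_mul ρ z⁻¹, inv_mul_cancel, map_one, mul_one, ← map_mul, mul_inv_cancel, map_one]⟩)
      have hρy : ρ y = ρ ((z * c) ^ 3) := by
        conv_rhs => rw [← mul_one (ρ ((z * c) ^ 3)), ← (hker.mp hyN).2, ← map_mul, mul_inv_cancel_left]
      have hyZ : y ∈ Z := ⟨hy, fun g hg => by rw [hρy]; exact hw.2 g hg⟩
      have hχy : χ y = χ ((z * c) ^ 3) := smul_left_injective k hv0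
        (show χ y • v = χ ((z * c) ^ 3) • v by rw [← hχ hyZ, ← hχ hw, hρy])
      have h1 : χ y * χ y = 1 := by
        have h4 := hbF.2 y hyZ
        rw [hCinv y hy hcy] at h4
        calc χ y * χ y = χ y⁻¹ * χ y := by rw [h4]
          _ = χ (y⁻¹ * y) := (hχmul (inv_mem hyZ) hyZ).symm
          _ = 1 := by
            rw [inv_mul_cancel]
            exact smul_left_injective k hv0 (show χ 1 • v = (1 : k) • v by
              rw [← hχ (one_mem _), map_one, one_smul]; rfl)
      rw [hχy, hwχ, ← pow_add] at h1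
      have hz' : χ z = χ₀ ⟨z, hzZ⟩ := by simp [χ, hzZ]
      rw [← hz', ← orderOf_eq_one_iff]
      have hzq : χ z ^ q ^ j = 1 := by
        have h4 : ∀ m : ℕ, (ρ z ^ m) v = χ z ^ m • v := by
          intro m
          induction m with
          | zero => simp
          | succ m ih => rw [pow_succ', End.mul_apply, ih, map_smul, hχ hzZ, smul_smul, pow_succ]
        have h5 := h4 (q ^ j)
        rw [← map_pow, show z ^ q ^ j = 1 from congrArg Subtype.val hj, map_one, End.one_apply] at h5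
        exact smul_left_injective k hv0 (show χ z ^ q ^ j • v = (1 : k) • v by rw [one_smul, ← h5])
      exact Nat.eq_one_of_dvd_coprimes (Nat.Coprime.pow_right j ((hq.coprime_iff_not_dvd.mpr
        (fun hd => by
          have := Nat.le_of_dvd (by norm_num) hd
          interval_cases q <;> first | (norm_num at hd; done) | norm_num at hq)).symm : (6 : ℕ).Coprime q))
        (orderOf_dvd_of_pow_eq_one h1) (orderOf_dvd_of_pow_eq_one hzq)
    -- `1 + c + c²` vanishes on `U`
    have hUc : ∀ u ∈ U, ρ c u = u → u = 0 := by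
      intro u hu hcu
      obtain ⟨x, hx, hxne⟩ : ∃ x ∈ Z, χ (b * x * b⁻¹) ≠ χ x := by
        by_contra hno
        push Not at hno
        exact hbF ⟨hNZ (hAD hbA), hno⟩
      -- the orbit sum is fixed by `c` and `b`
      have hbsum : ρ b u + u = 0 := by
        have hA : ∀ g ∈ A, ρ g u = u ∨ ρ g u = ρ b u := by
          intro g hg
          by_cases hgT : g ∈ T
          · left
            obtain ⟨m, rfl⟩ := (isOfFinOrder_of_finite c).mem_powers_iff_mem_zpowers.mpr hgT
            show ρ (c ^ m) u = u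
            induction m with
            | zero => simp
            | succ m ih =>
              rw [pow_succ, map_mul, End.mul_apply, hcu, ih (hTA (pow_mem (Subgroup.mem_zpowers c) m))
                (pow_mem (Subgroup.mem_zpowers c) m)]
          · right
            have hmem : g ∈ Subgroup.zpowers b ⊔ T := by rw [sup_comm, hgenb]; exact hg
            have hbn : Subgroup.zpowers b ≤ Subgroup.normalizer (T : Set Γ) := by
              rw [Subgroup.zpowers_le]
              refine Coprime.mem_normalizer_of_conj_smul_eq (Coprime.eq_of_le_of_card_le ?_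
                (Coprime.card_conj_smul b T).ge)
              intro t ht
              rw [Coprime.mem_conj_smul] at ht
              obtain ⟨m, hm⟩ := (isOfFinOrder_of_finite c).mem_powers_iff_mem_zpowers.mpr ht
              dsimp only at hm
              rw [show t = b * c ^ m * b⁻¹ by rw [hm]; group, ← conj_pow, hbc]
              exact pow_mem (inv_mem (Subgroup.mem_zpowers c)) m
            rw [sup_comm] at hmem
            obtain ⟨t, ht, e, he, rfl⟩ := Coprime.exists_mul_of_mem_sup hbn hmem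
            obtain ⟨l, rfl⟩ := (isOfFinOrder_of_finite b).mem_powers_iff_mem_zpowers.mpr he
            show ρ (t * b ^ l) u = ρ b u
            rcases Nat.even_or_odd l with ⟨l', hl'⟩ | ⟨l', hl'⟩
            · exfalso; apply hgT
              show t * b ^ l ∈ T
              rw [hl', ← two_mul, pow_mul, sq, hbb, one_pow, mul_one]; exact ht
            · rw [hl', pow_succ, pow_mul, sq, hbb, one_pow, one_mul]
              obtain ⟨m, hm⟩ := (isOfFinOrder_of_finite c).mem_powers_iff_mem_zpowers.mpr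
                ((Subgroup.mem_normalizer_iff''.mp (hbn (Subgroup.mem_zpowers b)) t).mp ht)
              dsimp only at hm
              rw [show t * b = b * c ^ m by rw [hm]; group, map_mul, End.mul_apply]
              congr 1
              clear hm
              induction m with
              | zero => simp
              | succ m ih => rw [pow_succ, map_mul, End.mul_apply, hcu, ih]
        set w := ρ b u + u with hwdef
        have hwfix : ∀ g ∈ A, ρ g w = w := by
          intro g hg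
          rw [hwdef, map_add, ← End.mul_apply, ← map_mul]
          rcases hA g hg with e | e <;> rcases hA (g * b) (mul_mem hg hbA) with e' | e' <;>
            rw [e, e']
          · have hinjg : Function.Injective (ρ g) := fun p r hpr => by
              have := congrArg (ρ g⁻¹) hpr
              simpa only [← End.mul_apply, ← map_mul, inv_mul_cancel, map_one, End.one_apply] using this
            have h5 : ρ b u = u := hinjg (by rw [← End.mul_apply, ← map_mul, e', e])
            rw [h5]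
          · rw [add_comm]
          · have h4 : ρ (g * b) u = ρ g (ρ b u) := by rw [map_mul]; rfl
            have hinjg : Function.Injective (ρ g) := fun p r hpr => by
              have := congrArg (ρ g⁻¹) hpr
              simpa only [← End.mul_apply, ← map_mul, inv_mul_cancel, map_one, End.one_apply] using this
            have h5 : ρ b u = u := hinjg (by rw [← h4, e', e])
            rw [h5]
        have hs := hsumA w
        rw [Finset.sum_congr rfl (fun (e : A) _ => hwfix e e.2), Finset.sum_const, Finset.card_univ,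
          ← Nat.cast_smul_eq_nsmul k] at hs
        refine (smul_eq_zero.mp hs).resolve_left ?_
        have hcardA : Fintype.card A ∣ 2 * 3 := by
          rw [← Nat.card_eq_fintype_card, ← hgenb]
          have hbn : Subgroup.zpowers b ≤ Subgroup.normalizer (T : Set Γ) := by
            rw [Subgroup.zpowers_le]
            refine Coprime.mem_normalizer_of_conj_smul_eq (Coprime.eq_of_le_of_card_le ?_
              (Coprime.card_conj_smul b T).ge)
            intro t ht
            rw [Coprime.mem_conj_smul] at ht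
            obtain ⟨m, hm⟩ := (isOfFinOrder_of_finite c).mem_powers_iff_mem_zpowers.mpr ht
            dsimp only at hm
            rw [show t = b * c ^ m * b⁻¹ by rw [hm]; group, ← conj_pow, hbc]
            exact pow_mem (inv_mem (Subgroup.mem_zpowers c)) m
          refine (Dvd.intro _ (Coprime.card_sup_mul_card_inf hbn)).trans ?_
          rw [mul_comm 2 3, hT, Nat.card_zpowers, Nat.card_zpowers, hord]
          exact mul_dvd_mul_left 3 (orderOf_dvd_of_pow_eq_one (by rw [sq, hbb]))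
        intro e
        obtain ⟨l, hl⟩ := hcardA
        have h4 : ((2 * 3 : ℕ) : k) = 0 := by rw [hl, Nat.cast_mul, e, zero_mul]
        rw [Nat.cast_mul, Nat.cast_ofNat, Nat.cast_ofNat] at h4
        rcases mul_eq_zero.mp h4 with h | h
        · exact h2 h
        · exact h3 h
      have h4 : ρ x (ρ b u) = χ (b⁻¹ * x * b) • ρ b u := by
        rw [← End.mul_apply, ← map_mul, show x * b = b * (b⁻¹ * x * b) by group, map_mul,
          End.mul_apply,
          hUmem.mp hu _ ((Subgroup.mem_normalizer_iff''.mp (hNZ (hAD hbA)) x).mp hx), map_smul]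
      have hb' : b⁻¹ = b := inv_eq_of_mul_eq_one_right hbb
      have e : b⁻¹ * x * b = b * x * b⁻¹ := by rw [hb']
      rw [e, eq_neg_of_add_eq_zero_left hbsum, map_neg, hUmem.mp hu x hx, smul_neg, neg_inj] at h4
      by_contra hu0
      exact hxne (smul_left_injective k hu0 h4).symm
    have hrel : ∀ u ∈ U, u + ρ c u + ρ c (ρ c u) = 0 := by
      intro u hu
      refine hUc _ (add_mem (add_mem hu (hUF c hcF u hu)) (hUF c hcF _ (hUF c hcF u hu))) ?_
      have e3 : ρ c (ρ c (ρ c u)) = u := by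
        rw [← End.mul_apply, ← End.mul_apply, ← map_mul, ← map_mul,
          show c * c * c = 1 by rw [← hc3, pow_succ, sq], map_one, End.one_apply]
      rw [map_add, map_add, e3]
      abel
    -- restrict to the weight space
    let Γ' : Subgroup Γ :=
      { carrier := {g | (∀ w ∈ U, ρ g w ∈ U) ∧ ∀ w ∈ U, ρ g⁻¹ w ∈ U}
        one_mem' := ⟨fun w hw => by simpa using hw, fun w hw => by simpa using hw⟩
        mul_mem' := fun {g h} hg hh => ⟨fun w hw => by rw [map_mul]; exact hg.1 _ (hh.1 w hw),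
          fun w hw => by rw [mul_inv_rev, map_mul]; exact hh.2 _ (hg.2 w hw)⟩
        inv_mem' := fun {g} hg => ⟨hg.2, fun w hw => by rw [inv_inv]; exact hg.1 w hw⟩ }
    have hDΓ : D ≤ Γ' := fun g hg => ⟨hUD g hg, hUD _ (inv_mem hg)⟩
    have hcΓ : c ∈ Γ' := ⟨hUF c hcF, hUF _ (inv_mem hcF)⟩
    let ρ' : Γ' →* End k U :=
      { toFun := fun g => (ρ (g : Γ)).restrict g.2.1
        map_one' := LinearMap.ext fun w => Subtype.ext (by simp [LinearMap.restrict_apply])
        map_mul' := fun g h => LinearMap.ext fun w => Subtype.ext (by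
          simp [LinearMap.restrict_apply]) }
    have hHH := hallHigman_three ρ' (c := ⟨c, hcΓ⟩) (Subtype.ext hc3)
      (LinearMap.ext fun w => Subtype.ext (by
        have := hrel w w.2
        simpa [ρ', LinearMap.restrict_apply] using this))
      hq hq5 hqk _ (D.subgroupOf Γ') rfl
      (by
        rw [Subgroup.mem_normalizer_iff]
        intro g
        simp only [Subgroup.mem_subgroupOf]
        exact Subgroup.mem_normalizer_iff.mp (hAD hcA) g)
      (hDq.comap_subtype)
    have hcent : ∀ x ∈ D, c * x * c⁻¹ * x⁻¹ ∈ K := fun x hx => by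
      refine ⟨mul_mem ((Subgroup.mem_normalizer_iff.mp (hAD hcA) x).mp hx) (inv_mem hx), fun w hw => ?_⟩
      have h1 := congrArg (fun e : End k U => ((e ⟨ρ (c⁻¹ * x⁻¹) w, by
        rw [map_mul]; exact hUF _ (inv_mem hcF) _ (hUD _ (inv_mem hx) w hw)⟩ : U) : W))
        (hHH ⟨x, hDΓ hx⟩ hx).eq
      change ρ c (ρ x (ρ (c⁻¹ * x⁻¹) w)) = ρ x (ρ c (ρ (c⁻¹ * x⁻¹) w)) at h1
      simp only [← map_mul, ← End.mul_apply, ← mul_assoc] at h1
      rw [h1, show x * c * c⁻¹ * x⁻¹ = 1 by group, map_one]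
      rfl
    have hKn : ∀ g ∈ D, g ∈ Subgroup.normalizer (K : Set Γ) := by
      have key : ∀ g ∈ D, ∀ s ∈ K, g * s * g⁻¹ ∈ K := fun g hg s hs =>
        ⟨mul_mem (mul_mem hg hs.1) (inv_mem hg), fun w hw => by
          rw [map_mul, map_mul, End.mul_apply, End.mul_apply, hs.2 _ (hUD _ (inv_mem hg) w hw), hinvρ]⟩
      intro g hg
      rw [Subgroup.mem_normalizer_iff]
      exact fun s => ⟨key g hg s, fun hs => by simpa [mul_assoc] using key g⁻¹ (inv_mem hg) _ hs⟩
    have hTK : T ≤ Subgroup.normalizer (K : Set Γ) := by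
      have key : ∀ g ∈ F, g ∈ Subgroup.normalizer (D : Set Γ) → ∀ s ∈ K, g * s * g⁻¹ ∈ K :=
        fun g hg hgD s hs => ⟨(Subgroup.mem_normalizer_iff.mp hgD s).mp hs.1, fun w hw => by
          rw [map_mul, map_mul, End.mul_apply, End.mul_apply, hs.2 _ (hUF _ (inv_mem hg) w hw), hinvρ]⟩
      rw [hT, Subgroup.zpowers_le, Subgroup.mem_normalizer_iff]
      exact fun s => ⟨key c hcF (hAD hcA) s, fun hs => by
        simpa [mul_assoc] using key c⁻¹ (inv_mem hcF) (inv_mem (hAD hcA)) _ hs⟩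
    rw [Subgroup.commutator_le]
    intro x hx y hy
    obtain ⟨x', hx', hcx', hxk⟩ := hlift x hx K (fun s hs => hs.1) hTK (hKn x hx) (hcent x hx)
    obtain ⟨y', hy', hcy', hyk⟩ := hlift y hy K (fun s hs => hs.1) hTK (hKn y hy) (hcent y hy)
    refine ⟨mul_mem (mul_mem (mul_mem hx hy) (inv_mem hx)) (inv_mem hy), fun w hw => ?_⟩
    have hsame : ∀ {g g' : Γ}, g ∈ D → g' ∈ D → g⁻¹ * g' ∈ K → ∀ u ∈ U, ρ g' u = ρ g u := by
      intro g g' hg hg' hgg u hu
      rw [show g' = g * (g⁻¹ * g') by group, map_mul, End.mul_apply, hgg.2 u hu]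
    have e1 : ρ x (ρ y (ρ x⁻¹ (ρ y⁻¹ w))) = ρ x' (ρ y' (ρ x⁻¹ (ρ y⁻¹ w))) := by
      have hu := hUD _ (inv_mem hx) _ (hUD _ (inv_mem hy) w hw)
      rw [hsame hy hy' hyk _ hu, hsame hx hx' hxk _ (hUD y hy _ hu)]
    have e2 : ρ y (ρ x (ρ x⁻¹ (ρ y⁻¹ w))) = ρ y' (ρ x' (ρ x⁻¹ (ρ y⁻¹ w))) := by
      have hu := hUD _ (inv_mem hx) _ (hUD _ (inv_mem hy) w hw)
      rw [hsame hx hx' hxk _ hu, hsame hy hy' hyk _ (hUD x hx _ hu)]
    rw [commutatorElement_def, map_mul, map_mul, map_mul, End.mul_apply, End.mul_apply, End.mul_apply,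
      e1, ← End.mul_apply, ← map_mul, hCcomm x' hx' y' hy' hcx' hcy', map_mul, End.mul_apply, ← e2,
      hinvρ, hinvρ]
  · -- an involution fixes the weight
    obtain ⟨a, haA, ha1, hafix⟩ := exists_fix_weight ρ A Z hsum (hAD.trans hNZ) (fun x => χ x) v hv0
      (fun x => hχ x.2)
    have haF : a ∈ F := ⟨hNZ (hAD haA), fun x hx =>
      hafix ⟨x, hx⟩ ((Subgroup.mem_normalizer_iff.mp (hNZ (hAD haA)) x).mp hx)⟩
    have haT : a ∉ T := fun ht => hcF (hTfix ht ha1 haF)
    obtain ⟨haa, hac, hgen⟩ := hout a haA haT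
    have hcN' : ∀ m : ℕ, c ^ m ∈ Subgroup.normalizer (Z : Set Γ) := fun m => pow_mem hcN m
    have hdistinct : ∀ u ∈ U, ∑ m ∈ Finset.range 3, ρ (c ^ m) u = 0 → u = 0 := by
      intro u hu hsum'
      have h4 := eq_zero_of_sum_eq_zero (fun y : Z => ρ y) (Finset.range 3)
        (fun m => ρ (c ^ m) u) (fun m (y : Z) => χ ((c ^ m)⁻¹ * y * c ^ m))
        (fun m _ y => by
          rw [← End.mul_apply, ← map_mul,
            show (y : Γ) * c ^ m = c ^ m * ((c ^ m)⁻¹ * y * c ^ m) by group, map_mul, End.mul_apply,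
            hUmem.mp hu _ ((Subgroup.mem_normalizer_iff''.mp (hcN' m) _).mp y.2), map_smul])
        (fun m hm m' hm' he => by
          by_contra hne'
          have hg : c ^ m' * (c ^ m)⁻¹ ∈ F := by
            refine ⟨mul_mem (hcN' m') (inv_mem (hcN' m)), fun y hy => ?_⟩
            have hc' : Commute (c ^ m') (c ^ m)⁻¹ := ((Commute.refl c).pow_pow m' m).inv_right
            have hy'' : c ^ m' * y * (c ^ m')⁻¹ ∈ Z :=
              (Subgroup.mem_normalizer_iff.mp (hcN' m') y).mp hy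
            have e := congrFun he ⟨_, hy''⟩
            dsimp only at e
            rw [show (c ^ m')⁻¹ * (c ^ m' * y * (c ^ m')⁻¹) * c ^ m' = y by group] at e
            rw [← e]
            congr 1
            rw [hc'.eq]
            group
          refine hcF (hTfix (mul_mem (pow_mem (Subgroup.mem_zpowers c) _)
            (inv_mem (pow_mem (Subgroup.mem_zpowers c) _))) ?_ hg)
          rw [Ne, mul_inv_eq_one]
          intro e
          refine hne' (pow_injOn_Iio_orderOf ?_ ?_ e.symm) <;> rw [Set.mem_Iio, hord]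
          · exact Finset.mem_range.mp hm
          · exact Finset.mem_range.mp hm')
        hsum' 0 (Finset.mem_range.mpr (by norm_num))
      simpa using h4
    have hCK : ∀ x ∈ D, c * x = x * c → x ∈ K := by
      intro x hx hcx
      refine ⟨hx, fun u hu => ?_⟩
      have h1 := congrArg (fun e : End k W => e u) (hDfix x hx hcx)
      simp only [LinearMap.sum_apply] at h1
      refine sub_eq_zero.mp (hdistinct _ (sub_mem (hUD x hx u hu) hu) ?_)
      simp only [map_sub, Finset.sum_sub_distrib, ← End.mul_apply, ← map_mul]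
      rw [sub_eq_zero, ← h1]
      refine Finset.sum_congr rfl fun m _ => ?_
      rw [(Commute.pow_left hcx m).eq]
    have hinjρ : ∀ g : Γ, Function.Injective (ρ g) := fun g p r hpr => by
      have := congrArg (ρ g⁻¹) hpr
      simpa only [← End.mul_apply, ← map_mul, inv_mul_cancel, map_one, End.one_apply] using this
    have hneg : ∀ u ∈ U, ρ a u = -u := by
      have hfix0 : ∀ u ∈ U, ρ a u = u → u = 0 := by
        intro u hu hau
        set w := ∑ m ∈ Finset.range 3, ρ (c ^ m) u with hw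
        have hwc : ρ c w = w := by
          rw [hw, map_sum]
          simp only [Finset.sum_range_succ, Finset.sum_range_zero, zero_add, ← End.mul_apply, ← map_mul,
            ← pow_succ', zero_add, hc3, pow_zero]
          abel
        have hwa : ρ a w = w := by
          have hac' : ∀ m, ρ a (ρ (c ^ m) u) = ρ ((c⁻¹) ^ m) u := fun m => by
            conv_rhs => rw [← hau]
            rw [← End.mul_apply, ← map_mul, ← End.mul_apply, ← map_mul, ← hac, conj_pow]
            congr 2
            group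
          rw [hw, map_sum, Finset.sum_congr rfl (fun m _ => hac' m)]
          have e1 : c⁻¹ = c ^ 2 := inv_eq_of_mul_eq_one_right (by rw [← pow_succ']; exact hc3)
          simp only [Finset.sum_range_succ, Finset.sum_range_zero, zero_add, pow_zero, pow_one, e1,
            ← pow_mul]
          rw [show c ^ (2 * 2) = c by
            rw [show 2 * 2 = 3 + 1 from rfl, pow_add, hc3, one_mul, pow_one]]
          simp only [Nat.mul_zero, pow_zero]
          abel
        have hAw : ∀ g ∈ A, ρ g w = w := by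
          let S : Subgroup Γ :=
            { carrier := {g | ρ g w = w}
              one_mem' := by simp
              mul_mem' := fun {g h} (hg : _ = _) (hh : _ = _) => by
                show ρ (g * h) w = w
                rw [map_mul, End.mul_apply, hh, hg]
              inv_mem' := fun {g} (hg : _ = _) => by
                show ρ g⁻¹ w = w
                apply hinjρ g
                rw [hinvρ, hg] }
          intro g hg
          exact (hgen ▸ sup_le (Subgroup.zpowers_le.mpr (show c ∈ S from hwc))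
            (Subgroup.zpowers_le.mpr (show a ∈ S from hwa)) : A ≤ S) hg
        have hs := hsumA w
        rw [Finset.sum_congr rfl (fun (g : A) _ => hAw g g.2), Finset.sum_const, Finset.card_univ,
          ← Nat.cast_smul_eq_nsmul k] at hs
        refine hdistinct u hu ((smul_eq_zero.mp hs).resolve_left ?_)
        intro e
        have hcardA : Fintype.card A ∣ 2 * 3 := by
          rw [← Nat.card_eq_fintype_card, ← hgen]
          have han : Subgroup.zpowers a ≤ Subgroup.normalizer (T : Set Γ) := by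
            rw [Subgroup.zpowers_le]
            refine Coprime.mem_normalizer_of_conj_smul_eq (Coprime.eq_of_le_of_card_le ?_
              (Coprime.card_conj_smul a T).ge)
            intro t ht
            rw [Coprime.mem_conj_smul] at ht
            obtain ⟨m, hm⟩ := (isOfFinOrder_of_finite c).mem_powers_iff_mem_zpowers.mpr ht
            dsimp only at hm
            rw [show t = a * c ^ m * a⁻¹ by rw [hm]; group, ← conj_pow, hac]
            exact pow_mem (inv_mem (Subgroup.mem_zpowers c)) m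
          refine (Dvd.intro _ (Coprime.card_sup_mul_card_inf han)).trans ?_
          rw [mul_comm 2 3, hT, Nat.card_zpowers, Nat.card_zpowers, hord]
          exact mul_dvd_mul_left 3 (orderOf_dvd_of_pow_eq_one (by rw [sq, haa]))
        obtain ⟨l, hl⟩ := hcardA
        have h4 : ((2 * 3 : ℕ) : k) = 0 := by rw [hl, Nat.cast_mul, e, zero_mul]
        rw [Nat.cast_mul, Nat.cast_ofNat, Nat.cast_ofNat] at h4
        rcases mul_eq_zero.mp h4 with h | h
        · exact h2 h
        · exact h3 h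
      intro u hu
      refine eq_neg_of_add_eq_zero_left (hfix0 _ (add_mem (hUF a haF u hu) hu) ?_)
      rw [map_add, ← End.mul_apply, ← map_mul, haa, map_one, End.one_apply, add_comm]
    have haK : ∀ x ∈ D, a * x * a⁻¹ * x⁻¹ ∈ K := fun x hx => by
      refine ⟨mul_mem ((Subgroup.mem_normalizer_iff.mp (hAD haA) x).mp hx) (inv_mem hx), fun w hw => ?_⟩
      have ha' : a⁻¹ = a := inv_eq_of_mul_eq_one_right haa
      rw [ha', map_mul, map_mul, map_mul, End.mul_apply, End.mul_apply, End.mul_apply,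
        hneg _ (hUD _ (inv_mem hx) w hw), map_neg, map_neg, hinvρ, hneg w hw, neg_neg]
    -- the series argument
    have hKn : ∀ g ∈ D, g ∈ Subgroup.normalizer (K : Set Γ) := by
      have key : ∀ g ∈ D, ∀ s ∈ K, g * s * g⁻¹ ∈ K := fun g hg s hs =>
        ⟨mul_mem (mul_mem hg hs.1) (inv_mem hg), fun w hw => by
          rw [map_mul, map_mul, End.mul_apply, End.mul_apply, hs.2 _ (hUD _ (inv_mem hg) w hw), hinvρ]⟩
      intro g hg
      rw [Subgroup.mem_normalizer_iff]
      exact fun s => ⟨key g hg s, fun hs => by simpa [mul_assoc] using key g⁻¹ (inv_mem hg) _ hs⟩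
    have hKD : K ≤ D := fun s hs => hs.1
    have hLn : ∀ (m : ℕ), ∀ g ∈ Subgroup.normalizer (D : Set Γ),
        g ∈ Subgroup.normalizer (L m : Set Γ) := by
      intro m g hg
      refine Coprime.mem_normalizer_of_conj_smul_eq ?_
      show (D.lowerCentralSeries m).map (MulAut.conj g).toMonoidHom = D.lowerCentralSeries m
      rw [Subgroup.map_lowerCentralSeries]
      exact congrArg (fun H : Subgroup Γ => H.lowerCentralSeries m)
        (Coprime.conj_smul_eq_of_mem_normalizer hg)
    set N := K ⊔ L 2 with hN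
    have hND : N ≤ D := sup_le hKD (hLD 2)
    have hDN : D ≤ Subgroup.normalizer (N : Set Γ) := Coprime.le_normalizer_sup (fun g hg => hKn g hg)
      (fun g hg => hLn 2 g (Subgroup.le_normalizer hg))
    haveI : (N.subgroupOf D).Normal := Subgroup.normal_subgroupOf_of_le_normalizer hDN
    let π : D →* D ⧸ N.subgroupOf D := QuotientGroup.mk' _
    have hπ : ∀ {g : Γ} (hg : g ∈ D), π ⟨g, hg⟩ = 1 ↔ g ∈ N := fun {g} hg => by
      rw [QuotientGroup.mk'_apply, QuotientGroup.eq_one_iff, Subgroup.mem_subgroupOf]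
    have hcentral : ∀ {g : Γ} (hg : g ∈ D), g ∈ L 1 ⊔ K → ∀ e, Commute (π ⟨g, hg⟩) e := by
      intro g hg hg1 e
      obtain ⟨⟨h, hh⟩, rfl⟩ := QuotientGroup.mk'_surjective _ e
      rw [← commutatorElement_eq_one_iff_commute, ← map_commutatorElement]
      refine (hπ _).mpr ?_
      show g * h * g⁻¹ * h⁻¹ ∈ N
      obtain ⟨l, hl, s, hs, rfl⟩ := Coprime.exists_mul_of_mem_sup
        (hKD.trans (fun g hg => hLn 1 g (Subgroup.le_normalizer hg))) hg1
      rw [show l * s * h * (l * s)⁻¹ * h⁻¹ = (l * (s * (h * s⁻¹ * h⁻¹)) * l⁻¹) * (l * h * l⁻¹ * h⁻¹) by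
        group]
      refine mul_mem ((Subgroup.mem_normalizer_iff.mp (hDN (hLD 1 hl)) _).mp
        (Subgroup.mem_sup_left (mul_mem hs ?_))) (Subgroup.mem_sup_right ?_)
      · exact (Subgroup.mem_normalizer_iff.mp (hKn h hh) _).mp (inv_mem hs)
      · exact Subgroup.commutator_mem_commutator hl hh
    -- the relation for elements centralized by `a`
    have hnorm : ∀ (m : ℕ), ∀ x ∈ L m, a * x = x * a → (∀ y ∈ L m, ⁅x, y⁆ ∈ L (m + 1)) →
        x * (c * x * c⁻¹) * (c * x * c⁻¹) ∈ K ⊔ L (m + 1) := by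
      intro m x hxm hax hcomm'
      have hx : x ∈ D := hLD m hxm
      have hcm : c * x * c⁻¹ ∈ L m := (Subgroup.mem_normalizer_iff.mp (hLn m c (hAD hcA)) x).mp hxm
      have hc2m : c * (c * x * c⁻¹) * c⁻¹ ∈ L m :=
        (Subgroup.mem_normalizer_iff.mp (hLn m c (hAD hcA)) _).mp hcm
      set w := (x * c) ^ 3 with hw
      have hwe : w = x * (c * x * c⁻¹) * (c * (c * x * c⁻¹) * c⁻¹) := by
        rw [hw, show (x * c) ^ 3 = (x * c) * (x * c) * (x * c) by rw [pow_succ, sq]]
        calc x * c * (x * c) * (x * c)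
            = x * (c * x * c⁻¹) * (c * (c * x * c⁻¹) * c⁻¹) * (c * c * c) := by group
          _ = _ := by rw [show c * c * c = 1 by rw [← hc3, pow_succ, sq], mul_one]
      have hwm : w ∈ L m := by rw [hwe]; exact mul_mem (mul_mem hxm hcm) hc2m
      obtain ⟨y, hy, hcy, hyN⟩ := hlift w (hLD m hwm) (L (m + 1)) (hLD _)
        (fun t ht => hLn _ t (hAD (hTA ht))) (hLn _ w (Subgroup.le_normalizer (hLD m hwm))) (by
          have e : c * w * c⁻¹ = x⁻¹ * w * x := by
            rw [hw, ← conj_pow]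
            conv_rhs => rw [show x⁻¹ * (x * c) ^ 3 * x = x⁻¹ * (x * c) ^ 3 * (x⁻¹)⁻¹ by rw [inv_inv],
              ← conj_pow]
            congr 1
            group
          rw [e]
          have h5 := (Subgroup.mem_normalizer_iff''.mp (hLn (m + 1) x (Subgroup.le_normalizer hx)) _).mp
            (inv_mem (hcomm' w hwm))
          simpa [commutatorElement_def, mul_assoc] using h5)
      have hwK : w ∈ K ⊔ L (m + 1) := by
        rw [show w = y * (w⁻¹ * y)⁻¹ by group]
        exact mul_mem (Subgroup.mem_sup_left (hCK y hy hcy)) (inv_mem (Subgroup.mem_sup_right hyN))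
      have ha' : a⁻¹ = a := inv_eq_of_mul_eq_one_right haa
      have e2 : c * (c * x * c⁻¹) * c⁻¹ = a * (c * x * c⁻¹) * a⁻¹ := by
        have hc2 : a * c * a⁻¹ = c * c := by
          rw [hac]; exact inv_eq_of_mul_eq_one_right (by rw [← hc3, pow_succ, sq, mul_assoc])
        calc c * (c * x * c⁻¹) * c⁻¹ = (c * c) * x * (c * c)⁻¹ := by group
          _ = (a * c * a⁻¹) * (a * x * a⁻¹) * (a * c * a⁻¹)⁻¹ := by
              rw [hc2, hax, mul_inv_cancel_right]
          _ = _ := by group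
      rw [hwe, e2] at hwK
      have hcx : c * x * c⁻¹ ∈ D := hLD m hcm
      have := mul_mem hwK (Subgroup.mem_sup_left (inv_mem (haK _ hcx)))
      rw [show x * (c * x * c⁻¹) * (a * (c * x * c⁻¹) * a⁻¹) *
          (a * (c * x * c⁻¹) * a⁻¹ * (c * x * c⁻¹)⁻¹)⁻¹ =
          x * (c * x * c⁻¹) * (a * (c * x * c⁻¹) * a⁻¹ * ((c * x * c⁻¹) * (a * (c * x * c⁻¹) * a⁻¹)⁻¹))
          by group] at this
      have hKLn : a * (c * x * c⁻¹) * a⁻¹ * (c * x * c⁻¹)⁻¹ ∈ K := haK _ hcx
      have h6 : x * (c * x * c⁻¹) * (c * x * c⁻¹) = x * (c * x * c⁻¹) * (a * (c * x * c⁻¹) * a⁻¹) *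
          ((a * (c * x * c⁻¹) * a⁻¹)⁻¹ * (a * (c * x * c⁻¹) * a⁻¹ * (c * x * c⁻¹)⁻¹)⁻¹ *
            (a * (c * x * c⁻¹) * a⁻¹)) := by group
      rw [h6]
      exact mul_mem hwK (Subgroup.mem_sup_left ((Subgroup.mem_normalizer_iff''.mp
        (hKn _ ((Subgroup.mem_normalizer_iff.mp (hAD haA) _).mp hcx)) _).mp (inv_mem hKLn)))
    have hpair : ∀ x ∈ D, ∀ y ∈ D, a * x = x * a → a * y = y * a → ⁅x, y⁆ ∈ N := by
      intro x hx y hy hax hay
      have hcx : c * x * c⁻¹ ∈ D := (Subgroup.mem_normalizer_iff.mp (hAD hcA) x).mp hx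
      have hcy : c * y * c⁻¹ ∈ D := (Subgroup.mem_normalizer_iff.mp (hAD hcA) y).mp hy
      have hz : ⁅x, y⁆ ∈ L 1 := Subgroup.commutator_mem_commutator hx hy
      have haz : a * ⁅x, y⁆ = ⁅x, y⁆ * a := by
        rw [commutatorElement_def]
        exact (((show Commute a x from hax).mul_right (show Commute a y from hay)).mul_right
          (show Commute a x from hax).inv_right).mul_right (show Commute a y from hay).inv_right
      have hx2 := hnorm 0 x hx hax (fun g hg => Subgroup.commutator_mem_commutator hx hg)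
      have hy2 := hnorm 0 y hy hay (fun g hg => Subgroup.commutator_mem_commutator hy hg)
      have hz2 := hnorm 1 _ hz haz (fun g hg => Subgroup.commutator_mem_commutator hz (hLD 1 hg))
      have hzD : ⁅x, y⁆ ∈ D := hLD 1 hz
      have hcz : c * ⁅x, y⁆ * c⁻¹ ∈ D := (Subgroup.mem_normalizer_iff.mp (hAD hcA) _).mp hzD
      set X := π ⟨_, hcx⟩ with hX
      set Y := π ⟨_, hcy⟩ with hY
      set Zc := π ⟨_, hcz⟩ with hZc
      have hXY : ⁅X, Y⁆ = Zc := by
        rw [hX, hY, hZc, ← map_commutatorElement]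
        congr 1
        refine Subtype.ext ?_
        simp only [commutatorElement_def, Subgroup.coe_mul, Subgroup.coe_inv]
        group
      have hcent' : ∀ g, Commute ⁅X, Y⁆ g := fun g => by
        rw [hXY]
        exact hcentral hcz (Subgroup.mem_sup_left
          ((Subgroup.mem_normalizer_iff.mp (hLn 1 c (hAD hcA)) _).mp hz)) g
      have ex : ∃ e, (∀ g, Commute e g) ∧ π ⟨x, hx⟩ = e * (X ^ 2)⁻¹ := by
        refine ⟨π ⟨_, mul_mem (mul_mem hx hcx) hcx⟩, hcentral _ (sup_comm K (L 1) ▸ hx2), ?_⟩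
        rw [hX, ← map_pow, ← map_inv, ← map_mul]
        congr 1
        exact Subtype.ext (by simp [sq, mul_assoc])
      have ey : ∃ e, (∀ g, Commute e g) ∧ π ⟨y, hy⟩ = e * (Y ^ 2)⁻¹ := by
        refine ⟨π ⟨_, mul_mem (mul_mem hy hcy) hcy⟩, hcentral _ (sup_comm K (L 1) ▸ hy2), ?_⟩
        rw [hY, ← map_pow, ← map_inv, ← map_mul]
        congr 1
        exact Subtype.ext (by simp [sq, mul_assoc])
      obtain ⟨e, he, hex⟩ := ex
      obtain ⟨f, hf, hey⟩ := ey
      have h4 : π ⟨_, hzD⟩ = ⁅X, Y⁆ ^ 4 := by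
        have h5 := central_pow_comm hcent' 2 2
        have e5 : π ⟨_, hzD⟩ = π ⟨x, hx⟩ * π ⟨y, hy⟩ * (π ⟨x, hx⟩)⁻¹ * (π ⟨y, hy⟩)⁻¹ := by
          rw [← map_inv, ← map_inv, ← map_mul, ← map_mul, ← map_mul]
          congr 1
        rw [e5, hex, hey]
        calc e * (X ^ 2)⁻¹ * (f * (Y ^ 2)⁻¹) * (e * (X ^ 2)⁻¹)⁻¹ * (f * (Y ^ 2)⁻¹)⁻¹
            = (X ^ 2)⁻¹ * (Y ^ 2)⁻¹ * X ^ 2 * Y ^ 2 := by
              rw [(he _).eq, (hf _).eq, mul_inv_rev, mul_inv_rev, inv_inv, inv_inv]
              have e1 : ∀ g, e * g = g * e := fun g => (he g).eq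
              have f1 : ∀ g, f * g = g * f := fun g => (hf g).eq
              calc (X ^ 2)⁻¹ * e * ((Y ^ 2)⁻¹ * f) * (e⁻¹ * X ^ 2) * (f⁻¹ * Y ^ 2)
                  = (X ^ 2)⁻¹ * (e * ((Y ^ 2)⁻¹ * f)) * e⁻¹ * X ^ 2 * f⁻¹ * Y ^ 2 := by
                    simp only [mul_assoc]
                _ = (X ^ 2)⁻¹ * (Y ^ 2)⁻¹ * (f * X ^ 2) * f⁻¹ * Y ^ 2 := by
                    rw [e1]; group
                _ = _ := by rw [f1]; group
          _ = (Y ^ 2 * X ^ 2)⁻¹ * (X ^ 2 * Y ^ 2) := by group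
          _ = ⁅X, Y⁆ ^ 4 := by
              rw [h5, ← mul_assoc, ← ((hcent' _).pow_left _).eq, mul_assoc, inv_mul_cancel, mul_one]
      have h6 : π ⟨_, hzD⟩ * Zc * Zc = 1 := by
        rw [hZc, ← map_mul, ← map_mul]
        exact (hπ _).mpr hz2
      have h7 : π ⟨_, hzD⟩ ^ 3 = 1 := by
        have e7 : π ⟨_, hzD⟩ = Zc ^ 4 := by rw [h4, hXY]
        have e8 : Zc ^ 6 = 1 := by
          rw [← h6, e7]; group
        rw [e7, ← pow_mul, show 4 * 3 = 6 + 6 from rfl, pow_add, e8, one_mul]
      have h8 : ⁅x, y⁆ ^ 3 ∈ N := by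
        rw [← map_pow] at h7
        exact (hπ _).mp h7
      obtain ⟨l, hl⟩ := hDq ⟨_, hzD⟩
      have h9 : ⁅x, y⁆ ^ q ^ l ∈ N := by
        rw [show ⁅x, y⁆ ^ q ^ l = 1 from congrArg Subtype.val hl]; exact one_mem _
      have hg := Nat.gcd_eq_gcd_ab 3 (q ^ l)
      have hg1 : Nat.gcd 3 (q ^ l) = 1 := Nat.coprime_iff_gcd_eq_one.mp
        (Nat.Coprime.pow_right l ((Nat.coprime_primes Nat.prime_three hq).mpr (by omega)))
      rw [hg1] at hg
      have : ⁅x, y⁆ = (⁅x, y⁆ ^ 3) ^ Nat.gcdA 3 (q ^ l) * (⁅x, y⁆ ^ q ^ l) ^ Nat.gcdB 3 (q ^ l) := by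
        rw [← zpow_natCast, ← zpow_natCast _ (q ^ l), ← zpow_mul, ← zpow_mul, ← zpow_add, ← hg]
        simp
      rw [this]
      exact mul_mem (zpow_mem h8 _) (zpow_mem h9 _)
    -- every element is a product with one centralized by `a`
    have hdec : ∀ x ∈ D, ∃ x' ∈ D, a * x' = x' * a ∧ x⁻¹ * x' ∈ K := by
      intro x hx
      have hzp : ∀ t ∈ Subgroup.zpowers a, t = 1 ∨ t = a := by
        intro t ht
        obtain ⟨l, rfl⟩ := (isOfFinOrder_of_finite a).mem_powers_iff_mem_zpowers.mpr ht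
        rcases Nat.even_or_odd l with ⟨l', hl'⟩ | ⟨l', hl'⟩
        · left; show a ^ l = 1; rw [hl', ← two_mul, pow_mul, sq, haa, one_pow]
        · right; show a ^ l = a; rw [hl', pow_succ, pow_mul, sq, haa, one_pow, one_mul]
      have haKn : Subgroup.zpowers a ≤ Subgroup.normalizer (K : Set Γ) := by
        rw [Subgroup.zpowers_le, Subgroup.mem_normalizer_iff]
        have key : ∀ g ∈ F, g ∈ Subgroup.normalizer (D : Set Γ) → ∀ s ∈ K, g * s * g⁻¹ ∈ K :=
          fun g hg hgD s hs => ⟨(Subgroup.mem_normalizer_iff.mp hgD s).mp hs.1, fun w hw => by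
            rw [map_mul, map_mul, End.mul_apply, End.mul_apply, hs.2 _ (hUF _ (inv_mem hg) w hw),
              hinvρ]⟩
        exact fun s => ⟨key a haF (hAD haA) s, fun hs => by
          simpa [mul_assoc] using key a⁻¹ (inv_mem haF) (inv_mem (hAD haA)) _ hs⟩
      obtain ⟨m, hm, hxm⟩ := Coprime.exists_mem_centralizer_of_fixed_coset (A := Subgroup.zpowers a)
        (N := K) (k := x) haKn ((hcop.coprime_dvd_left (Subgroup.card_dvd_of_le
          (Subgroup.zpowers_le.mpr haA))).coprime_dvd_right (Subgroup.card_dvd_of_le hKD))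
        (Or.inl (Coprime.isSolvable_zpowers a)) (hKn x hx) (fun t ht => by
          rcases hzp t ht with rfl | rfl
          · simp
          · exact haK x hx)
      · exact ⟨x * m, mul_mem hx (hKD hm),
          Subgroup.mem_centralizer_iff.mp hxm a (Subgroup.mem_zpowers a), by rwa [inv_mul_cancel_left]⟩
    have hstep : L 1 ≤ K ⊔ L 2 := by
      show ⁅D, D⁆ ≤ K ⊔ L 2
      rw [Subgroup.commutator_le]
      intro x hx y hy
      obtain ⟨x', hx', hax', hxk⟩ := hdec x hx
      obtain ⟨y', hy', hay', hyk⟩ := hdec y hy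
      have e1 : ∀ {g g' : Γ} (hg : g ∈ D) (hg' : g' ∈ D), g⁻¹ * g' ∈ K → π ⟨g, hg⟩ = π ⟨g', hg'⟩ := by
        intro g g' hg hg' hgg
        refine QuotientGroup.eq.mpr ?_
        rw [Subgroup.mem_subgroupOf]
        exact Subgroup.mem_sup_left hgg
      have h1 : π ⟨⁅x, y⁆, hLD 1 (Subgroup.commutator_mem_commutator hx hy)⟩ =
          π ⟨⁅x', y'⁆, hLD 1 (Subgroup.commutator_mem_commutator hx' hy')⟩ := by
        show π ⁅(⟨x, hx⟩ : D), ⟨y, hy⟩⁆ = π ⁅(⟨x', hx'⟩ : D), ⟨y', hy'⟩⁆
        rw [map_commutatorElement, map_commutatorElement, e1 hx hx' hxk, e1 hy hy' hyk]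
      rw [(hπ _).mpr (hpair x' hx' y' hy' hax' hay')] at h1
      exact (hπ _).mp h1
    have hall : ∀ j : ℕ, L 1 ≤ K ⊔ L (j + 1) := by
      have hshift : ∀ j : ℕ, L (j + 1) ≤ K ⊔ L (j + 2) := by
        intro j
        induction j with
        | zero => exact hstep
        | succ j ih =>
          show ⁅L (j + 1), D⁆ ≤ _
          refine (Subgroup.commutator_mono ih le_rfl).trans ?_
          rw [Subgroup.commutator_le]
          intro g hg h hh
          obtain ⟨l, hl, s, hs, rfl⟩ := Coprime.exists_mul_of_mem_sup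
            (hKD.trans (fun g hg => hLn (j + 2) g (Subgroup.le_normalizer hg)))
            (sup_comm K (L (j + 2)) ▸ hg)
          have hDn2 : D ≤ Subgroup.normalizer ((K ⊔ L (j + 3) : Subgroup Γ) : Set Γ) :=
            Coprime.le_normalizer_sup (fun g hg => hKn g hg)
              (fun g hg => hLn _ g (Subgroup.le_normalizer hg))
          rw [commutatorElement_def,
            show l * s * h * (l * s)⁻¹ * h⁻¹ = (l * (s * (h * s⁻¹ * h⁻¹)) * l⁻¹) * (l * h * l⁻¹ * h⁻¹) by
              group]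
          exact mul_mem ((Subgroup.mem_normalizer_iff.mp (hDn2 (hLD _ hl)) _).mp
            (Subgroup.mem_sup_left (mul_mem hs ((Subgroup.mem_normalizer_iff.mp (hKn h hh) _).mp
              (inv_mem hs))))) (Subgroup.mem_sup_right (Subgroup.commutator_mem_commutator hl hh))
      intro j
      induction j with
      | zero => exact le_sup_right
      | succ j ih => exact ih.trans (sup_le le_sup_left (hshift j))
    have hfin := hall N0
    have hLN1 : L (N0 + 1) = ⊥ := le_bot_iff.mp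
      (hLN ▸ Subgroup.lowerCentralSeries_antitone (S := D) (Nat.le_succ N0))
    rw [hLN1, sup_bot_eq] at hfin
    exact hfin

end Cfsg.Agent.Lib.Solvable.FPF
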