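import Cfsg.Agent.Lib.Solvable.FPF.SymThree
import Cfsg.Agent.Lib.Solvable.FPF.FrobeniusAbelian
import Cfsg.Agent.Lib.Solvable.FPF.Ward

/-!
A solvable group with the symmetric group of degree three acting coprimely without fixed points has
nilpotent derived subgroup.
-/

set_option autoImplicit false

open scoped commutatorElement

universe u v

namespace Cfsg.Agent.Lib.Solvable.FPF

open Module Cfsg.Agent.Lib SemidirectProduct

theorem symThree_aux : ∀ (n : ℕ) (G : Type u) [Group G] [Finite G] (A : Type v) [Group A] [Finite A]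
    (φ : A →* MulAut G) (c : A), Nat.card G = n → Group.IsSolvable G → Group.IsSolvable A →
    c ^ 3 = 1 → c ≠ 1 → (∃ b : A, b ∉ Subgroup.zpowers c) →
    (∀ g : A, g ∉ Subgroup.zpowers c →
      g * g = 1 ∧ g * c * g⁻¹ = c⁻¹ ∧ Subgroup.zpowers c ⊔ Subgroup.zpowers g = ⊤) →
    (Nat.card G).Coprime 6 → (Nat.card A).Coprime (Nat.card G) →
    (∀ g, (∀ a, φ a g = g) → g = 1) →
    commutator G ≤ Cfsg.fittingSubgroup G := by
  intro n
  induction n using Nat.strongRecOn with
  | ind n IH =>
  intro G _ _ A _ _ φ c hn hsol hAsolv hc3 hc1 hne hout h6 hcopG hfpf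
  classical
  rcases subsingleton_or_nontrivial G with hG | hG
  · intro x _
    rw [Subsingleton.elim x 1]
    exact one_mem _
  have hordc : orderOf c = 3 := haveI := Fact.mk Nat.prime_three; orderOf_eq_prime hc3 hc1
  have hnot : ∀ {l : ℕ}, l.Prime → l ∣ Nat.card G → 5 ≤ l := by
    intro l hl hd
    have h1 : l.Coprime 6 := h6.coprime_dvd_left hd
    by_contra hlt
    have := hl.two_le
    interval_cases l <;> revert h1 hl <;> decide
  obtain ⟨s, V, hs, hVc, hV0, hVcomm, hVexp, hVF⟩ := exists_elementary_char hsol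
  haveI := Fact.mk hs
  have hsG : s ∣ Nat.card G := by
    obtain ⟨w, hw, hw1⟩ : ∃ w ∈ V, w ≠ 1 := by
      by_contra h
      push Not at h
      exact hV0 ((Subgroup.eq_bot_iff_forall V).mpr h)
    rw [← orderOf_eq_prime (hVexp w hw) hw1]
    exact orderOf_dvd_natCard w
  set F := Cfsg.fittingSubgroup G with hF
  haveI : F.Normal := Cores.fittingSubgroup_normal G
  let π := QuotientGroup.mk' V
  have hVφ : ∀ a, ∀ x ∈ V, φ a x ∈ V := fun a x hx => apply_mem_of_characteristic (φ a) V hx
  -- the quotient by `V`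
  let φV : A →* MulAut (G ⧸ V) :=
    { toFun := fun a => quotAut (φ a) V (hVφ a)
      map_one' := MulEquiv.ext fun y => by
        induction y using QuotientGroup.induction_on with
        | H y => rw [quotAut_mk, map_one]; rfl
      map_mul' := fun a b => MulEquiv.ext fun y => by
        induction y using QuotientGroup.induction_on with
        | H y => rw [MulAut.mul_apply, quotAut_mk, quotAut_mk, quotAut_mk, map_mul]; rfl }
  have hlt : Nat.card (G ⧸ V) < n := by
    rw [← hn, Subgroup.card_eq_card_quotient_mul_card_subgroup V]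
    exact lt_mul_of_one_lt_right Nat.card_pos (V.one_lt_card_iff_ne_bot.mpr hV0)
  have hIH := IH _ hlt (G ⧸ V) A φV c rfl
    (Coprime.isSolvable_of_surjective' (QuotientGroup.mk'_surjective V) hsol) hAsolv hc3 hc1 hne hout
    (h6.coprime_dvd_left (Subgroup.card_quotient_dvd_card V))
    (hcopG.coprime_dvd_right (Subgroup.card_quotient_dvd_card V))
    (fun y hy => by
      induction y using QuotientGroup.induction_on with
      | H y =>
        have hk : ∀ a, φ a y * y⁻¹ ∈ V := fun a => by
          have h1 := hy a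
          change quotAut (φ a) V (hVφ a) (y : G ⧸ V) = y at h1
          rw [quotAut_mk, QuotientGroup.eq_iff_div_mem, div_eq_mul_inv] at h1
          exact h1
        obtain ⟨m, hm, hfix⟩ := Coprime.exists_fixed_of_fixed_coset φ hcopG (Or.inl hAsolv) hVφ y hk
        have h2 := hfpf _ hfix
        rw [QuotientGroup.eq_one_iff, eq_inv_of_mul_eq_one_left h2]
        exact inv_mem hm)
  set M := (Cfsg.fittingSubgroup (G ⧸ V)).comap π with hM
  haveI : M.Normal := Subgroup.Normal.comap inferInstance π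
  have hGM : commutator G ≤ M := by
    rw [hM, ← Subgroup.map_le_iff_le_comap]
    refine le_trans ?_ hIH
    rw [commutator_def, Subgroup.map_commutator]
    exact Subgroup.commutator_mono le_top le_top
  -- the semidirect product
  haveI : Finite (G ⋊[φ] A) := Coprime.finite_semidirect φ
  set V' := V.map (inl : G →* G ⋊[φ] A) with hV'
  haveI : V'.Normal := by
    refine ⟨?_⟩
    rintro _ ⟨x, hx, rfl⟩ g
    refine ⟨g.left * φ g.right x * g.left⁻¹, ?_, ?_⟩
    · exact Subgroup.Normal.conj_mem inferInstance _ (hVφ _ x hx) _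
    · conv_rhs => rw [← inl_left_mul_inr_right g]
      rw [mul_inv_rev, map_mul, map_mul, map_inv, inl_aut]
      simp only [map_inv, mul_assoc]
  letI : CommGroup V' := { (inferInstance : Group V') with
    mul_comm := by
      rintro ⟨_, a, ha, rfl⟩ ⟨_, b, hb, rfl⟩
      exact Subtype.ext (by
        show inl a * inl b = inl b * inl a
        rw [← map_mul, ← map_mul, (hVcomm a ha b hb).eq]) }
  obtain ⟨ρ₀, hρ₀, hnormρ⟩ := exists_representation (V := V') (s := s) (by
    rintro ⟨_, a, ha, rfl⟩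
    exact Subtype.ext (by show (inl a) ^ s = 1; rw [← map_pow, hVexp a ha, map_one]))
  let ψ : G ⋊[φ] A →* MulAut V' := MulAut.conjNormal
  let ρ := ρ₀.comp ψ
  have hρker : ∀ {x : G}, ρ (inl x) = 1 → x ∈ Subgroup.centralizer (V : Set G) := fun {x} hx =>
    Subgroup.mem_centralizer_iff.mpr fun w hw => by
      have h1 : ψ (inl x) = 1 := hρ₀ (hx.trans (map_one ρ₀).symm)
      have h2 := congrArg Subtype.val (DFunLike.congr_fun h1 (⟨inl w, w, hw, rfl⟩ : V'))
      simp only [ψ, MulAut.conjNormal_apply, MulAut.one_apply] at h2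
      rw [← map_inv, ← map_mul, ← map_mul] at h2
      exact (mul_inv_eq_iff_eq_mul.mp (inl_injective h2)).symm
  set A' := (inr : A →* G ⋊[φ] A).range with hA'
  set c' : G ⋊[φ] A := inr c with hc'def
  have hc'A : c' ∈ A' := ⟨c, rfl⟩
  have hc'3 : c' ^ 3 = 1 := by rw [hc'def, ← map_pow, hc3, map_one]
  have hc'1 : c' ≠ 1 := fun e => hc1 (inr_injective (e.trans (map_one _).symm))
  have hTmap : Subgroup.zpowers c' = (Subgroup.zpowers c).map inr := (MonoidHom.map_zpowers _ _).symm
  have hout' : ∀ g ∈ A', g ∉ Subgroup.zpowers c' →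
      g * g = 1 ∧ g * c' * g⁻¹ = c'⁻¹ ∧ Subgroup.zpowers c' ⊔ Subgroup.zpowers g = A' := by
    rintro _ ⟨g, rfl⟩ hg
    obtain ⟨h1, h2, h3⟩ := hout g fun h => hg (by rw [hTmap]; exact ⟨g, h, rfl⟩)
    refine ⟨by rw [← map_mul, h1, map_one], by rw [hc'def, ← map_inv, ← map_mul, ← map_mul, h2, map_inv],
      ?_⟩
    rw [hc'def, ← MonoidHom.map_zpowers, ← MonoidHom.map_zpowers, ← Subgroup.map_sup, h3, hA',
      MonoidHom.range_eq_map]
  have hne' : ¬ A' ≤ Subgroup.zpowers c' := fun h => by
    obtain ⟨b, hb⟩ := hne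
    have h1 := h ⟨b, rfl⟩
    rw [hTmap] at h1
    obtain ⟨t, ht, hte⟩ := h1
    exact hb (inr_injective hte ▸ ht)
  have hA'card : Nat.card A' = Nat.card A :=
    (Nat.card_congr (MonoidHom.ofInjective (f := (inr : A →* G ⋊[φ] A)) inr_injective).toEquiv).symm
  haveI := Fintype.ofFinite A'
  have hfix_inl : ∀ (a : A) (g : G),
      (inr a * inl g : G ⋊[φ] A) = inl g * inr a ↔ φ a g = g := by
    intro a g
    rw [← inl_inj (φ := φ), inl_aut, map_inv, mul_inv_eq_iff_eq_mul]
  have hsum : ∑ a : A', ρ a = 0 := by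
    let e := (Fintype.equivFin A').symm
    rw [← Fintype.sum_equiv e (fun i => ρ (e i)) _ (fun i => rfl)]
    have h1 := hnormρ (fun i => ψ (e i)) (fun i : Fin 0 => (1 : MulAut V')) (fun w => by
      refine Eq.trans ?_ (Fin.prod_univ_zero (fun _ : Fin 0 => (1 : MulAut V') w)).symm
      refine (Fintype.prod_equiv e (fun i => ψ (e i) w) (fun a => ψ a w) (fun i => rfl)).trans ?_
      set u := ∏ a : A', ψ a w with hu
      have huA : ∀ b : A', ψ b u = u := fun b => by
        rw [hu, map_prod]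
        exact Fintype.prod_equiv (Equiv.mulLeft b) _ _ (fun a => by
          rw [Equiv.coe_mulLeft, Subgroup.coe_mul, map_mul, MulAut.mul_apply])
      obtain ⟨g, hg, hgu⟩ := u.2
      have hg1 : g = 1 := hfpf g fun a => (hfix_inl a g).mp (by
        have h2 := congrArg Subtype.val (huA ⟨inr a, a, rfl⟩)
        simp only [ψ, MulAut.conjNormal_apply] at h2
        rw [← hgu] at h2
        exact mul_inv_eq_iff_eq_mul.mp h2)
      exact Subtype.ext (by rw [← hgu, hg1, map_one]; rfl))
    simpa [ρ] using h1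
  -- the fixed points of `c`
  have hnil : ∀ x y : G, φ c x = x → φ c y = y → (orderOf x).Coprime (orderOf y) → Commute x y := by
    intro x y hx hy hco
    set C := MonoidHom.eqLocus (φ c).toMonoidHom (MonoidHom.id G) with hCdef
    have hC : ∀ g, g ∈ C ↔ φ c g = g := fun g => Iff.rfl
    obtain ⟨b, hb⟩ := hne
    obtain ⟨hbb, hbc, hgen⟩ := hout b hb
    have hinv : C.map (φ b).toMonoidHom = C := FixedPointFree.map_eq_of_le fun g hg => by
      rw [hC] at hg ⊢
      have e : c * b = b * c⁻¹ := by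
        calc c * b = b * (b * c * b⁻¹) := by
              rw [inv_eq_of_mul_eq_one_right hbb, ← mul_assoc, ← mul_assoc, hbb, one_mul]
          _ = b * c⁻¹ := by rw [hbc]
      rw [← MulAut.mul_apply, ← map_mul, e, map_mul, MulAut.mul_apply]
      congr 1
      conv_lhs => rw [← hg]
      rw [← MulAut.mul_apply, ← map_mul, inv_mul_cancel, map_one, MulAut.one_apply]
    haveI : Group.IsNilpotent C := by
      refine FixedPointFree.isNilpotent_of_fixedPointFree Nat.prime_two
        (FixedPointFree.restrict (φ b) C hinv) ?_ ?_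
      · refine MulEquiv.ext fun g => Subtype.ext ?_
        rw [FixedPointFree.restrict_pow, ← map_pow, sq, hbb, map_one]
        rfl
      · intro g hg
        refine Subtype.ext (hfpf g fun a => ?_)
        let T : Subgroup A :=
          { carrier := {x | φ x (g : G) = g}
            one_mem' := by simp
            mul_mem' := fun {a₁ a₂} (h₁ : _ = _) (h₂ : _ = _) => by
              show φ (a₁ * a₂) (g : G) = g
              rw [map_mul, MulAut.mul_apply, h₂, h₁]
            inv_mem' := fun {a₁} (h₁ : _ = _) => by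
              show φ a₁⁻¹ (g : G) = g
              conv_lhs => rw [← h₁]
              rw [← MulAut.mul_apply, ← map_mul, inv_mul_cancel, map_one, MulAut.one_apply] }
        have hcg : c ∈ T := g.2
        have hbg : b ∈ T := congrArg Subtype.val hg
        exact (hgen ▸ sup_le (Subgroup.zpowers_le.mpr hcg) (Subgroup.zpowers_le.mpr hbg) :
          (⊤ : Subgroup A) ≤ T) (Subgroup.mem_top a)
    have := Cfsg.Agent.S1459.commute_of_coprime_orderOf (N := ↥C) ⟨x, hx⟩ ⟨y, hy⟩
      (by rwa [← Subgroup.orderOf_coe, ← Subgroup.orderOf_coe])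
    exact congrArg Subtype.val this
  have hρV : ∀ z ∈ V, ρ (inl z) = 1 := fun z hz => by
    show ρ₀ (ψ (inl z)) = 1
    have : ψ (inl z) = 1 := MulEquiv.ext fun w => Subtype.ext (by
      obtain ⟨w', hw', hw''⟩ := w.2
      simp only [ψ, MulAut.conjNormal_apply, MulAut.one_apply, ← hw'']
      rw [← map_inv, ← map_mul, ← map_mul, (hVcomm z hz w' hw').eq, mul_inv_cancel_right])
    rw [this, map_one]
  have hcast : ∀ {l : ℕ}, l.Prime → l ≠ s → (l : AlgebraicClosure (ZMod s)) ≠ 0 := fun {l} hl hls e =>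
    hls ((Nat.prime_dvd_prime_iff_eq hs hl).mp
      ((CharP.cast_eq_zero_iff (AlgebraicClosure (ZMod s)) s l).mp e)).symm
  have hs5 := hnot hs hsG
  have hcop' : ∀ (S : Subgroup G),
      (Nat.card A').Coprime (Nat.card (S.map inl : Subgroup (G ⋊[φ] A))) := fun S => by
    rw [hA'card, Subgroup.card_map_of_injective inl_injective]
    exact hcopG.coprime_dvd_right (Subgroup.card_subgroup_dvd_card S)
  have hcent : ∀ z : G, (∀ a ∈ A', a * inl z = inl z * a) → z = 1 := fun z hz =>
    hfpf z fun a => (hfix_inl a z).mp (hz _ ⟨a, rfl⟩)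
  -- elements fixed by `c` of order prime to `s` modulo `V` act compatibly with the norm
  have hDfix : ∀ z : G, φ c z = z → (∃ m : ℕ, m.Coprime s ∧ z ^ m ∈ V) →
      ∑ i ∈ Finset.range 3, ρ (inl z * c' ^ i) = ∑ i ∈ Finset.range 3, ρ (c' ^ i) := by
    rintro z hφz ⟨m, hm, hzm⟩
    rw [← Fin.sum_univ_eq_sum_range (fun i => ρ (inl z * c' ^ i)),
      ← Fin.sum_univ_eq_sum_range (fun i => ρ (c' ^ i))]
    refine hnormρ (fun i : Fin 3 => ψ (inl z * c' ^ (i : ℕ))) (fun i : Fin 3 => ψ (c' ^ (i : ℕ)))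
      fun w => ?_
    simp only [map_mul, MulAut.mul_apply]
    rw [← map_prod]
    set u := ∏ i : Fin 3, ψ (c' ^ (i : ℕ)) w with hu
    have hcu : ψ c' u = u := by
      rw [hu, map_prod]
      refine Fintype.prod_equiv (finRotate 3) _ _ (fun i => ?_)
      rw [← MulAut.mul_apply, ← map_mul, ← pow_succ', finRotate_succ_apply, Fin.val_add_one]
      split_ifs with h
      · rw [h, Fin.val_last, hc'3, pow_zero]
      · rfl
    obtain ⟨u', hu', huu⟩ := u.2
    refine Subtype.ext ?_
    simp only [ψ, MulAut.conjNormal_apply] at hcu ⊢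
    have hφu : φ c u' = u' := (hfix_inl c u').mp (by
      have h2 := congrArg Subtype.val hcu
      simp only [MulAut.conjNormal_apply] at h2
      rw [← huu, hc'def] at h2
      exact mul_inv_eq_iff_eq_mul.mp h2)
    have hcz : Commute z u' := by
      refine commute_of_commute_pow (m := m) (n := s ^ (orderOf z).factorization s)
        (hm.pow_right _) (hVcomm _ hzm _ hu') ?_
      refine hnil _ _ (by rw [map_pow, hφz]) hφu ?_
      have hord : orderOf u' ∣ s := orderOf_dvd_of_pow_eq_one (hVexp _ hu')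
      refine Nat.Coprime.coprime_dvd_right hord ?_
      rw [orderOf_pow' _ (pow_ne_zero _ hs.ne_zero),
        Nat.gcd_eq_right (Nat.ordProj_dvd (orderOf z) s)]
      exact (Nat.coprime_ordCompl hs (orderOf_pos z).ne').symm
    rw [← huu, ← map_inv, ← map_mul, ← map_mul, hcz.eq, mul_inv_cancel_right]
  -- invariant Sylow subgroups act as abelian groups
  have himg : ∀ (q : ℕ), q.Prime → q ≠ s → ∀ R : Subgroup G, IsPGroup q R →
      (∀ a, ∀ x ∈ R, φ a x ∈ R) → ∀ x ∈ R, ∀ y ∈ R, Commute (ρ (inl x)) (ρ (inl y)) := by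
    intro q hq hqs R hR hRφ x hx y hy
    by_cases hR1 : R = ⊥
    · rw [hR1, Subgroup.mem_bot] at hx
      rw [hx, map_one, map_one]
      exact Commute.one_left _
    haveI := Fact.mk hq
    have hqG : q ∣ Nat.card G := by
      obtain ⟨i, hi⟩ := IsPGroup.iff_card.mp hR
      refine dvd_trans ?_ (hi ▸ Subgroup.card_subgroup_dvd_card R)
      refine dvd_pow_self q fun e => hR1 (Subgroup.card_eq_one.mp ?_)
      rw [hi, e, pow_zero]
    refine image_commute_symThree ρ A' hc'A hc'3 hc'1 hne' hout' hsum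
      (by exact_mod_cast hcast Nat.prime_two (by omega)) (by exact_mod_cast hcast Nat.prime_three (by omega))
      hq (hnot hq hqG) (hcast hq hqs) (R.map inl) (Coprime.inr_le_normalizer_map φ hRφ) (hR.map inl)
      (hcop' R) ?_ ?_ _ (Subgroup.mem_map_of_mem _ hx) _ (Subgroup.mem_map_of_mem _ hy)
    · rintro _ ⟨z, -, rfl⟩ hz
      rw [hcent z hz, map_one]
    · rintro _ ⟨z, hz, rfl⟩ hcz
      obtain ⟨i, hi⟩ := hR ⟨z, hz⟩
      exact hDfix z ((hfix_inl c z).mp hcz) ⟨q ^ i, Nat.Coprime.pow_left _ ((Nat.coprime_primes hq hs).mpr hqs),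
        by rw [show z ^ q ^ i = 1 from congrArg Subtype.val hi]; exact one_mem _⟩
  have hinvρ : ∀ g : G, ρ (inl g) * ρ (inl g⁻¹) = 1 := fun g => by
    rw [← map_mul, ← map_mul, mul_inv_cancel, map_one, map_one]
  have hρcomm : ∀ {x y : G}, Commute (ρ (inl x)) (ρ (inl y)) →
      ⁅x, y⁆ ∈ Subgroup.centralizer (V : Set G) := fun {x y} h => hρker (by
    rw [commutatorElement_def, map_mul, map_mul, map_mul, map_mul, map_mul, map_mul, h.eq,
      mul_assoc (ρ (inl y)), hinvρ, mul_one, hinvρ])
  -- the `q`-part of `M` modulo the centralizer of `V`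
  have hMq : ∀ (q : ℕ), q.Prime → ∀ x ∈ (Cfsg.pCore q (G ⧸ V)).comap π,
      x ∈ Subgroup.centralizer (V : Set G) → x ∈ F := by
    intro q hq x hx hxV
    haveI := Fact.mk hq
    set Mq := (Cfsg.pCore q (G ⧸ V)).comap π with hMq
    haveI : Mq.Normal := Subgroup.Normal.comap inferInstance π
    let C := Subgroup.centralizer (V : Set G) ⊓ Mq
    haveI : C.Normal := inferInstance
    have hC : Group.IsNilpotent C := by
      haveI := (Cores.pCore_isPGroup q (G ⧸ V)).isNilpotent
      refine Subgroup.isNilpotent_of_ker_le_center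
        ((π.comp C.subtype).codRestrict (Cfsg.pCore q (G ⧸ V)) fun c => (Subgroup.mem_inf.mp c.2).2) ?_
      intro c hc
      rw [MonoidHom.mem_ker] at hc
      have hcV : (c : G) ∈ V := (QuotientGroup.eq_one_iff _).mp (congrArg Subtype.val hc)
      exact Subgroup.mem_center_iff.mpr fun d => Subtype.ext
        (Subgroup.mem_centralizer_iff.mp (Subgroup.mem_inf.mp d.2).1 c hcV).symm
    exact Cores.le_fittingSubgroup inferInstance hC (Subgroup.mem_inf.mpr ⟨hxV, hx⟩)
  have hMs : ∀ x ∈ (Cfsg.pCore s (G ⧸ V)).comap π, x ∈ F := by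
    intro x hx
    haveI : ((Cfsg.pCore s (G ⧸ V)).comap π).Normal := Subgroup.Normal.comap inferInstance π
    have hMp : IsPGroup s ((Cfsg.pCore s (G ⧸ V)).comap π : Subgroup G) := fun z => by
      obtain ⟨i, hi⟩ := Cores.pCore_isPGroup s (G ⧸ V) ⟨π z, z.2⟩
      refine ⟨i + 1, Subtype.ext ?_⟩
      rw [SubmonoidClass.coe_pow, pow_succ, pow_mul]
      refine hVexp _ ((QuotientGroup.eq_one_iff _).mp ?_)
      simpa [π] using congrArg Subtype.val hi
    exact ((Cores.le_pCore inferInstance hMp).trans (Cores.pCore_le_fittingSubgroup s)) hx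
  -- invariant Sylow subgroups
  have hSyl : ∀ r : ℕ, r.Prime → ∃ R : Sylow r G, ∀ a, ∀ x ∈ (R : Subgroup G), φ a x ∈ (R : Subgroup G) := by
    intro r hr
    haveI := Fact.mk hr
    obtain ⟨R, -, hR⟩ := Coprime.exists_invariant_sylow_external φ hcopG (Or.inl hAsolv) r ⊥
      (IsPGroup.of_bot) (fun a u hu => by rw [Subgroup.mem_bot] at hu ⊢; rw [hu, map_one])
    exact ⟨R, hR⟩
  -- the parts of `M`
  have key : ∀ (q r : ℕ), q.Prime → r.Prime → r ≠ q → ∀ (R : Subgroup G), IsPGroup r R →
      (∀ a, ∀ y ∈ R, φ a y ∈ R) → ∀ x ∈ (Cfsg.pCore q (G ⧸ V)).comap π, ∀ y ∈ R, ⁅x, y⁆ ∈ F := by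
    intro q r hq hr hrq R hR hRφ x hx y hy
    haveI := Fact.mk hq
    haveI := Fact.mk hr
    set Mq := (Cfsg.pCore q (G ⧸ V)).comap π with hMqd
    haveI : Mq.Normal := Subgroup.Normal.comap inferInstance π
    have hMqφ : ∀ a, ∀ z ∈ Mq, φ a z ∈ Mq := fun a z hz => by
      have h1 := apply_mem_of_characteristic (quotAut (φ a) V (hVφ a)) (Cfsg.pCore q (G ⧸ V))
        (show ((z : G) : G ⧸ V) ∈ Cfsg.pCore q (G ⧸ V) from hz)
      rw [quotAut_mk] at h1
      exact h1
    have hpow : ∀ z ∈ Mq, ∃ i, z ^ q ^ i ∈ V := fun z hz => by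
      obtain ⟨i, hi⟩ := Cores.pCore_isPGroup q (G ⧸ V) ⟨π z, hz⟩
      refine ⟨i, (QuotientGroup.eq_one_iff _).mp ?_⟩
      simpa [π] using congrArg Subtype.val hi
    have hcomm' : ⁅x, y⁆ ∈ Mq := by
      rw [commutatorElement_def, show x * y * x⁻¹ * y⁻¹ = x * (y * x⁻¹ * y⁻¹) by group]
      exact mul_mem hx (Subgroup.Normal.conj_mem inferInstance _ (inv_mem hx) y)
    by_cases hqs : q = s
    · subst hqs
      exact hMs _ hcomm'
    refine hMq q hq _ hcomm' (hρcomm ?_)
    by_cases hx0 : q ∣ Nat.card G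
    swap
    · -- the image of `x` is trivial
      obtain ⟨i, hi⟩ := hpow x hx
      have hxV : x ∈ V := by
        have h1 : (q ^ i).Coprime (Nat.card G) := Nat.Coprime.pow_left _ (hq.coprime_iff_not_dvd.mpr hx0)
        have h2 : orderOf (π x) ∣ Nat.card G :=
          (orderOf_map_dvd π x).trans (orderOf_dvd_natCard x)
        have h3 : orderOf (π x) ∣ q ^ i := orderOf_dvd_of_pow_eq_one (by
          rw [← map_pow]; exact (QuotientGroup.eq_one_iff _).mpr hi)
        exact (QuotientGroup.eq_one_iff _).mp (orderOf_eq_one_iff.mp (Nat.eq_one_of_dvd_coprimes h1 h3 h2))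
      rw [hρV x hxV]
      exact Commute.one_left _
    have hq5 := hnot hq hx0
    -- the image of `Mq` is abelian
    obtain ⟨P, hP⟩ := hSyl q hq
    have hMqP : ∀ z ∈ Mq, ∃ z' ∈ (P : Subgroup G), ρ (inl z) = ρ (inl z') := by
      intro z hz
      have h1 := Cores.pCore_le_sylow (P.mapSurjective (QuotientGroup.mk'_surjective V)) hz
      rw [Sylow.coe_mapSurjective] at h1
      obtain ⟨z', hz', e⟩ := h1
      refine ⟨z', hz', ?_⟩
      have hv : z'⁻¹ * z ∈ V := QuotientGroup.eq.mp e
      rw [show z = z' * (z'⁻¹ * z) by group, map_mul, map_mul, hρV _ hv, mul_one]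
    have hDc : ∀ a ∈ Mq.map (inl : G →* G ⋊[φ] A), ∀ b ∈ Mq.map (inl : G →* G ⋊[φ] A),
        Commute (ρ a) (ρ b) := by
      rintro _ ⟨a, ha, rfl⟩ _ ⟨b, hb, rfl⟩
      obtain ⟨a', ha', ea⟩ := hMqP a ha
      obtain ⟨b', hb', eb⟩ := hMqP b hb
      rw [ea, eb]
      exact himg q hq hqs _ P.2 hP a' ha' b' hb'
    have hc := frobenius_abelian_core ρ A' (c := c') hc'A Nat.prime_three hc'3 hc'1 Nat.prime_two
      (by norm_num)
      (fun g hg => by
        refine Coprime.mem_normalizer_of_conj_smul_eq (Coprime.eq_of_le_of_card_le ?_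
          (Coprime.card_conj_smul g _).ge)
        intro t ht
        rw [Coprime.mem_conj_smul] at ht
        obtain ⟨m, hm⟩ := (isOfFinOrder_of_finite c').mem_powers_iff_mem_zpowers.mpr ht
        dsimp only at hm
        have e : t = g * c' ^ m * g⁻¹ := by rw [hm]; group
        by_cases hgT : g ∈ Subgroup.zpowers c'
        · rw [e]
          exact mul_mem (mul_mem hgT (pow_mem (Subgroup.mem_zpowers c') m)) (inv_mem hgT)
        · rw [e, ← conj_pow, (hout' g hg hgT).2.1]
          exact pow_mem (inv_mem (Subgroup.mem_zpowers c')) m)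
      (fun g hg hgT => ⟨by rw [sq]; exact (hout' g hg hgT).1, (hout' g hg hgT).2.2⟩)
      hsum hq hr hrq (by omega) (by omega) (hcast hq hqs) (Mq.map inl) (R.map inl)
      (Coprime.inr_le_normalizer_map φ hMqφ) (Coprime.inr_le_normalizer_map φ hRφ)
      (fun z hz => by
        obtain ⟨z', -, rfl⟩ := hz
        exact Subgroup.le_normalizer_map (inl : G →* G ⋊[φ] A)
          ⟨z', (Subgroup.normalizer_eq_top_iff.mpr ‹Mq.Normal›).symm ▸ Subgroup.mem_top z', rfl⟩)
      (by
        rintro _ ⟨z, hz, rfl⟩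
        obtain ⟨i, hi⟩ := hpow z hz
        exact ⟨i, by rw [← map_pow, ← map_pow, hρV _ hi]⟩)
      hDc (hR.map inl) (Coprime.isSolvable_of_surjective'
        (MonoidHom.rangeRestrict_surjective (inr : A →* G ⋊[φ] A)) hAsolv)
      (hcop' Mq) (hcop' R)
      (by
        rintro _ ⟨z, -, rfl⟩ hz
        rw [hcent z hz, map_one, map_one])
      (by
        rintro _ ⟨z, -, rfl⟩ hz
        rw [hcent z hz, map_one])
      (by
        rintro _ ⟨z, hz, rfl⟩ hcz
        obtain ⟨i, hi⟩ := hpow z hz
        exact hDfix z ((hfix_inl c z).mp hcz)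
          ⟨q ^ i, Nat.Coprime.pow_left _ ((Nat.coprime_primes hq hs).mpr hqs), hi⟩)
      (by
        rintro _ ⟨z, hz, rfl⟩ _ ⟨y', hy', rfl⟩ hcz hcy
        obtain ⟨i, hi⟩ := hpow z hz
        obtain ⟨j, hj⟩ := hR ⟨y', hy'⟩
        have hj' : y' ^ r ^ j = 1 := congrArg Subtype.val hj
        refine Commute.map (commute_of_commute_pow (Γ := MulAut V') (x := ψ (inl z)) (y := ψ (inl y'))
          (m := q ^ i) (n := r ^ (orderOf z).factorization r)
          (Nat.Coprime.pow _ _ ((Nat.coprime_primes hq hr).mpr (Ne.symm hrq))) ?_ ?_) ρ₀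
        · rw [← map_pow, ← map_pow, show ψ (inl (z ^ q ^ i)) = 1 from
            hρ₀ ((hρV _ hi).trans (map_one ρ₀).symm)]
          exact Commute.one_left _
        · rw [← map_pow, ← map_pow]
          refine ((hnil _ _ (by rw [map_pow, (hfix_inl c z).mp hcz]) ((hfix_inl c y').mp hcy)
            ?_).map inl).map ψ
          refine Nat.Coprime.coprime_dvd_right (orderOf_dvd_of_pow_eq_one hj') ?_
          rw [orderOf_pow' _ (pow_ne_zero _ hr.ne_zero),
            Nat.gcd_eq_right (Nat.ordProj_dvd (orderOf z) r)]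
          exact Nat.Coprime.pow_right _ (Nat.coprime_ordCompl hr (orderOf_pos z).ne').symm)
    exact hc _ (Subgroup.mem_map_of_mem _ hx) _ (Subgroup.mem_map_of_mem _ hy)
  -- the quotient by the Fitting subgroup
  let mk := QuotientGroup.mk' F
  have hmk : Function.Surjective mk := QuotientGroup.mk'_surjective F
  -- each Sylow subgroup is normal and abelian modulo the Fitting subgroup
  have hgood : ∀ r : ℕ, r.Prime → ∃ R : Sylow r G, ((R : Subgroup G).map mk).Normal ∧
      ∀ x ∈ (R : Subgroup G), ∀ y ∈ (R : Subgroup G), ⁅x, y⁆ ∈ F := by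
    intro r hr
    haveI := Fact.mk hr
    obtain ⟨R, hR⟩ := hSyl r hr
    refine ⟨R, ?_, ?_⟩
    · set Rb : Sylow r (G ⧸ F) := R.mapSurjective hmk with hRb
      have hnorm : M.map mk ≤ Subgroup.normalizer ((Rb : Subgroup (G ⧸ F)) : Set (G ⧸ F)) := by
        rintro _ ⟨m, hm, rfl⟩
        rw [SetLike.mem_coe, hM, Subgroup.mem_comap, Cores.fittingSubgroup_eq_iSup] at hm
        let T : Subgroup G := (Subgroup.normalizer ((Rb : Subgroup (G ⧸ F)) : Set (G ⧸ F))).comap mk
        have h1 : ⨆ q : Nat.Primes, Cfsg.pCore (q : ℕ) (G ⧸ V) ≤ T.map π := iSup_le fun q z hz => by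
          obtain ⟨x, rfl⟩ := QuotientGroup.mk'_surjective V z
          refine ⟨x, ?_, rfl⟩
          show mk x ∈ Subgroup.normalizer ((Rb : Subgroup (G ⧸ F)) : Set (G ⧸ F))
          haveI : Fact (q : ℕ).Prime := ⟨q.2⟩
          by_cases hqr : (q : ℕ) = r
          · refine Subgroup.le_normalizer ?_
            have hx' : mk x ∈ Cfsg.pCore r (G ⧸ F) := by
              refine (Cores.le_pCore (N := ((Cfsg.pCore (q : ℕ) (G ⧸ V)).comap π).map mk)
                ((Subgroup.Normal.comap inferInstance π).map mk hmk) ?_) (Subgroup.mem_map_of_mem mk hz)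
              rintro ⟨_, w, hw, rfl⟩
              obtain ⟨i, hi⟩ := Cores.pCore_isPGroup (q : ℕ) (G ⧸ V) ⟨π w, hw⟩
              refine ⟨i, Subtype.ext ?_⟩
              show mk w ^ r ^ i = 1
              rw [← map_pow, ← hqr]
              refine (QuotientGroup.eq_one_iff _).mpr (hVF ((QuotientGroup.eq_one_iff _).mp ?_))
              simpa [π] using congrArg Subtype.val hi
            exact Cores.pCore_le_sylow Rb hx'
          · rw [Subgroup.mem_normalizer_iff]
            have hcx : ∀ x' ∈ (Cfsg.pCore (q : ℕ) (G ⧸ V)).comap π, ∀ w ∈ (Rb : Subgroup (G ⧸ F)),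
                mk x' * w * (mk x')⁻¹ = w := by
              rintro x' hx' _ ⟨y, hy, rfl⟩
              rw [mul_inv_eq_iff_eq_mul, ← map_mul, ← map_mul]
              refine QuotientGroup.eq_iff_div_mem.mpr ?_
              rw [div_eq_mul_inv, show x' * y * (y * x')⁻¹ = ⁅x', y⁆ by
                rw [commutatorElement_def]; group]
              exact key q r q.2 hr (Ne.symm hqr) R R.2 hR x' hx' y hy
            intro w
            refine ⟨fun hw => by rw [hcx x hz w hw]; exact hw, fun hw => ?_⟩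
            have h2 := hcx x⁻¹ (inv_mem hz) _ hw
            rw [map_inv] at h2
            have h3 : w = mk x * w * (mk x)⁻¹ := by
              conv_rhs => rw [← h2]
              group
            rwa [h3]
        obtain ⟨t, ht, htm⟩ := h1 hm
        have h2 : t⁻¹ * m ∈ T := by
          show mk (t⁻¹ * m) ∈ Subgroup.normalizer ((Rb : Subgroup (G ⧸ F)) : Set (G ⧸ F))
          rw [show mk (t⁻¹ * m) = 1 from
            (QuotientGroup.eq_one_iff _).mpr (hVF ((QuotientGroup.eq).mp htm))]
          exact one_mem _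
        have h3 := mul_mem ht h2
        rw [mul_inv_cancel_left] at h3
        exact h3
      set Y := (R : Subgroup G) ⊔ M with hY
      haveI : Y.Normal := by
        refine ⟨fun y hy g => ?_⟩
        rw [show g * y * g⁻¹ = ⁅g, y⁆ * y by rw [commutatorElement_def]; group]
        exact mul_mem (Subgroup.mem_sup_right (hGM (Subgroup.commutator_mem_commutator
          (Subgroup.mem_top g) (Subgroup.mem_top y)))) hy
      have hYn : (Y.map mk).Normal := ‹Y.Normal›.map mk hmk
      have hsub : (Rb : Subgroup (G ⧸ F)).IsSubnormal := by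
        refine Subgroup.IsSubnormal.step _ (Y.map mk) (Subgroup.map_mono le_sup_left)
          (Subgroup.Normal.isSubnormal hYn) (Subgroup.normal_subgroupOf_of_le_normalizer ?_)
        rw [hY, Subgroup.map_sup]
        exact sup_le Subgroup.le_normalizer hnorm
      have hPeq : (Rb : Subgroup (G ⧸ F)) = Cfsg.pCore r (G ⧸ F) :=
        le_antisymm (Cores.le_pCore_of_isSubnormal hsub Rb.2) (Cores.pCore_le_sylow Rb)
      have : ((Rb : Subgroup (G ⧸ F))).Normal := by rw [hPeq]; infer_instance
      exact this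
    · intro x hx y hy
      have hxyR : ⁅x, y⁆ ∈ (R : Subgroup G) := by
        rw [commutatorElement_def]
        exact mul_mem (mul_mem (mul_mem hx hy) (inv_mem hx)) (inv_mem hy)
      have hxyM : ⁅x, y⁆ ∈ M :=
        hGM (Subgroup.commutator_mem_commutator (Subgroup.mem_top x) (Subgroup.mem_top y))
      have hxyMr : ⁅x, y⁆ ∈ (Cfsg.pCore r (G ⧸ V)).comap π := by
        rw [Subgroup.mem_comap]
        haveI := Cores.fittingSubgroup_isNilpotent (G ⧸ V)
        obtain ⟨P⟩ : Nonempty (Sylow r (Cfsg.fittingSubgroup (G ⧸ V))) := inferInstance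
        haveI : (P : Subgroup (Cfsg.fittingSubgroup (G ⧸ V))).Normal :=
          (Group.isNilpotent_of_finite_tfae.out 0 3 rfl rfl).mp ‹Group.IsNilpotent _› r ‹_› P
        obtain ⟨i, hi⟩ := R.2 ⟨_, hxyR⟩
        have hpz : IsPGroup r (Subgroup.zpowers (⟨π ⁅x, y⁆, hxyM⟩ : Cfsg.fittingSubgroup (G ⧸ V))) := by
          refine IsPGroup.of_card (n := ((orderOf (⟨π ⁅x, y⁆, hxyM⟩ :
            Cfsg.fittingSubgroup (G ⧸ V))).factorization r)) ?_
          rw [Nat.card_zpowers]
          obtain ⟨j, -, hj⟩ := (Nat.dvd_prime_pow hr).mp (orderOf_dvd_of_pow_eq_one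
            (show (⟨π ⁅x, y⁆, hxyM⟩ : Cfsg.fittingSubgroup (G ⧸ V)) ^ r ^ i = 1 from Subtype.ext (by
              show π ⁅x, y⁆ ^ r ^ i = 1
              rw [← map_pow, show ⁅x, y⁆ ^ r ^ i = 1 from congrArg Subtype.val hi, map_one])))
          rw [hj, hr.factorization_pow, Finsupp.single_eq_same]
        have h1 : (⟨π ⁅x, y⁆, hxyM⟩ : Cfsg.fittingSubgroup (G ⧸ V)) ∈ (P : Subgroup _) := by
          obtain ⟨Q, hQ⟩ := hpz.exists_le_sylow
          haveI := Sylow.unique_of_normal P ‹_›
          rw [Subsingleton.elim P Q]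
          exact hQ (Subgroup.mem_zpowers _)
        have h2 : (P : Subgroup (Cfsg.fittingSubgroup (G ⧸ V))).map
            (Cfsg.fittingSubgroup (G ⧸ V)).subtype ≤ Cfsg.pCore r (G ⧸ V) := by
          haveI := Sylow.characteristic_of_normal P ‹_›
          exact Cores.le_pCore inferInstance (P.2.map _)
        exact h2 ⟨_, h1, rfl⟩
      by_cases hrs : r = s
      · exact hMs _ (hrs ▸ hxyMr)
      · exact hMq r hr _ hxyMr (hρcomm (himg r hr hrs _ R.2 hR x hx y hy))
  -- the quotient is abelian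
  choose R hRn hRc using hgood
  have hcommR : ∀ (r l : ℕ) (hr : r.Prime) (hl : l.Prime), ∀ x ∈ ((R r hr : Subgroup G).map mk),
      ∀ y ∈ ((R l hl : Subgroup G).map mk), Commute x y := by
    intro r l hr hl x hx y hy
    haveI := Fact.mk hr
    haveI := Fact.mk hl
    by_cases hrl : r = l
    · subst hrl
      obtain ⟨x', hx', rfl⟩ := hx
      obtain ⟨y', hy', rfl⟩ := hy
      rw [← commutatorElement_eq_one_iff_commute, ← map_commutatorElement]
      exact (QuotientGroup.eq_one_iff _).mpr (hRc r hr x' hx' y' hy')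
    · exact Subgroup.commute_of_normal_of_disjoint _ _ (hRn r hr) (hRn l hl)
        (IsPGroup.disjoint_of_ne r l hrl _ _ ((R r hr).2.map mk) ((R l hl).2.map mk)) x y hx hy
  let U : Subgroup (G ⧸ F) := ⨆ r : Nat.Primes, (R r r.2 : Subgroup G).map mk
  have hUtop : U = ⊤ := by
    refine Subgroup.index_eq_one.mp (Nat.eq_one_iff_not_exists_prime_dvd.mpr fun l hl hd => ?_)
    haveI := Fact.mk hl
    have h1 : ((R l hl).mapSurjective hmk : Subgroup (G ⧸ F)) ≤ U :=
      le_iSup (fun r : Nat.Primes => (R r r.2 : Subgroup G).map mk) ⟨l, hl⟩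
    exact ((R l hl).mapSurjective hmk).not_dvd_index (hd.trans (Subgroup.index_dvd_of_le h1))
  have hUc : U ≤ Subgroup.center (G ⧸ F) := by
    refine iSup_le fun r x hx => Subgroup.mem_center_iff.mpr fun y => ?_
    have h1 : U ≤ Subgroup.centralizer {x} := iSup_le fun l z hz =>
      Subgroup.mem_centralizer_iff.mpr fun w hw => by
        rw [Set.mem_singleton_iff.mp hw]
        exact hcommR r l r.2 l.2 x hx z hz
    exact (Subgroup.mem_centralizer_iff.mp (h1 (hUtop ▸ Subgroup.mem_top y)) x rfl).symm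
  rw [commutator_def, Subgroup.commutator_le]
  intro x _ y _
  rw [← QuotientGroup.eq_one_iff]
  have hcomm := Subgroup.mem_center_iff.mp (hUc (hUtop ▸ Subgroup.mem_top (mk x))) (mk y)
  show mk ⁅x, y⁆ = 1
  rw [map_commutatorElement, commutatorElement_eq_one_iff_commute]
  exact hcomm.symm

end Cfsg.Agent.Lib.Solvable.FPF
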